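import Cfsg.Agent.Criterion.Action.Descend
import Cfsg.Agent.Criterion.Consumers
import Cfsg.Agent.Solvable.PGroupBasic
import Cfsg.Agent.BenderLocal.OneClassEnd
import Cfsg.Agent.S1265
import Cfsg.Prelude.Def_Local
import Cfsg.Prelude.Def_TwoFusion

/-!
Rows following from the criterion: Aschbacher's criterion, strongly closed subgroups in simple
groups, tightly embedded subgroups.
-/

set_option autoImplicit false
set_option linter.unusedSectionVars false
set_option linter.style.haveILetI false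

namespace CfsgLib.Criterion.Act

open Subgroup MulAction

universe u

variable {G : Type u} [Group G] [Finite G]

theorem invol_mul {x y : G} (hx : x * x = 1) (hy : y * y = 1) (hc : x * y = y * x) :
    x * y * (x * y) = 1 := by
  nth_rewrite 2 [hc]
  rw [mul_assoc, ← mul_assoc y y x, hy, one_mul, hx]

theorem conj_invol {x : G} (hx : x * x = 1) (g : G) : g * x * g⁻¹ * (g * x * g⁻¹) = 1 := by
  rw [show g * x * g⁻¹ * (g * x * g⁻¹) = g * (x * x) * g⁻¹ by group, hx, mul_one, mul_inv_cancel]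

/-- A Sylow subgroup of a subgroup containing the normalizer data is one of the whole group. -/
theorem eq_of_normalizer_fixed {M : Subgroup G} {Q : Subgroup G} (S : Sylow 2 G)
    (hQS : Q ≤ (S : Subgroup G)) (hQM : Q ≤ M) (hQsyl : ∀ R : Subgroup G, R ≤ M → IsPGroup 2 R → Q ≤ R → R = Q)
    (hN : normalizer (Q : Set G) ≤ M) : Q = (S : Subgroup G) := by
  haveI : Fact (Nat.Prime 2) := ⟨Nat.prime_two⟩
  by_contra hne
  obtain ⟨w, hwS, hwN, hwQ⟩ := CfsgLib.LocalB.exists_mem_normalizer_not_mem S.2 hQS hne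
  have h := hQsyl (Q ⊔ zpowers w) (sup_le hQM (zpowers_le.2 (hN hwN)))
    (S.2.to_le (sup_le hQS (zpowers_le.2 hwS))) le_sup_left
  exact hwQ (h ▸ mem_sup_right (mem_zpowers w))

/-- The setting on the cosets of `M`. -/
theorem setting_of_data {M : Subgroup G} (hM : M ≠ ⊤) {z : G} (hz : orderOf z = 2) (hzM : z ∈ M)
    (h1 : ∃ S : Sylow 2 G, z ∈ S ∧ ∀ s ∈ S, s * z = z * s)
    (h2 : ∀ g : G, g * z * g⁻¹ ∈ M → g ∈ M)
    (h3 : ∀ g : G, Commute z (g * z * g⁻¹) → g * z * g⁻¹ ≠ z →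
      centralizer ({z * (g * z * g⁻¹)} : Set G) ≤ M) :
    Setting G (G ⧸ M) (QuotientGroup.mk 1) z := by
  haveI : Fact (Nat.Prime 2) := ⟨Nat.prime_two⟩
  obtain ⟨S, hzS, hS⟩ := h1
  have hCz : ∀ c : G, c * z = z * c → c ∈ M := fun c hc => h2 c (by rwa [hc, mul_inv_cancel_right])
  have hSM : (S : Subgroup G) ≤ M := fun s hs => hCz s (hS s hs)
  have hfix : ∀ b : G ⧸ M, z • b = b ↔ b = QuotientGroup.mk 1 := fun b => by
    obtain ⟨g, rfl⟩ := QuotientGroup.mk_surjective b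
    rw [CfsgLib.StrongEmbed.smul_mk_iff, QuotientGroup.eq, mul_one, inv_mem_iff]
    refine ⟨fun h => ?_, fun h => mul_mem (mul_mem (inv_mem h) hzM) h⟩
    exact inv_mem_iff.1 (h2 g⁻¹ (by rwa [inv_inv]))
  refine ⟨hz, ⟨S, hzS, hS⟩, hfix, ?_, ?_⟩
  · obtain ⟨g, -, hg⟩ := SetLike.exists_of_lt (lt_top_iff_ne_top.2 hM)
    exact ⟨QuotientGroup.mk g, fun e => hg (by simpa using inv_mem (QuotientGroup.eq.1 e.symm))⟩
  -- products of two commuting conjugates
  have base : ∀ g : G, z * (g * z * g⁻¹) = g * z * g⁻¹ * z → g * z * g⁻¹ ≠ z →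
      ∀ b : G ⧸ M, (z * (g * z * g⁻¹)) • b = b → b = QuotientGroup.mk 1 := by
    intro g hc hne b hb
    obtain ⟨k, rfl⟩ := QuotientGroup.mk_surjective b
    set v := z * (g * z * g⁻¹) with hv
    rw [CfsgLib.StrongEmbed.smul_mk_iff] at hb
    have hzz : z * z = 1 := by rw [← sq, ← hz, pow_orderOf_eq_one]
    have hvv : v * v = 1 := invol_mul hzz (conj_invol hzz g) hc
    have hw : (⟨k⁻¹ * v * k, hb⟩ : M) * ⟨k⁻¹ * v * k, hb⟩ = 1 := Subtype.ext (by
      show k⁻¹ * v * k * (k⁻¹ * v * k) = 1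
      rw [show k⁻¹ * v * k * (k⁻¹ * v * k) = k⁻¹ * (v * v) * k by group, hvv, mul_one, inv_mul_cancel])
    obtain ⟨T, hT⟩ := (isPGroup_zpowers_two hw).exists_le_sylow
    obtain ⟨m, hm⟩ := MulAction.exists_smul_eq M T (S.subtype hSM)
    have hmem : (m : G) * (k⁻¹ * v * k) * (m : G)⁻¹ ∈ (S : Subgroup G) := by
      have h1 : MulAut.conj m • (⟨k⁻¹ * v * k, hb⟩ : M) ∈ (S.subtype hSM : Subgroup M) := by
        rw [← hm, Sylow.coe_subgroup_smul]
        exact smul_mem_pointwise_smul _ _ _ (hT (mem_zpowers _))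
      simpa [mem_subgroupOf] using h1
    have hcomm := hS _ hmem
    have hx : k * (m : G)⁻¹ * z * (k * (m : G)⁻¹)⁻¹ ∈ centralizer ({v} : Set G) := by
      rw [mem_centralizer_singleton_iff]
      calc k * (m : G)⁻¹ * z * (k * (m : G)⁻¹)⁻¹ * v
          = k * (m : G)⁻¹ * (z * ((m : G) * (k⁻¹ * v * k) * (m : G)⁻¹)) * m * k⁻¹ := by group
        _ = k * (m : G)⁻¹ * ((m : G) * (k⁻¹ * v * k) * (m : G)⁻¹ * z) * m * k⁻¹ := by rw [hcomm]
        _ = v * (k * (m : G)⁻¹ * z * (k * (m : G)⁻¹)⁻¹) := by group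
    have hkm : k * (m : G)⁻¹ ∈ M := h2 _ (h3 g hc hne hx)
    refine QuotientGroup.eq.2 ?_
    rw [mul_one]
    exact inv_mem (by simpa using mul_mem hkm m.2)
  intro x y hx hy hxy hne b c hb hc
  obtain ⟨g, rfl⟩ := isConj_iff.1 hx
  obtain ⟨g', rfl⟩ := isConj_iff.1 hy
  set k := g⁻¹ * g' with hk
  have hy' : g' * z * g'⁻¹ = g * (k * z * k⁻¹) * g⁻¹ := by rw [hk]; group
  have hc' : z * (k * z * k⁻¹) = k * z * k⁻¹ * z := by
    rw [hy'] at hxy
    refine mul_left_cancel (a := g) (mul_right_cancel (b := g⁻¹) ?_)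
    calc g * (z * (k * z * k⁻¹)) * g⁻¹ = g * z * g⁻¹ * (g * (k * z * k⁻¹) * g⁻¹) := by group
      _ = g * (k * z * k⁻¹) * g⁻¹ * (g * z * g⁻¹) := hxy
      _ = g * (k * z * k⁻¹ * z) * g⁻¹ := by group
  have hne' : k * z * k⁻¹ ≠ z := fun e => hne (by rw [hy', e])
  have key : ∀ d : G ⧸ M, (g * z * g⁻¹ * (g' * z * g'⁻¹)) • d = d → g⁻¹ • d = QuotientGroup.mk 1 := by
    intro d hd
    refine base k hc' hne' _ ?_
    have e : z * (k * z * k⁻¹) = g⁻¹ * (g * z * g⁻¹ * (g' * z * g'⁻¹)) * g := by rw [hy']; group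
    rw [e, mul_smul, mul_smul, smul_inv_smul, hd]
  exact smul_left_cancel g⁻¹ ((key b hb).trans (key c hc).symm)

/-- Strong embedding in the normal closure, when `M` contains no nontrivial normal subgroup. -/
theorem stronglyEmbedded_of_core (hcore : Core.{u}) {M : Subgroup G} (hM : M ≠ ⊤) {z : G}
    (hcoreM : M.normalCore = ⊥) (h : Setting G (G ⧸ M) (QuotientGroup.mk 1) z) :
    Cfsg.IsStronglyEmbedded (M.subgroupOf (normalClosure ({z} : Set G))) := by
  haveI : FaithfulSMul G (G ⧸ M) := ⟨fun {g g'} he => by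
    have hmem : g'⁻¹ * g ∈ (MulAction.toPermHom G (G ⧸ M)).ker := MonoidHom.mem_ker.2 (Equiv.ext fun b => by
      show (g'⁻¹ * g) • b = b
      rw [mul_smul, he b, inv_smul_smul])
    rw [← normalCore_eq_ker, hcoreM, mem_bot, inv_mul_eq_one] at hmem
    exact hmem.symm⟩
  have hse := h.stronglyEmbedded (concl_of_core hcore (Nat.card G + 1) G (G ⧸ M) (Nat.lt_succ_self _) _ _ h)
  have e : M.subgroupOf (normalClosure ({z} : Set G)) =
      stabilizer (normalClosure ({z} : Set G)) (QuotientGroup.mk 1 : G ⧸ M) := by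
    ext x
    exact (CfsgLib.StrongEmbed.smul_mk_one_iff (H := M) (g := (x : G))).symm
  rw [e]
  exact hse

theorem normalClosure_eq_top [IsSimpleGroup G] {z : G} (hz : orderOf z = 2) :
    normalClosure ({z} : Set G) = ⊤ := by
  refine (normalClosure_normal (s := ({z} : Set G))).eq_bot_or_eq_top.resolve_left fun h => ?_
  have := subset_normalClosure (Set.mem_singleton z)
  rw [h] at this
  rw [mem_bot.1 this, orderOf_one] at hz
  exact absurd hz (by decide)

theorem normalCore_eq_bot [IsSimpleGroup G] {M : Subgroup G} (hM : M ≠ ⊤) : M.normalCore = ⊥ :=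
  (normalCore_normal M).eq_bot_or_eq_top.resolve_right fun h =>
    hM (top_le_iff.1 (h ▸ normalCore_le M))

/-- Aschbacher's criterion. -/
theorem aschbacher_row (hcore : Core.{u}) [IsSimpleGroup G] (M : Subgroup G) (hM : M ≠ ⊤) (z : G)
    (hz : orderOf z = 2) (hzM : z ∈ M) (h1 : ∃ S : Sylow 2 G, z ∈ S ∧ ∀ s ∈ S, Commute s z)
    (h2 : ∀ g : G, g * z * g⁻¹ ∈ M → g ∈ M)
    (h3 : ∀ g : G, Commute z (g * z * g⁻¹) → g * z * g⁻¹ ≠ z →
      centralizer ({z * (g * z * g⁻¹)} : Set G) ≤ M) :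
    ∃ H : Subgroup G, Cfsg.IsStronglyEmbedded H :=
  ⟨M, Consumers.stronglyEmbedded_of_top (normalClosure_eq_top hz)
    (stronglyEmbedded_of_core hcore hM (normalCore_eq_bot hM) (setting_of_data hM hz hzM h1 h2 h3))⟩

theorem conj_eq_of_commute {g x : G} (h : g * x = x * g) : g * x * g⁻¹ = x := by
  rw [h, mul_inv_cancel_right]

/-- Strongly closed subgroups with proper centralizer closure. -/
theorem stronglyClosed_row (hcore : Core.{u}) [IsSimpleGroup G] (S : Sylow 2 G) (T : Subgroup G)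
    (hT1 : T ≠ ⊥) (hT : Cfsg.IsStronglyClosed T (S : Subgroup G))
    (hprop : (⨆ t : {t : G // t ∈ T ∧ orderOf t = 2}, centralizer ({(t : G)} : Set G)) ≠ ⊤) :
    ∃ H : Subgroup G, Cfsg.IsStronglyEmbedded H := by
  haveI : Fact (Nat.Prime 2) := ⟨Nat.prime_two⟩
  obtain ⟨hTS, hcl⟩ := hT
  haveI : (T.subgroupOf (S : Subgroup G)).Normal := ⟨fun t ht s =>
    hcl (t : G) ht (s : G) (mul_mem (mul_mem s.2 t.2) (inv_mem s.2))⟩
  haveI := S.2.isNilpotent
  obtain ⟨⟨c, hcT, hcZ⟩, hc⟩ := Subgroup.ne_bot_iff_exists_ne_one.1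
    (CfsgLib.PGroupBasic.inf_center_ne_bot (T.subgroupOf (S : Subgroup G))
      (fun e => hT1 (by
        rw [← map_subgroupOf_eq_of_le hTS, e, Subgroup.map_bot])))
  have hc1 : c ≠ 1 := fun e => hc (Subtype.ext e)
  obtain ⟨k, hk⟩ : ∃ k : ℕ, orderOf (c ^ k) = 2 := by
    obtain ⟨n, hn⟩ := IsPGroup.iff_orderOf.1 S.2 c
    rcases Nat.eq_zero_or_pos n with rfl | hn0
    · exact absurd (orderOf_eq_one_iff.1 (by simpa using hn)) hc1
    refine ⟨2 ^ (n - 1), ?_⟩
    rw [orderOf_pow' c (by positivity), hn, Nat.gcd_eq_right (pow_dvd_pow 2 (Nat.sub_le n 1)),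
      Nat.pow_div (Nat.sub_le n 1) (by norm_num), show n - (n - 1) = 1 by omega, pow_one]
  set z : G := ((c ^ k : (S : Subgroup G)) : G) with hzdef
  have hz : orderOf z = 2 := by rw [hzdef, Subgroup.orderOf_coe]; exact hk
  have hzT : z ∈ T := by rw [hzdef, Subgroup.coe_pow]; exact pow_mem hcT k
  have hzS : ∀ s ∈ S, s * z = z * s := fun s hs => by
    have := mem_center_iff.1 (pow_mem hcZ k) (⟨s, hs⟩ : (S : Subgroup G))
    exact congrArg Subtype.val this
  set J := ⨆ t : {t : G // t ∈ T ∧ orderOf t = 2}, centralizer ({(t : G)} : Set G) with hJ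
  set H := normalizer (J : Set G) with hH
  have hCJ : ∀ t ∈ T, orderOf t = 2 → centralizer ({t} : Set G) ≤ H := fun t ht hto =>
    le_trans (le_iSup (fun t : {t : G // t ∈ T ∧ orderOf t = 2} => centralizer ({(t : G)} : Set G))
      ⟨t, ht, hto⟩) le_normalizer
  have hHne : H ≠ ⊤ := fun e => by
    haveI : J.Normal := normalizer_eq_top_iff.1 e
    rcases (inferInstance : J.Normal).eq_bot_or_eq_top with h | h
    · have hzJ : z ∈ J := le_iSup (fun t : {t : G // t ∈ T ∧ orderOf t = 2} =>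
        centralizer ({(t : G)} : Set G)) ⟨z, hzT, hz⟩ (mem_centralizer_singleton_iff.2 rfl)
      rw [h, mem_bot] at hzJ
      rw [hzJ, orderOf_one] at hz
      exact absurd hz (by decide)
    · exact hprop h
  have hNT : ∀ n : G, (∀ t ∈ T, n * t * n⁻¹ ∈ T) → n ∈ H := by
    intro n hn
    refine CfsgLib.LocalB.mem_normalizer_of_conj_le fun x hx => ?_
    have hle : J ≤ J.comap (MulAut.conj n).toMonoidHom := iSup_le fun t c hc => by
      refine le_iSup (fun t : {t : G // t ∈ T ∧ orderOf t = 2} => centralizer ({(t : G)} : Set G))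
        ⟨n * t.1 * n⁻¹, hn _ t.2.1, (orderOf_injective (MulAut.conj n).toMonoidHom
          (MulAut.conj n).injective _).trans t.2.2⟩ (mem_centralizer_singleton_iff.2 ?_)
      show n * c * n⁻¹ * (n * t.1 * n⁻¹) = n * t.1 * n⁻¹ * (n * c * n⁻¹)
      rw [show n * c * n⁻¹ * (n * t.1 * n⁻¹) = n * (c * t.1) * n⁻¹ by group,
        mem_centralizer_singleton_iff.1 hc]
      group
    exact hle hx
  have hSH : (S : Subgroup G) ≤ H := fun s hs =>
    hCJ z hzT hz (mem_centralizer_singleton_iff.2 (hzS s hs))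
  have hzH : z ∈ H := hSH (hTS hzT)
  have h2 : ∀ g : G, g * z * g⁻¹ ∈ H → g ∈ H := by
    intro g hg
    have hy2 : (⟨g * z * g⁻¹, hg⟩ : H) * ⟨g * z * g⁻¹, hg⟩ = 1 := Subtype.ext (by
      show g * z * g⁻¹ * (g * z * g⁻¹) = 1
      rw [show g * z * g⁻¹ * (g * z * g⁻¹) = g * (z * z) * g⁻¹ by group, ← sq, ← hz,
        pow_orderOf_eq_one, mul_one, mul_inv_cancel])
    obtain ⟨R, hR⟩ := (isPGroup_zpowers_two hy2).exists_le_sylow
    obtain ⟨m, hm⟩ := MulAction.exists_smul_eq H R (S.subtype hSH)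
    have hyS : (m : G) * (g * z * g⁻¹) * (m : G)⁻¹ ∈ (S : Subgroup G) := by
      have h1 : MulAut.conj m • (⟨g * z * g⁻¹, hg⟩ : H) ∈ (S.subtype hSH : Subgroup H) := by
        rw [← hm, Sylow.coe_subgroup_smul]
        exact smul_mem_pointwise_smul _ _ _ (hR (mem_zpowers _))
      simpa [mem_subgroupOf] using h1
    set q := (m : G) * g with hq
    have hyq : q * z * q⁻¹ ∈ (S : Subgroup G) := by
      rw [show q * z * q⁻¹ = (m : G) * (g * z * g⁻¹) * (m : G)⁻¹ by rw [hq]; group]; exact hyS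
    have hyT : q * z * q⁻¹ ∈ T := hcl z hzT q hyq
    have hC := hCJ _ hyT ((orderOf_injective (MulAut.conj q).toMonoidHom
      (MulAut.conj q).injective z).trans hz)
    have hS2 : ((q • S : Sylow 2 G) : Subgroup G) ≤ H := by
      rintro _ ⟨s, hs, rfl⟩
      refine hC (mem_centralizer_singleton_iff.2 ?_)
      show q * s * q⁻¹ * (q * z * q⁻¹) = q * z * q⁻¹ * (q * s * q⁻¹)
      rw [show q * s * q⁻¹ * (q * z * q⁻¹) = q * (s * z) * q⁻¹ by group, hzS s hs]
      group
    obtain ⟨l, hl⟩ := MulAction.exists_smul_eq H ((q • S).subtype hS2) (S.subtype hSH)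
    have hn : (l : G) * q ∈ H := hNT _ fun t ht => by
      refine hcl t ht _ ?_
      have h1 : MulAut.conj l • (⟨q * t * q⁻¹, hS2 ⟨t, hTS ht, rfl⟩⟩ : H) ∈
          (S.subtype hSH : Subgroup H) := by
        rw [← hl, Sylow.coe_subgroup_smul]
        exact smul_mem_pointwise_smul _ _ _ (show (⟨q * t * q⁻¹, _⟩ : H) ∈
          (((q • S : Sylow 2 G).subtype hS2 : Sylow 2 H) : Subgroup H) from ⟨t, hTS ht, rfl⟩)
      have h2' : (l : G) * (q * t * q⁻¹) * (l : G)⁻¹ ∈ (S : Subgroup G) := by simpa [mem_subgroupOf] using h1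
      rw [show (l : G) * q * t * ((l : G) * q)⁻¹ = (l : G) * (q * t * q⁻¹) * (l : G)⁻¹ by group]
      exact h2'
    have hqH : q ∈ H := by simpa using mul_mem (inv_mem l.2) hn
    simpa [hq] using mul_mem (inv_mem m.2) hqH
  refine ⟨H, Consumers.stronglyEmbedded_of_top (normalClosure_eq_top hz)
    (stronglyEmbedded_of_core hcore hHne (normalCore_eq_bot hHne)
      (setting_of_data hHne hz hzH ⟨S, hTS hzT, hzS⟩ h2 fun g hcomm hne => ?_))⟩
  set C := centralizer ({z} : Set G) with hCdef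
  have hzz : z * z = 1 := by rw [← sq, ← hz, pow_orderOf_eq_one]
  have hSC : (S : Subgroup G) ≤ C := fun s hs => mem_centralizer_singleton_iff.2 (hzS s hs)
  have hgC : g * z * g⁻¹ ∈ C := mem_centralizer_singleton_iff.2 hcomm.eq.symm
  obtain ⟨R, hR⟩ := (isPGroup_zpowers_two (x := (⟨g * z * g⁻¹, hgC⟩ : C)) (Subtype.ext (by
      show g * z * g⁻¹ * (g * z * g⁻¹) = 1
      rw [show g * z * g⁻¹ * (g * z * g⁻¹) = g * (z * z) * g⁻¹ by group, hzz, mul_one,
        mul_inv_cancel]))).exists_le_sylow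
  obtain ⟨d, hd⟩ := MulAction.exists_smul_eq C R (S.subtype hSC)
  have hdS : (d : G) * (g * z * g⁻¹) * (d : G)⁻¹ ∈ (S : Subgroup G) := by
    have h1 : MulAut.conj d • (⟨g * z * g⁻¹, hgC⟩ : C) ∈ (S.subtype hSC : Subgroup C) := by
      rw [← hd, Sylow.coe_subgroup_smul]
      exact smul_mem_pointwise_smul _ _ _ (hR (mem_zpowers _))
    simpa [mem_subgroupOf] using h1
  have hdT : (d : G) * (g * z * g⁻¹) * (d : G)⁻¹ ∈ T := by
    have := hcl z hzT ((d : G) * g) (by
      rwa [show (d : G) * g * z * ((d : G) * g)⁻¹ = (d : G) * (g * z * g⁻¹) * (d : G)⁻¹ by group])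
    rwa [show (d : G) * g * z * ((d : G) * g)⁻¹ = (d : G) * (g * z * g⁻¹) * (d : G)⁻¹ by group] at this
  have hdz : (d : G) * z = z * (d : G) := mem_centralizer_singleton_iff.1 d.2
  set v := z * (g * z * g⁻¹)
  have hv : (d : G) * v * (d : G)⁻¹ = z * ((d : G) * (g * z * g⁻¹) * (d : G)⁻¹) := by
    calc (d : G) * v * (d : G)⁻¹ = (d : G) * z * (d : G)⁻¹ * ((d : G) * (g * z * g⁻¹) * (d : G)⁻¹) := by
          simp only [v]; group
      _ = _ := by rw [conj_eq_of_commute hdz]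
  have hv2 : orderOf v = 2 := by
    refine orderOf_eq_prime ?_ fun e => hne ?_
    · rw [sq]; exact invol_mul hzz (conj_invol hzz g) hcomm.eq
    · calc g * z * g⁻¹ = z * z * (g * z * g⁻¹) := by rw [hzz, one_mul]
        _ = z := by rw [mul_assoc, show z * (g * z * g⁻¹) = 1 from e, mul_one]
  have hle := hCJ _ (show (d : G) * v * (d : G)⁻¹ ∈ T by rw [hv]; exact mul_mem hzT hdT) ((orderOf_injective (MulAut.conj (d : G)).toMonoidHom
    (MulAut.conj (d : G)).injective v).trans hv2)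
  intro x hx
  have hdH : (d : G) ∈ H := hCJ z hzT hz d.2
  have : (d : G) * x * (d : G)⁻¹ ∈ H := hle (mem_centralizer_singleton_iff.2 (by
    show (d : G) * x * (d : G)⁻¹ * ((d : G) * v * (d : G)⁻¹) = (d : G) * v * (d : G)⁻¹ * ((d : G) * x * (d : G)⁻¹)
    rw [show (d : G) * x * (d : G)⁻¹ * ((d : G) * v * (d : G)⁻¹) = (d : G) * (x * v) * (d : G)⁻¹ by group,
      mem_centralizer_singleton_iff.1 hx]
    group))
  simpa [mul_assoc] using mul_mem (mul_mem (inv_mem hdH) this) hdH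

/-- A 2-central involution of `Q` and the setting it gives on the cosets of the normalizer. -/
theorem exists_tight_setting {Q : Subgroup G} (hQ : Even (Nat.card Q))
    (hne : normalizer (Q : Set G) ≠ ⊤)
    (hmeet : ∀ (g x : G), orderOf x = 2 → x ∈ Q.map (MulAut.conj g).toMonoidHom →
      x ∈ normalizer (Q : Set G) → g ∈ normalizer (Q : Set G)) :
    ∃ z ∈ Q, Setting G (G ⧸ normalizer (Q : Set G)) (QuotientGroup.mk 1) z := by
  haveI : Fact (Nat.Prime 2) := ⟨Nat.prime_two⟩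
  set N := normalizer (Q : Set G) with hNdef
  have hQN : Q ≤ N := le_normalizer
  haveI : (Q.subgroupOf N).Normal := normal_subgroupOf_of_le_normalizer le_rfl
  obtain ⟨RQ, -⟩ := (IsPGroup.of_bot (p := 2) (G := Q.subgroupOf N)).exists_le_sylow
  obtain ⟨R, hR⟩ := (RQ.2.map (Q.subgroupOf N).subtype).exists_le_sylow
  set R' := (R : Subgroup N).map N.subtype with hR'
  haveI := R.2.isNilpotent
  have hne' : (Q.subgroupOf N).subgroupOf (R : Subgroup N) ≠ ⊥ := fun e => by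
    have h2 : 2 ∣ Nat.card (Q.subgroupOf N) := by
      rw [Nat.card_congr (subgroupOfEquivOfLe hQN).toEquiv]; exact even_iff_two_dvd.1 hQ
    have hbot : (RQ : Subgroup (Q.subgroupOf N)) = ⊥ := (eq_bot_iff_forall _).2 fun w hw => by
      have hm : (⟨(w : N), hR ⟨w, hw, rfl⟩⟩ : (R : Subgroup N)) ∈
          (Q.subgroupOf N).subgroupOf (R : Subgroup N) := w.2
      rw [e, mem_bot] at hm
      exact Subtype.ext (congrArg Subtype.val hm : (w : N) = 1)
    refine RQ.not_dvd_index ?_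
    rw [hbot, index_bot]
    exact h2
  obtain ⟨⟨c, hcQ, hcZ⟩, hc⟩ := Subgroup.ne_bot_iff_exists_ne_one.1
    (CfsgLib.PGroupBasic.inf_center_ne_bot _ hne')
  have hc1 : c ≠ 1 := fun e => hc (Subtype.ext e)
  obtain ⟨k, hk⟩ : ∃ k : ℕ, orderOf (c ^ k) = 2 := by
    obtain ⟨n, hn⟩ := IsPGroup.iff_orderOf.1 R.2 c
    rcases Nat.eq_zero_or_pos n with rfl | hn0
    · exact absurd (orderOf_eq_one_iff.1 (by simpa using hn)) hc1
    refine ⟨2 ^ (n - 1), ?_⟩
    rw [orderOf_pow' c (by positivity), hn, Nat.gcd_eq_right (pow_dvd_pow 2 (Nat.sub_le n 1)),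
      Nat.pow_div (Nat.sub_le n 1) (by norm_num), show n - (n - 1) = 1 by omega, pow_one]
  set z : G := (((c ^ k : (R : Subgroup N)) : N) : G) with hzdef
  have hz : orderOf z = 2 := by rw [hzdef, Subgroup.orderOf_coe, Subgroup.orderOf_coe]; exact hk
  have hzQ : z ∈ Q := by
    rw [hzdef, Subgroup.coe_pow, Subgroup.coe_pow]
    exact pow_mem (show ((c : N) : G) ∈ Q from hcQ) k
  have h2 : ∀ g : G, g * z * g⁻¹ ∈ N → g ∈ N := fun g hg => hmeet g _
    ((orderOf_injective (MulAut.conj g).toMonoidHom (MulAut.conj g).injective z).trans hz)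
    ⟨z, hzQ, rfl⟩ hg
  have hzR : ∀ s ∈ R', s * z = z * s := by
    rintro _ ⟨s, hs, rfl⟩
    have := mem_center_iff.1 (pow_mem hcZ k) (⟨s, hs⟩ : (R : Subgroup N))
    exact congrArg (fun w : (R : Subgroup N) => ((w : N) : G)) this
  have hzR' : z ∈ R' := ⟨((c ^ k : (R : Subgroup N)) : N), (c ^ k).2, rfl⟩
  obtain ⟨S, hS⟩ := (R.2.map N.subtype).exists_le_sylow
  have hR'S : R' = (S : Subgroup G) := by
    refine eq_of_normalizer_fixed S hS (map_subtype_le _) ?_ fun g hg => ?_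
    · intro X hXN hX hle
      have hle' : (R : Subgroup N) ≤ X.subgroupOf N := fun w hw => hle ⟨w, hw, rfl⟩
      rw [hR', ← R.3 hX.comap_subtype hle']
      exact (map_subgroupOf_eq_of_le hXN).symm
    · exact h2 g (map_subtype_le _ ((mem_normalizer_iff.1 hg z).1 hzR'))
  refine ⟨z, hzQ, setting_of_data hne hz (hQN hzQ)
    ⟨S, hS hzR', fun s hs => hzR s (hR'S ▸ hs)⟩ h2 fun g hcomm hne'' d hd => ?_⟩
  have hgN : g ∈ N := h2 g (h2 _ (by
    rw [conj_eq_of_commute hcomm.eq.symm]; exact hQN hzQ))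
  have hgQ : g * z * g⁻¹ ∈ Q := (mem_normalizer_iff.1 hgN z).1 hzQ
  set v := z * (g * z * g⁻¹) with hvdef
  have hzz : z * z = 1 := Invol.mul_self_eq_one hz
  have hv2 : orderOf v = 2 := by
    refine orderOf_eq_prime ?_ fun e => hne'' ?_
    · rw [sq]; exact invol_mul hzz (conj_invol hzz g) hcomm.eq
    · calc g * z * g⁻¹ = z * z * (g * z * g⁻¹) := by rw [hzz, one_mul]
        _ = z := by rw [mul_assoc, show z * (g * z * g⁻¹) = 1 from e, mul_one]
  have hvQ : v ∈ Q := mul_mem hzQ hgQ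
  exact hmeet d v hv2 ⟨v, hvQ, conj_eq_of_commute (mem_centralizer_singleton_iff.1 hd)⟩ (hQN hvQ)

/-- Tightly embedded subgroups meeting other normalizers oddly, over a simple generalized Fitting
subgroup. -/
theorem tight_row (hcore : Core.{u}) (hF : IsSimpleGroup ↥(Cfsg.generalizedFittingSubgroup G))
    (hF' : ¬ IsMulCommutative ↥(Cfsg.generalizedFittingSubgroup G))
    (Q : Subgroup G) (hQ : Cfsg.IsTightlyEmbedded Q)
    (hodd : ∀ g : G, g ∉ normalizer (Q : Set G) →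
      Odd (Nat.card ↥(Q.map (MulAut.conj g).toMonoidHom ⊓ normalizer (Q : Set G)))) :
    Q.Normal ∨ ∃ M : Subgroup ↥(Cfsg.generalizedFittingSubgroup G), Cfsg.IsStronglyEmbedded M := by
  haveI : Fact (Nat.Prime 2) := ⟨Nat.prime_two⟩
  set F := Cfsg.generalizedFittingSubgroup G with hFdef
  have hFC : centralizer (F : Set G) ≤ F := Cfsg.Agent.S1265.result
  by_cases hn : Q.Normal
  · exact Or.inl hn
  right
  set N := normalizer (Q : Set G) with hNdef
  have hNne : N ≠ ⊤ := fun e => hn (normalizer_eq_top_iff.1 e)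
  have hQN : Q ≤ N := le_normalizer
  obtain ⟨t0, ht0⟩ := exists_prime_orderOf_dvd_card' 2 (even_iff_two_dvd.1 hQ.1)
  -- even intersections force membership in the normalizer
  have hmeet : ∀ (g x : G), orderOf x = 2 → x ∈ Q.map (MulAut.conj g).toMonoidHom → x ∈ N → g ∈ N :=
    fun g x hx hxQ hxN => by_contra fun hg => Nat.not_even_iff_odd.2 (hodd g hg) (even_iff_two_dvd.2
      (hx ▸ orderOf_dvd_natCard _ ⟨hxQ, hxN⟩))
  obtain ⟨z, hzQ, hS⟩ := exists_tight_setting hQ.1 hNne hmeet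
  have hz := hS.ord
  -- normal subgroups
  have hFn : F.Normal := hFdef ▸ inferInstance
  have hmin : ∀ X : Subgroup G, (X.subgroupOf F).Normal → X ⊓ F = ⊥ ∨ F ≤ X := fun X hX => by
    rcases hX.eq_bot_or_eq_top with h | h
    · exact Or.inl (subgroupOf_eq_bot.1 h).eq_bot
    · exact Or.inr (subgroupOf_eq_top.1 h)
  have hnormal : ∀ X : Subgroup G, X.Normal → X ≠ ⊥ → F ≤ X := fun X hX hX1 => by
    refine (hmin X inferInstance).resolve_left fun h => hX1 ((eq_bot_iff).2 fun x hx => ?_)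
    have hxC : x ∈ centralizer (F : Set G) := mem_centralizer_iff.2 fun f (hf : f ∈ F) => by
      have hm : x * f * x⁻¹ * f⁻¹ ∈ X ⊓ F := mem_inf.2 ⟨by
        rw [show x * f * x⁻¹ * f⁻¹ = x * (f * x⁻¹ * f⁻¹) by group]
        exact mul_mem hx (hX.conj_mem _ (inv_mem hx) f),
        mul_mem (hFn.conj_mem f hf x) (inv_mem hf)⟩
      rw [h, mem_bot] at hm
      exact (mul_inv_eq_iff_eq_mul.1 (mul_inv_eq_one.1 hm)).symm
    exact h ▸ ⟨hx, hFC hxC⟩
  have hFeven : Even (Nat.card F) := by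
    haveI := hF
    exact CfsgLib.BenderLocal.even_card_simple hF'
  have hFN : ¬ F ≤ N := fun hle => by
    rcases hmin Q (normal_subgroupOf_of_le_normalizer hle) with h | h
    · have hC : ∀ q ∈ Q, q ∈ centralizer (F : Set G) := fun q hq => mem_centralizer_iff.2 fun f (hf : f ∈ F) => by
        have hm : q * f * q⁻¹ * f⁻¹ ∈ Q ⊓ F := mem_inf.2 ⟨by
          rw [show q * f * q⁻¹ * f⁻¹ = q * (f * q⁻¹ * f⁻¹) by group]
          exact mul_mem hq ((mem_normalizer_iff.1 (hle hf) _).1 (inv_mem hq)),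
          mul_mem (hFn.conj_mem f hf q) (inv_mem hf)⟩
        rw [h, mem_bot] at hm
        exact (mul_inv_eq_iff_eq_mul.1 (mul_inv_eq_one.1 hm)).symm
      have : (t0 : G) ∈ Q ⊓ F := ⟨t0.2, hFC (hC _ t0.2)⟩
      rw [h, mem_bot] at this
      rw [show t0 = 1 from Subtype.ext this, orderOf_one] at ht0
      exact absurd ht0 (by decide)
    · obtain ⟨f0, hf0⟩ := exists_prime_orderOf_dvd_card' 2 (even_iff_two_dvd.1 hFeven)
      refine hNne (eq_top_iff.2 fun g _ => hmeet g f0 (by rwa [Subgroup.orderOf_coe]) ?_ (hle f0.2))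
      exact ⟨g⁻¹ * f0 * g, h (by simpa using hFn.conj_mem _ f0.2 g⁻¹), by simp [mul_assoc]⟩
  have hcoreN : N.normalCore = ⊥ := by
    by_contra hne'
    exact hFN ((hnormal _ (normalCore_normal N) hne').trans (normalCore_le N))
  have hse := stronglyEmbedded_of_core hcore hNne hcoreN hS
  have hFK : F ≤ normalClosure ({z} : Set G) := hnormal _ normalClosure_normal fun h => by
    have := subset_normalClosure (Set.mem_singleton z)
    rw [h] at this
    rw [mem_bot.1 this, orderOf_one] at hz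
    exact absurd hz (by decide)
  refine ⟨N.subgroupOf F, fun e => hFN (subgroupOf_eq_top.1 e), ?_, fun g hg => ?_⟩
  · by_contra hev
    have hodd' := Nat.not_even_iff_odd.1 hev
    -- the Sylow subgroup of G in N meets F
    obtain ⟨S, -, hSz⟩ := hS.central
    have hSN : (S : Subgroup G) ≤ N := fun s hs =>
      StrongEmbed.smul_mk_one_iff.1 (hS.fix_of_commute hS.fix (hSz s hs))
    have hbot : (S : Subgroup G) ⊓ F = ⊥ := (eq_bot_iff).2 fun x ⟨hxS, hxF⟩ => by
      obtain ⟨j, hj⟩ := S.2 ⟨x, hxS⟩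
      refine mem_bot.2 (CfsgLib.Bender.Consumers.eq_one_of_two_of_odd ?_ (congrArg Subtype.val hj))
      have := orderOf_dvd_natCard (⟨⟨x, hxF⟩, hSN hxS⟩ : N.subgroupOf F)
      rw [← Subgroup.orderOf_coe, ← Subgroup.orderOf_coe] at this
      exact hodd'.of_dvd_nat this
    obtain ⟨f0, hf0⟩ := exists_prime_orderOf_dvd_card' 2 (even_iff_two_dvd.1 hFeven)
    have hf2 : (f0 : G) * f0 = 1 := by
      rw [← sq, ← Subgroup.coe_pow, ← hf0, pow_orderOf_eq_one]; rfl
    obtain ⟨S', hS'⟩ := (isPGroup_zpowers_two hf2).exists_le_sylow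
    obtain ⟨m, hm⟩ := MulAction.exists_smul_eq G S' S
    have hmem : m * (f0 : G) * m⁻¹ ∈ (S : Subgroup G) ⊓ F := ⟨by
      rw [← hm]; exact ⟨f0, hS' (mem_zpowers _), rfl⟩, hFn.conj_mem _ f0.2 m⟩
    rw [hbot, mem_bot, conj_eq_one_iff] at hmem
    rw [show f0 = 1 from Subtype.ext hmem, orderOf_one] at hf0
    exact absurd hf0 (by decide)
  · have hg' : (⟨(g : G), hFK g.2⟩ : normalClosure ({z} : Set G)) ∉
        N.subgroupOf (normalClosure ({z} : Set G)) := hg
    refine (hse.2.2 _ hg').of_dvd_nat ?_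
    let ι : F →* normalClosure ({z} : Set G) := inclusion hFK
    refine (dvd_of_eq (Nat.card_congr ((N.subgroupOf F ⊓
      (N.subgroupOf F).map (MulAut.conj g).toMonoidHom).equivMapOfInjective ι
        (inclusion_injective hFK)).toEquiv)).trans (card_dvd_of_le ?_)
    rintro _ ⟨x, ⟨hx1, y, hy, hyx⟩, rfl⟩
    exact ⟨hx1, ⟨ι y, hy, congrArg ι hyx⟩⟩

end CfsgLib.Criterion.Act
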