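import Cfsg.Agent.Invol.StrongEmbedded
import Cfsg.Agent.LocalB.Embedded
import Cfsg.Agent.S0226
import Mathlib.GroupTheory.Perm.Cycle.Type
import Mathlib.GroupTheory.GroupAction.Basic

/-!
The setting of the criterion for strong embedding as a transitive action: a 2-central involution
fixing exactly one point, such that the product of two commuting distinct conjugates fixes at most
one point.
-/

set_option autoImplicit false
set_option linter.unusedSectionVars false
set_option linter.style.haveILetI false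

namespace CfsgLib.Criterion.Act

open Subgroup MulAction

universe u

/-- `x` fixes at most one point. -/
def OneFix {G : Type*} (Ω : Type*) [Group G] [MulAction G Ω] (x : G) : Prop :=
  ∀ b c : Ω, x • b = b → x • c = c → b = c

/-- The hypotheses of the criterion. -/
structure Setting (G Ω : Type*) [Group G] [MulAction G Ω] (a : Ω) (z : G) : Prop where
  ord : orderOf z = 2
  central : ∃ S : Sylow 2 G, z ∈ S ∧ ∀ s ∈ S, s * z = z * s
  fix : ∀ b : Ω, z • b = b ↔ b = a
  moved : ∃ b : Ω, b ≠ a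
  pair : ∀ x y : G, IsConj z x → IsConj z y → x * y = y * x → x ≠ y → OneFix Ω (x * y)

/-- Each element of the normal closure of `z` acting as an involution fixes at most one point. -/
def Concl (G Ω : Type*) [Group G] [MulAction G Ω] (z : G) : Prop :=
  ∀ x ∈ normalClosure ({z} : Set G), (∀ b : Ω, (x * x) • b = b) → (∃ b : Ω, x • b ≠ b) → OneFix Ω x

/-- The group generated by the conjugates of `z` commuting with `t`. -/
def localGroup {G : Type*} [Group G] (z t : G) : Subgroup G :=
  Subgroup.closure {x : G | IsConj z x ∧ x * t = t * x}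

/-- The conclusion for the local group at `t` in its action on the fixed points of `t`. -/
def LocalConcl (G Ω : Type*) [Group G] [MulAction G Ω] (z t : G) : Prop :=
  ∀ x ∈ localGroup z t, (∀ b : Ω, t • b = b → (x * x) • b = b) →
    (∃ b : Ω, t • b = b ∧ x • b ≠ b) →
      ∀ b c : Ω, t • b = b → t • c = c → x • b = b → x • c = c → b = c

/-- The criterion for faithful actions, with the local data in their weakest form. -/
def Core : Prop :=
  ∀ (G Ω : Type u) [Group G] [Finite G] [MulAction G Ω] [Finite Ω] [IsPretransitive G Ω]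
    [FaithfulSMul G Ω] (a : Ω) (z : G), Setting G Ω a z →
    (∀ t : G, orderOf t = 2 → t * z = z * t → (∃ b : Ω, b ≠ a ∧ t • b = b) → LocalConcl G Ω z t) →
    Concl G Ω z

/-! ### Generalities -/

section General

variable {G : Type*} [Group G] [Finite G]

/-- An involutory permutation of a set of odd size fixes an element. -/
theorem exists_fixed {α : Type*} [Finite α] (hodd : Odd (Nat.card α)) (f : α → α)
    (hf : ∀ x, f (f x) = x) : ∃ x, f x = x := by
  haveI : Fact (Nat.Prime 2) := ⟨Nat.prime_two⟩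
  haveI := Fintype.ofFinite α
  obtain ⟨x, hx⟩ := Equiv.Perm.exists_fixed_point_of_prime (p := 2) (n := 1)
    (σ := Function.Involutive.toPerm f hf)
    (by rw [← Nat.card_eq_fintype_card]; exact hodd.not_two_dvd_nat)
    (Equiv.ext fun y => by rw [pow_one, sq]; exact hf y)
  exact ⟨x, hx⟩

theorem isPGroup_zpowers_two {x : G} (hx : x * x = 1) : IsPGroup 2 (zpowers x) := by
  intro y
  obtain ⟨m, hm⟩ := y.2
  refine ⟨1, Subtype.ext ?_⟩
  have hm' : x ^ m = (y : G) := hm
  rw [pow_one, sq, Subgroup.coe_mul, ← hm', ← (Commute.refl x).mul_zpow, hx, one_zpow]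
  rfl

theorem mem_of_isPGroup_commute (S : Sylow 2 G) {x : G} (hx : x * x = 1)
    (hc : ∀ s ∈ S, s * x = x * s) : x ∈ S := by
  haveI : Fact (Nat.Prime 2) := ⟨Nat.prime_two⟩
  have hle : (S : Subgroup G) ≤ normalizer (zpowers x : Set G) := fun s hs => by
    refine mem_normalizer_iff.2 fun w => ?_
    have key : ∀ (m : ℤ), s * x ^ m * s⁻¹ = x ^ m := fun m => by
      rw [← conj_zpow, hc s hs, mul_inv_cancel_right]
    constructor
    · rintro ⟨m, rfl⟩
      exact ⟨m, (key m).symm⟩
    · rintro ⟨m, hm⟩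
      have hm' : x ^ m = s * w * s⁻¹ := hm
      refine ⟨m, ?_⟩
      have h1 := key m
      have : s * x ^ m * s⁻¹ = s * w * s⁻¹ := h1.trans hm'
      exact mul_left_cancel (mul_right_cancel this)
  have hp := isPGroup_zpowers_two hx
  have h := S.3 (S.2.to_sup_of_normal_right' hp hle) le_sup_left
  show x ∈ (S : Subgroup G)
  rw [← h]
  exact mem_sup_right (mem_zpowers x)

/-- The lifts of a central element of a Sylow subgroup are of odd number, so an involution
commuting with the image commutes with one of them. -/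
theorem exists_commuting_lift {G' : Type*} [Group G'] (f : G →* G') {z y : G}
    (hz : ∃ S : Sylow 2 G, ∀ s ∈ S, s * z = z * s) (hy : y * y = 1) (hc : f y * f z = f z * f y) :
    ∃ x : G, IsConj z x ∧ f x = f z ∧ x * y = y * x := by
  haveI : Fact (Nat.Prime 2) := ⟨Nat.prime_two⟩
  let B : Subgroup G := (centralizer ({f z} : Set G')).comap f
  let C : Subgroup G := centralizer ({z} : Set G)
  have hCB : C ≤ B := fun g hg => by
    refine mem_centralizer_singleton_iff.2 ?_
    rw [← map_mul, ← map_mul, mem_centralizer_singleton_iff.1 hg]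
  let A := {x : G // IsConj z x ∧ f x = f z}
  let e : ↥B → A := fun b => ⟨b * z * (b : G)⁻¹, isConj_iff.2 ⟨b, rfl⟩, by
    rw [map_mul, map_mul, mem_centralizer_singleton_iff.1 (show f b ∈ _ from b.2),
      mul_assoc, ← map_mul, mul_inv_cancel, map_one, mul_one]⟩
  have hker : ∀ b b' : ↥B, e b = e b' ↔ (b : G)⁻¹ * b' ∈ C := fun b b' => by
    rw [Subtype.ext_iff, mem_centralizer_singleton_iff]
    simp only [e]
    constructor
    · intro h
      calc (b : G)⁻¹ * b' * z = (b : G)⁻¹ * (b' * z * (b' : G)⁻¹) * b' := by group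
        _ = (b : G)⁻¹ * (b * z * (b : G)⁻¹) * b' := by rw [h]
        _ = z * ((b : G)⁻¹ * b') := by group
    · intro h
      calc (b : G) * z * (b : G)⁻¹ = b * (z * ((b : G)⁻¹ * b')) * (b' : G)⁻¹ := by group
        _ = b * ((b : G)⁻¹ * b' * z) * (b' : G)⁻¹ := by rw [h]
        _ = b' * z * (b' : G)⁻¹ := by group
  have hbij : Nat.card A = C.relIndex B := by
    let e' : ↥B ⧸ C.subgroupOf B → A := Quotient.lift e fun b b' h => by
      refine (hker b b').2 ?_
      have h' := QuotientGroup.leftRel_apply.1 h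
      exact h'
    refine (Nat.card_eq_of_bijective e' ⟨?_, ?_⟩).symm
    · intro q q'
      induction q using QuotientGroup.induction_on with
      | H b =>
        induction q' using QuotientGroup.induction_on with
        | H b' => exact fun h => QuotientGroup.eq.2 ((hker b b').1 h)
    · rintro ⟨x, hx, hfx⟩
      obtain ⟨g, rfl⟩ := isConj_iff.1 hx
      refine ⟨QuotientGroup.mk ⟨g, mem_centralizer_singleton_iff.2 ?_⟩, rfl⟩
      rw [map_mul, map_mul, map_inv] at hfx
      exact mul_inv_eq_iff_eq_mul.1 hfx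
  have hodd : Odd (Nat.card A) := by
    obtain ⟨S, hS⟩ := hz
    have h1 : ¬ 2 ∣ C.index := fun h => S.not_dvd_index
      (h.trans (index_dvd_of_le fun s hs => mem_centralizer_singleton_iff.2 (hS s hs)))
    rw [hbij]
    exact Nat.odd_iff.2 (Nat.two_dvd_ne_zero.1 fun h =>
      h1 (h.trans (Dvd.intro _ (relIndex_mul_index hCB))))
  have hy' : y⁻¹ = y := inv_eq_of_mul_eq_one_right hy
  let σ : A → A := fun x => ⟨y * x.1 * y⁻¹, x.2.1.trans (isConj_iff.2 ⟨y, rfl⟩), by
    rw [map_mul, map_mul, x.2.2, hc, mul_assoc, ← map_mul, mul_inv_cancel, map_one, mul_one]⟩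
  obtain ⟨x, hx⟩ := exists_fixed hodd σ fun x => Subtype.ext (by
    show y * (y * x.1 * y⁻¹) * y⁻¹ = x.1
    rw [hy', ← mul_assoc, ← mul_assoc, hy, one_mul, mul_assoc, hy, mul_one])
  exact ⟨x.1, x.2.1, x.2.2, (mul_inv_eq_iff_eq_mul.1 (congrArg Subtype.val hx)).symm⟩

variable {Ω : Type*} [MulAction G Ω]

/-- A 2-element fixing exactly one point lies in an orbit of odd size. -/
theorem odd_orbit {x : G} {c : Ω} (hx : x * x = 1) (hfix : ∀ b, x • b = b ↔ b = c) :
    Odd (Nat.card (orbit G c)) := by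
  haveI : Fact (Nat.Prime 2) := ⟨Nat.prime_two⟩
  let M := stabilizer G c
  have hxM : x ∈ M := (hfix c).2 rfl
  obtain ⟨T, hT⟩ := (show IsPGroup 2 (zpowers (⟨x, hxM⟩ : M)) from
    isPGroup_zpowers_two (Subtype.ext hx)).exists_le_sylow
  have hxT : x ∈ (T : Subgroup M).map M.subtype := ⟨⟨x, hxM⟩, hT (mem_zpowers _), rfl⟩
  obtain ⟨S, hS⟩ := (T.2.map M.subtype).exists_le_sylow
  have hSM : (S : Subgroup G) ≤ M := by
    intro g hg
    by_contra hgM
    have hne : (T : Subgroup M).map M.subtype ≠ (S : Subgroup G) := fun h => by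
      obtain ⟨y, -, rfl⟩ : g ∈ (T : Subgroup M).map M.subtype := h ▸ hg
      exact hgM y.2
    obtain ⟨h, hhS, hhN, hhT⟩ := CfsgLib.LocalB.exists_mem_normalizer_not_mem S.2 hS hne
    obtain ⟨y, -, hy⟩ := (mem_normalizer_iff.1 hhN x).1 hxT
    have hfx : (h * x * h⁻¹) • c = c := by rw [← hy]; exact y.2
    have h1 : x • (h⁻¹ • c) = h⁻¹ • c := by
      have := congrArg (h⁻¹ • ·) hfx
      simpa [mul_smul] using this
    have hhM : h ∈ M := by
      have := (hfix _).1 h1
      exact mem_stabilizer_iff.2 (inv_smul_eq_iff.1 this).symm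
    refine hhT ⟨⟨h, hhM⟩, ?_, rfl⟩
    have hle : (T : Subgroup M) ≤ (S : Subgroup G).comap M.subtype := fun w hw => hS ⟨w, hw, rfl⟩
    exact T.3 (S.2.comap_of_injective _ M.subtype_injective) hle ▸ hhS
  have hcard : Nat.card (orbit G c) = M.index := (MulAction.index_stabilizer G c).symm ▸ rfl
  rw [hcard]
  exact Nat.odd_iff.2 (Nat.two_dvd_ne_zero.1 fun h => S.not_dvd_index (h.trans (index_dvd_of_le hSM)))

end General

/-! ### The setting -/

namespace Setting

variable {G Ω : Type*} [Group G] [MulAction G Ω] {a : Ω} {z : G} (h : Setting G Ω a z)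
include h

theorem mul_self : z * z = 1 := by rw [← sq, ← h.ord]; exact pow_orderOf_eq_one z

theorem conj_fix {x : G} (hx : IsConj z x) : x * x = 1 ∧ ∃ b, ∀ c : Ω, x • c = c ↔ c = b := by
  obtain ⟨g, rfl⟩ := isConj_iff.1 hx
  refine ⟨?_, g • a, fun c => ?_⟩
  · calc g * z * g⁻¹ * (g * z * g⁻¹) = g * (z * z) * g⁻¹ := by group
      _ = 1 := by rw [h.mul_self]; group
  · rw [mul_smul, mul_smul, ← eq_inv_smul_iff, h.fix, inv_smul_eq_iff]

theorem fix_of_commute {x g : G} {b : Ω} (hb : ∀ c : Ω, x • c = c ↔ c = b) (hg : g * x = x * g) :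
    g • b = b :=
  (hb _).1 (by rw [← mul_smul, ← hg, mul_smul, (hb b).2 rfl])

variable [Finite G] [IsPretransitive G Ω]

/-- Each 2-subgroup fixing a point centralizes a conjugate of `z` fixing only this point. -/
theorem exists_central {Q : Subgroup G} (hQ : IsPGroup 2 Q) {b : Ω} (hQb : ∀ q ∈ Q, q • b = b) :
    ∃ x, IsConj z x ∧ (∀ c : Ω, x • c = c ↔ c = b) ∧ ∀ q ∈ Q, q * x = x * q := by
  haveI : Fact (Nat.Prime 2) := ⟨Nat.prime_two⟩
  obtain ⟨S₀, hzS, hS⟩ := h.central
  obtain ⟨g, rfl⟩ := exists_smul_eq G a b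
  let M := stabilizer G a
  have hS₀ : (S₀ : Subgroup G) ≤ M := fun s hs => h.fix_of_commute h.fix (hS s hs)
  let R : Subgroup M := (Q.map (MulAut.conj g⁻¹).toMonoidHom).subgroupOf M
  obtain ⟨T, hT⟩ := (show IsPGroup 2 R from (hQ.map _).comap_subtype).exists_le_sylow
  obtain ⟨m, hm⟩ := exists_smul_eq M (S₀.subtype hS₀) T
  refine ⟨g * m * z * (g * m)⁻¹, isConj_iff.2 ⟨_, rfl⟩, fun c => ?_, fun q hq => ?_⟩
  · rw [mul_smul, mul_smul, ← eq_inv_smul_iff, h.fix, inv_smul_eq_iff, mul_smul,
      mem_stabilizer_iff.1 m.2]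
  · have hqM : g⁻¹ * q * g ∈ M := by
      rw [mem_stabilizer_iff, mul_smul, mul_smul, hQb q hq, inv_smul_smul]
    have hqT : (⟨g⁻¹ * q * g, hqM⟩ : M) ∈ T := hT ⟨q, hq, by simp⟩
    rw [← hm] at hqT
    obtain ⟨s, hs, hse⟩ := hqT
    have hse' : (m : G) * s * (m : G)⁻¹ = g⁻¹ * q * g := congrArg Subtype.val hse
    have hq' : q = g * m * (s : G) * (g * m)⁻¹ := by
      rw [show g * m * (s : G) * (g * m)⁻¹ = g * ((m : G) * s * (m : G)⁻¹) * g⁻¹ by group, hse']
      group
    rw [hq']
    calc g * m * (s : G) * (g * m)⁻¹ * (g * m * z * (g * m)⁻¹)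
        = g * m * ((s : G) * z) * (g * m)⁻¹ := by group
      _ = g * m * (z * (s : G)) * (g * m)⁻¹ := by rw [hS s hs]
      _ = g * m * z * (g * m)⁻¹ * (g * m * (s : G) * (g * m)⁻¹) := by group

theorem exists_commuting {t : G} (ht : t * t = 1) {b : Ω} (htb : t • b = b) :
    ∃ x, IsConj z x ∧ (∀ c : Ω, x • c = c ↔ c = b) ∧ x * t = t * x := by
  obtain ⟨x, h1, h2, h3⟩ := h.exists_central (Q := zpowers t)
    (isPGroup_zpowers_two ht)
    (b := b) (fun q hq => by
      obtain ⟨m, rfl⟩ := mem_zpowers_iff.1 hq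
      exact mem_stabilizer_iff.1 (zpow_mem (show t ∈ stabilizer G b from htb) m))
  exact ⟨x, h1, h2, (h3 t (mem_zpowers t)).symm⟩

omit [IsPretransitive G Ω] in
/-- The permutation group induced is again a setting. -/
theorem image : Setting (MulAction.toPermHom G Ω).range Ω a ((MulAction.toPermHom G Ω).rangeRestrict z) := by
  haveI : Fact (Nat.Prime 2) := ⟨Nat.prime_two⟩
  set f := (MulAction.toPermHom G Ω).rangeRestrict
  have hf : Function.Surjective f := MonoidHom.rangeRestrict_surjective _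
  have hact : ∀ (g : G) (b : Ω), f g • b = g • b := fun _ _ => rfl
  obtain ⟨b, hb⟩ := h.moved
  obtain ⟨S, hzS, hS⟩ := h.central
  refine ⟨orderOf_eq_prime (by rw [← map_pow, ← h.ord, pow_orderOf_eq_one, map_one]) fun h1 => hb
      ((h.fix b).1 (by rw [← hact, h1, one_smul])),
    ⟨S.mapSurjective hf, ⟨z, hzS, rfl⟩, ?_⟩, fun c => by rw [hact]; exact h.fix c, ⟨b, hb⟩,
    fun x y hx hy hxy hne => ?_⟩
  · rintro _ ⟨s, hs, rfl⟩
    rw [← map_mul, ← map_mul, hS s hs]
  obtain ⟨gx, rfl⟩ := isConj_iff.1 hx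
  obtain ⟨gy, rfl⟩ := isConj_iff.1 hy
  obtain ⟨gx, rfl⟩ := hf gx
  obtain ⟨gy, rfl⟩ := hf gy
  simp only [← map_inv, ← map_mul] at hxy hne ⊢
  have hcx : IsConj z (gx * z * gx⁻¹) := isConj_iff.2 ⟨gx, rfl⟩
  have hcy : IsConj z (gy * z * gy⁻¹) := isConj_iff.2 ⟨gy, rfl⟩
  have hcen : ∃ T : Sylow 2 G, ∀ s ∈ T, s * (gx * z * gx⁻¹) = gx * z * gx⁻¹ * s := by
    refine ⟨gx • S, ?_⟩
    rintro _ ⟨s, hs, rfl⟩
    show gx * s * gx⁻¹ * (gx * z * gx⁻¹) = gx * z * gx⁻¹ * (gx * s * gx⁻¹)
    calc gx * s * gx⁻¹ * (gx * z * gx⁻¹) = gx * (s * z) * gx⁻¹ := by group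
      _ = gx * (z * s) * gx⁻¹ := by rw [hS s hs]
      _ = _ := by group
  obtain ⟨x', hx', hfx, hc⟩ := exists_commuting_lift f hcen (h.conj_fix hcy).1
    (by rw [← map_mul, ← map_mul]; exact hxy.symm)
  have hne' : x' ≠ gy * z * gy⁻¹ := fun e => hne (by rw [← hfx, e])
  intro c d hc' hd'
  rw [map_mul, ← hfx, ← map_mul, hact] at hc' hd'
  exact h.pair x' _ (hcx.trans hx') hcy hc hne' c d hc' hd'

omit [IsPretransitive G Ω] in
theorem pretransitive_normalClosure [IsPretransitive G Ω] :
    IsPretransitive (normalClosure ({z} : Set G)) Ω := by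
  set K := normalClosure ({z} : Set G)
  have hzK : z ∈ K := subset_normalClosure rfl
  have key : ∀ b : Ω, a ∈ orbit K b := fun b => by
    obtain ⟨x, hx, hxb, -⟩ := h.exists_central (Q := ⊥) IsPGroup.of_bot (b := b) (fun q hq => by
      rw [mem_bot.1 hq, one_smul])
    have hxK : x ∈ K := conjugatesOfSet_subset_normalClosure
      (Group.mem_conjugatesOfSet_iff.2 ⟨z, rfl, hx⟩)
    have hodd : Odd (Nat.card (orbit K b)) := odd_orbit (x := (⟨x, hxK⟩ : K))
      (Subtype.ext (h.conj_fix hx).1) (fun c => hxb c)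
    haveI : Finite (orbit K b) := Nat.finite_of_card_ne_zero hodd.pos.ne'
    obtain ⟨c, hc⟩ := exists_fixed hodd (fun c => (⟨z, hzK⟩ : K) • c) fun c => by
      rw [← mul_smul, show (⟨z, hzK⟩ : K) * ⟨z, hzK⟩ = 1 from Subtype.ext h.mul_self, one_smul]
    have : z • (c : Ω) = c := congrArg Subtype.val hc
    exact (h.fix _).1 this ▸ c.2
  exact ⟨fun b c => by
    obtain ⟨k, hk⟩ := key b
    obtain ⟨l, hl⟩ := key c
    exact ⟨l⁻¹ * k, by rw [mul_smul, show k • b = a from hk, inv_smul_eq_iff]; exact hl.symm⟩⟩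

/-- In the faithful case the normal closure of `z` has a strongly embedded point stabilizer. -/
theorem stronglyEmbedded [FaithfulSMul G Ω] (hC : Concl G Ω z) :
    Cfsg.IsStronglyEmbedded (stabilizer (normalClosure ({z} : Set G)) a) := by
  set K := normalClosure ({z} : Set G)
  haveI := h.pretransitive_normalClosure
  obtain ⟨b, hb⟩ := h.moved
  refine ⟨fun e => ?_, even_iff_two_dvd.2 ?_, fun g hg => Nat.not_even_iff_odd.1 fun he => ?_⟩
  · obtain ⟨k, hk⟩ := exists_smul_eq K a b
    exact hb (hk.symm.trans (mem_stabilizer_iff.1 (e ▸ mem_top k)))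
  · rw [← h.ord]
    have hzK : (⟨z, subset_normalClosure rfl⟩ : K) ∈ stabilizer K a := (h.fix a).2 rfl
    have := orderOf_dvd_natCard (⟨⟨z, subset_normalClosure rfl⟩, hzK⟩ : stabilizer K a)
    rwa [Subgroup.orderOf_mk, Subgroup.orderOf_mk] at this
  · haveI : Fact (Nat.Prime 2) := ⟨Nat.prime_two⟩
    obtain ⟨w, hw⟩ := exists_prime_orderOf_dvd_card' 2 (even_iff_two_dvd.1 he)
    obtain ⟨hwa, y, hy, hwy⟩ := w.2
    have hwg : g * y * g⁻¹ = (w : K) := hwy
    have hwga : (w : K) • g • a = g • a := by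
      rw [← hwg, mul_smul, mul_smul, inv_smul_smul, mem_stabilizer_iff.1 hy]
    have hw2 : ((w : K) : G) * ((w : K) : G) = 1 := by
      rw [← sq, ← Subgroup.coe_pow, ← Subgroup.coe_pow, ← hw, pow_orderOf_eq_one]
      rfl
    have hmv : ∃ c : Ω, ((w : K) : G) • c ≠ c := by
      by_contra hcon
      push Not at hcon
      have h1 : w = 1 := Subtype.ext (Subtype.ext
        (eq_of_smul_eq_smul (α := Ω) fun c => (hcon c).trans (one_smul G c).symm))
      rw [h1, orderOf_one] at hw
      exact absurd hw (by decide)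
    exact hg (hC _ (w : K).2 (fun c => by rw [hw2, one_smul]) hmv a (g • a) hwa hwga).symm

/-- An involution with one fixed point whose products with the commuting involutions of the class
fix one point lies in the normal closure of the class. -/
theorem mem_normalClosure [FaithfulSMul G Ω] (hC : Concl G Ω z) {x : G} (hx2 : x * x = 1) {p : Ω}
    (hp : ∀ c : Ω, x • c = c ↔ c = p)
    (hpair : ∀ y, IsConj z y → x * y = y * x → x ≠ y → OneFix Ω (x * y)) :
    x ∈ normalClosure ({z} : Set G) := by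
  set K := normalClosure ({z} : Set G)
  haveI := h.pretransitive_normalClosure
  have hse := h.stronglyEmbedded hC
  obtain ⟨b, hbp⟩ : ∃ b : Ω, b ≠ p := by
    obtain ⟨b, hb⟩ := h.moved
    by_cases hpa : p = a
    · exact ⟨b, hpa ▸ hb⟩
    · exact ⟨a, Ne.symm hpa⟩
  have hxb : x • b ≠ b := fun e => hbp ((hp b).1 e)
  obtain ⟨k₁, hk₁⟩ := exists_smul_eq K a b
  obtain ⟨k₂, hk₂⟩ := exists_smul_eq K a (x • b)
  have hne : (QuotientGroup.mk k₁ : K ⧸ stabilizer K a) ≠ QuotientGroup.mk k₂ := fun e => hxb (by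
    have := congrArg (ofQuotientStabilizer K a) e
    rw [ofQuotientStabilizer_mk, ofQuotientStabilizer_mk, hk₁, hk₂] at this
    exact this.symm)
  have hcount := CfsgLib.StrongEmbed.card_swap hse hne
  let P := {i : K // orderOf i = 2 ∧ i • b = x • b}
  have hP : Nat.card P = Nat.card {i : stabilizer K a // orderOf i = 2} := by
    have e1 : Nat.card P =
        Nat.card {i : K // orderOf i = 2 ∧ i • (QuotientGroup.mk k₁ : K ⧸ stabilizer K a) = QuotientGroup.mk k₂} := by
      refine Nat.card_congr (Equiv.subtypeEquivRight fun i => and_congr_right fun _ => ?_)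
      rw [← (injective_ofQuotientStabilizer K a).eq_iff, ofQuotientStabilizer_smul,
        ofQuotientStabilizer_mk, ofQuotientStabilizer_mk, hk₁, hk₂]
    rw [e1, hcount]
    exact Nat.card_congr
      { toFun := fun t => ⟨⟨t.1, t.2.2⟩, by rw [Subgroup.orderOf_mk]; exact t.2.1⟩
        invFun := fun t => ⟨t.1, by rw [Subgroup.orderOf_coe]; exact t.2, t.1.2⟩
        left_inv := fun _ => rfl
        right_inv := fun _ => rfl }
  have hodd : Odd (Nat.card P) := hP ▸ Cfsg.Agent.S0226.result hse.2.1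
  have hxinv : x⁻¹ = x := inv_eq_of_mul_eq_one_right hx2
  let σ : P → P := fun i => ⟨⟨x * i.1 * x⁻¹, (inferInstance : K.Normal).conj_mem _ i.1.2 x⟩, by
    have h2 : orderOf ((i.1 : G)) = 2 := by rw [Subgroup.orderOf_coe]; exact i.2.1
    refine ⟨?_, ?_⟩
    · rw [← Subgroup.orderOf_coe]
      exact (orderOf_injective (MulAut.conj x).toMonoidHom (MulAut.conj x).injective _).trans h2
    · show (x * (i.1 : G) * x⁻¹) • b = x • b
      have hib : (i.1 : G) • b = x • b := i.2.2
      calc (x * (i.1 : G) * x⁻¹) • b = x • (i.1 : G) • x • b := by rw [hxinv, mul_smul, mul_smul]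
        _ = x • (i.1 : G) • (i.1 : G) • b := by rw [hib]
        _ = x • b := by
          rw [← mul_smul (i.1 : G), show (i.1 : G) * i.1 = 1 from
            (sq (i.1 : G)).symm.trans (orderOf_dvd_iff_pow_eq_one.1 h2.dvd),
            one_smul]⟩
  obtain ⟨⟨i, hi2, hib⟩, hi⟩ := exists_fixed hodd σ fun i => Subtype.ext (Subtype.ext (by
    show x * (x * (i.1 : G) * x⁻¹) * x⁻¹ = i.1
    rw [hxinv, ← mul_assoc, ← mul_assoc, hx2, one_mul, mul_assoc, hx2, mul_one]))
  have hcom : x * (i : G) = i * x :=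
    mul_inv_eq_iff_eq_mul.1 (congrArg (fun q : P => ((q.1 : K) : G)) hi)
  by_contra hxK
  have hne' : x ≠ (i : G) := fun e => hxK (e ▸ i.2)
  have hiz : IsConj z (i : G) := by
    have := CfsgLib.StrongEmbed.isConj_of_invols hse
      (a := (⟨z, subset_normalClosure rfl⟩ : K)) (by rw [Subgroup.orderOf_mk]; exact h.ord) hi2
    exact K.subtype.map_isConj this
  have h1 : (x * (i : G)) • b = b := by
    rw [mul_smul, show (i : G) • b = x • b from hib, ← mul_smul, hx2, one_smul]
  have h2 : (x * (i : G)) • p = p := by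
    rw [mul_smul, h.fix_of_commute hp hcom.symm, (hp p).2 rfl]
  exact hbp (hpair _ hiz hcom hne' b p h1 h2)

end Setting

end CfsgLib.Criterion.Act
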