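import Cfsg.Agent.Bender.Consumers
import Cfsg.Agent.CITGraph.Models
import Cfsg.Agent.Suzuki.Sylow
import Cfsg.Agent.Suzuki.SylowAut
import Cfsg.Agent.Suzuki.LieModel
import Cfsg.Agent.SL2Mult.Pairing
import Cfsg.Agent.UMult.Induct
import Cfsg.Agent.Criterion.Action.Setting
import Mathlib.GroupTheory.Transfer

/-!
A perfect central extension of one of the three simple groups with a strongly embedded subgroup in
which the involutions lift to a class of involutions central in Sylow subgroups, closed under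
commuting products, has a kernel of odd order.
-/

set_option autoImplicit false
set_option linter.unusedSectionVars false
set_option linter.style.haveILetI false

namespace CfsgLib.Criterion.Act

open Subgroup
open scoped commutatorElement

/-- The lifts of the involutions of `L` in a central extension. -/
structure LiftData {Q L : Type*} [Group Q] [Group L] (σ : Q →* L) (Zs : Set Q) : Prop where
  surj : Function.Surjective σ
  central : σ.ker ≤ center Q
  perfect : commutator Q = ⊤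
  invol : ∀ q ∈ Zs, q * q = 1
  notKer : ∀ q ∈ Zs, σ q ≠ 1
  conj : ∀ g q : Q, q ∈ Zs → g * q * g⁻¹ ∈ Zs
  lift : ∀ x : L, x * x = 1 → x ≠ 1 → ∃ q ∈ Zs, σ q = x
  closed : ∀ q ∈ Zs, ∀ r ∈ Zs, q * r = r * q → σ q ≠ σ r → q * r ∈ Zs
  uniq : ∀ q ∈ Zs, ∀ r ∈ Zs, q * r = r * q → σ q = σ r → q = r
  sylow : ∀ q ∈ Zs, ∃ S : Sylow 2 Q, ∀ s ∈ S, s * q = q * s

/-- In a perfect group a central 2-element avoids every subgroup of a Sylow 2-subgroup containing its
commutators. -/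
theorem mem_of_perfect {Q : Type*} [Group Q] [Finite Q] (hperf : commutator Q = ⊤) (T : Sylow 2 Q)
    (D : Subgroup (T : Subgroup Q)) (hD : commutator (T : Subgroup Q) ≤ D) {v : Q}
    (hv : ∀ g : Q, g * v = v * g) (hv2 : v * v = 1) (hvT : v ∈ (T : Subgroup Q)) :
    (⟨v, hvT⟩ : (T : Subgroup Q)) ∈ D := by
  haveI : Fact (Nat.Prime 2) := ⟨Nat.prime_two⟩
  haveI : D.Normal := ⟨fun n hn g => by
    rw [show g * n * g⁻¹ = ⁅g, n⁆ * n by group]
    exact mul_mem (hD (commutator_mem_commutator (mem_top g) (mem_top n))) hn⟩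
  letI : CommGroup ((T : Subgroup Q) ⧸ D) := { (inferInstance : Group ((T : Subgroup Q) ⧸ D)) with
    mul_comm := fun a b => by
      induction a using QuotientGroup.induction_on with
      | H x =>
        induction b using QuotientGroup.induction_on with
        | H y =>
          refine QuotientGroup.eq.2 (hD ?_)
          rw [show (x * y)⁻¹ * (y * x) = ⁅y⁻¹, x⁻¹⁆ by group]
          exact commutator_mem_commutator (mem_top _) (mem_top _) }
  set φ : (T : Subgroup Q) →* (T : Subgroup Q) ⧸ D := QuotientGroup.mk' D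
  have h0 : MonoidHom.transfer φ v = 1 := by
    have h := Abelianization.commutator_subset_ker (MonoidHom.transfer φ)
    rw [hperf] at h
    exact h (mem_top v)
  have hk : ∀ (k : ℕ) (g₀ : Q), g₀⁻¹ * v ^ k * g₀ ∈ (T : Subgroup Q) →
      g₀⁻¹ * v ^ k * g₀ = v ^ k := fun k g₀ _ => by
    have hc : Commute g₀ (v ^ k) := (show Commute g₀ v from hv g₀).pow_right k
    rw [mul_assoc, ← hc.eq, inv_mul_cancel_left]
  rw [MonoidHom.transfer_eq_pow φ v hk] at h0
  have hmem := (QuotientGroup.eq_one_iff _).1 h0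
  have hodd : Odd (T : Subgroup Q).index := Nat.odd_iff.2 (Nat.two_dvd_ne_zero.1 T.not_dvd_index)
  obtain ⟨k, hk'⟩ := hodd
  convert hmem using 1
  refine Subtype.ext ?_
  show v = v ^ (T : Subgroup Q).index
  rw [hk', pow_succ, pow_mul, sq, hv2, one_pow, one_mul]

namespace LiftData

variable {Q L : Type*} [Group Q] [Finite Q] [Group L] {σ : Q →* L} {Zs : Set Q}
  (hd : LiftData σ Zs)
include hd

theorem comm_ker {k : Q} (hk : σ k = 1) (g : Q) : g * k = k * g := mem_center_iff.1 (hd.central hk) g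

theorem exists_invol_ker (he : ¬ Odd (Nat.card σ.ker)) :
    ∃ v : Q, σ v = 1 ∧ v * v = 1 ∧ v ≠ 1 := by
  haveI : Fact (Nat.Prime 2) := ⟨Nat.prime_two⟩
  obtain ⟨v, hv⟩ := exists_prime_orderOf_dvd_card' (G := σ.ker) 2
    (even_iff_two_dvd.1 (Nat.not_odd_iff_even.1 he))
  refine ⟨v, v.2, ?_, fun e => ?_⟩
  · rw [← sq, ← Subgroup.coe_pow, ← hv, pow_orderOf_eq_one]; rfl
  · rw [show v = 1 from Subtype.ext e, orderOf_one] at hv
    exact absurd hv (by decide)

/-- An involution central in the image of a Sylow subgroup has a lift in the class centralizing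
this Sylow subgroup. -/
theorem exists_central_lift (T : Sylow 2 Q) {x : L} (hx2 : x * x = 1) (hx1 : x ≠ 1)
    (hxc : ∀ t ∈ T, σ t * x = x * σ t) :
    ∃ q ∈ Zs, σ q = x ∧ q ∈ T ∧ ∀ t ∈ T, t * q = q * t := by
  haveI : Fact (Nat.Prime 2) := ⟨Nat.prime_two⟩
  obtain ⟨q, hq, hqx⟩ := hd.lift x hx2 hx1
  obtain ⟨S, hS⟩ := hd.sylow q hq
  let B : Subgroup Q := (centralizer ({x} : Set L)).comap σ
  have hTB : (T : Subgroup Q) ≤ B := fun t ht => mem_centralizer_singleton_iff.2 (hxc t ht)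
  have hSB : (S : Subgroup Q) ≤ B := fun s hs => mem_centralizer_singleton_iff.2 (by
    rw [← hqx, ← map_mul, ← map_mul, hS s hs])
  obtain ⟨b, hb⟩ := MulAction.exists_smul_eq B (S.subtype hSB) (T.subtype hTB)
  have hqx' : σ ((b : Q) * q * (b : Q)⁻¹) = x := by
    rw [map_mul, map_mul, hqx, mem_centralizer_singleton_iff.1 (show σ b ∈ _ from b.2),
      mul_assoc, ← map_mul, mul_inv_cancel, map_one, mul_one]
  have hc : ∀ t ∈ T, t * ((b : Q) * q * (b : Q)⁻¹) = (b : Q) * q * (b : Q)⁻¹ * t := by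
    intro t ht
    have hmem : (⟨t, hTB ht⟩ : B) ∈ (T.subtype hTB : Subgroup B) := ht
    rw [← hb, Sylow.coe_subgroup_smul] at hmem
    obtain ⟨s, hs, hse⟩ := hmem
    have hse' : (b : Q) * (s : Q) * (b : Q)⁻¹ = t := congrArg Subtype.val hse
    rw [← hse']
    calc (b : Q) * (s : Q) * (b : Q)⁻¹ * ((b : Q) * q * (b : Q)⁻¹)
        = (b : Q) * ((s : Q) * q) * (b : Q)⁻¹ := by group
      _ = (b : Q) * (q * (s : Q)) * (b : Q)⁻¹ := by rw [show (s : Q) * q = q * (s : Q) from hS _ hs]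
      _ = _ := by group
  exact ⟨_, hd.conj _ _ hq, hqx', mem_of_isPGroup_commute T (hd.invol _ (hd.conj _ _ hq)) hc, hc⟩

/-- The central lifts in a Sylow subgroup, with the identity. -/
def lifts (T : Sylow 2 Q) : Subgroup (T : Subgroup Q) where
  carrier := {q | q = 1 ∨ ((q : Q) ∈ Zs ∧ ∀ t ∈ T, t * (q : Q) = (q : Q) * t)}
  one_mem' := Or.inl rfl
  inv_mem' := by
    rintro q (rfl | ⟨hq, hc⟩)
    · exact Or.inl inv_one
    · refine Or.inr ?_
      rw [Subgroup.coe_inv, inv_eq_of_mul_eq_one_right (hd.invol _ hq)]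
      exact ⟨hq, hc⟩
  mul_mem' := by
    rintro q r hq hr
    rcases hq with rfl | ⟨hq, hqc⟩
    · rwa [one_mul]
    rcases hr with rfl | ⟨hr, hrc⟩
    · rw [mul_one]; exact Or.inr ⟨hq, hqc⟩
    by_cases he : σ (q : Q) = σ (r : Q)
    · have := hd.uniq _ hq _ hr (hqc _ r.2).symm he
      exact Or.inl (Subtype.ext (by rw [Subgroup.coe_mul, ← this]; exact hd.invol _ hq))
    · refine Or.inr ⟨hd.closed _ hq _ hr (hqc _ r.2).symm he, fun t ht => ?_⟩
      rw [Subgroup.coe_mul, ← mul_assoc, hqc t ht, mul_assoc, hrc t ht, mul_assoc]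

theorem lifts_central {T : Sylow 2 Q} {q : (T : Subgroup Q)} (hq : q ∈ hd.lifts T) :
    ∀ t ∈ T, t * (q : Q) = (q : Q) * t := by
  rcases hq with rfl | ⟨-, hc⟩
  · intro t _; rw [Subgroup.coe_one, mul_one, one_mul]
  · exact hc

theorem eq_one_of_lifts_ker {T : Sylow 2 Q} {q : (T : Subgroup Q)} (hq : q ∈ hd.lifts T)
    (hk : σ (q : Q) = 1) : q = 1 := by
  rcases hq with rfl | ⟨hq, -⟩
  · rfl
  · exact absurd hk (hd.notKer _ hq)

/-- The case of an image whose 2-elements square to the identity. -/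
theorem odd_ker_of_exponent (hexp : ∀ x : L, (∃ i : ℕ, x ^ 2 ^ i = 1) → x * x = 1) :
    Odd (Nat.card σ.ker) := by
  haveI : Fact (Nat.Prime 2) := ⟨Nat.prime_two⟩
  by_contra he
  obtain ⟨v, hvk, hv2, hv1⟩ := hd.exists_invol_ker he
  obtain ⟨T⟩ : Nonempty (Sylow 2 Q) := inferInstance
  have hsq : ∀ t ∈ T, σ t * σ t = 1 := fun t ht => hexp _ (by
    obtain ⟨i, hi⟩ := T.2 ⟨t, ht⟩
    exact ⟨i, by rw [← map_pow, show t ^ 2 ^ i = 1 from congrArg Subtype.val hi, map_one]⟩)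
  have hab : ∀ s ∈ T, ∀ t ∈ T, σ s * σ t = σ t * σ s := fun s hs t ht => by
    have h := hsq (s * t) (mul_mem (show s ∈ (T : Subgroup Q) from hs) ht)
    have hs' : (σ s)⁻¹ = σ s := inv_eq_of_mul_eq_one_right (hsq s hs)
    have ht' : (σ t)⁻¹ = σ t := inv_eq_of_mul_eq_one_right (hsq t ht)
    rw [map_mul] at h
    calc σ s * σ t = (σ s * σ t)⁻¹ := (inv_eq_of_mul_eq_one_right h).symm
      _ = σ t * σ s := by rw [mul_inv_rev, hs', ht']
  have hvT : v ∈ (T : Subgroup Q) :=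
    mem_of_isPGroup_commute T hv2 fun s _ => hd.comm_ker hvk s
  have hcomm : commutator (T : Subgroup Q) ≤ ⊥ := by
    rw [_root_.commutator_def, Subgroup.commutator_le]
    intro x _ y _
    have key : ∀ s : (T : Subgroup Q), ∀ t ∈ T, t * (s : Q) = (s : Q) * t := by
      intro s t ht
      by_cases hs1 : σ (s : Q) = 1
      · exact hd.comm_ker hs1 t
      obtain ⟨q, -, hqs, hqT, hqc⟩ := hd.exists_central_lift T (hsq _ s.2) hs1
        fun u hu => hab u hu _ s.2
      have hk : σ (q⁻¹ * (s : Q)) = 1 := by rw [map_mul, map_inv, hqs, inv_mul_cancel]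
      calc t * (s : Q) = t * q * (q⁻¹ * (s : Q)) := by group
        _ = q * t * (q⁻¹ * (s : Q)) := by rw [hqc t ht]
        _ = q * ((q⁻¹ * (s : Q)) * t) := by rw [mul_assoc, hd.comm_ker hk t]
        _ = (s : Q) * t := by group
    rw [Subgroup.mem_bot, commutatorElement_eq_one_iff_mul_comm]
    exact Subtype.ext (key y x x.2)
  have := mem_of_perfect hd.perfect T ⊥ hcomm (hd.comm_ker hvk) hv2 hvT
  exact hv1 (congrArg Subtype.val (mem_bot.1 this))

/-- The case of an image isomorphic to a Suzuki group. -/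
theorem odd_ker_of_suzuki {F : Type*} [Field F] [Fintype F] {m : ℕ} (hF : Suzuki.IsSzField F m)
    (e : L ≃* Suzuki.SzG F m) : Odd (Nat.card σ.ker) := by
  classical
  haveI : Fact (Nat.Prime 2) := ⟨Nat.prime_two⟩
  haveI := Suzuki.finite_G hF
  by_contra he
  obtain ⟨v, hvk, hv2, hv1⟩ := hd.exists_invol_ker he
  set τ : Q →* Suzuki.SzG F m := e.toMonoidHom.comp σ with hτ
  have hτs : Function.Surjective τ := e.surjective.comp hd.surj
  have hτk : ∀ q, τ q = 1 ↔ σ q = 1 := fun q => e.map_eq_one_iff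
  -- a Sylow subgroup over the unipotent group
  obtain ⟨T, hT⟩ : ∃ T : Sylow 2 Q, (T : Subgroup Q).map τ = Suzuki.unip hF := by
    obtain ⟨T₀⟩ : Nonempty (Sylow 2 Q) := inferInstance
    obtain ⟨g, hg⟩ := MulAction.exists_smul_eq (Suzuki.SzG F m) (T₀.mapSurjective hτs)
      (Suzuki.unipSylow hF)
    obtain ⟨g, rfl⟩ := hτs g
    refine ⟨g • T₀, ?_⟩
    rw [← Suzuki.coe_unipSylow hF, ← hg, Sylow.coe_subgroup_smul, Sylow.coe_subgroup_smul,
      Sylow.coe_mapSurjective]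
    ext x
    simp only [Subgroup.mem_map, Subgroup.mem_pointwise_smul_iff_inv_smul_mem, MulAut.smul_def]
    constructor
    · rintro ⟨y, hy, rfl⟩
      exact ⟨_, hy, by simp⟩
    · rintro ⟨y, hy, hyx⟩
      refine ⟨g * y * g⁻¹, by simpa [mul_assoc] using hy, ?_⟩
      rw [map_mul, map_mul, hyx]
      simp [mul_assoc]
  have hmemU : ∀ t ∈ T, ∃ a b, τ t = Suzuki.uE hF a b := fun t ht =>
    Suzuki.exists_uE hF (hT ▸ ⟨t, ht, rfl⟩)
  -- the elements over the centre of the unipotent group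
  let E : Subgroup Q := (T : Subgroup Q) ⊓ ((Suzuki.unip hF ⊓ centralizer (Suzuki.unip hF : Set _)).comap τ)
  have hEmem : ∀ x, x ∈ E ↔ x ∈ T ∧ ∃ b, τ x = Suzuki.uE hF 0 b := by
    intro x
    constructor
    · rintro ⟨hxT, hxU, hxc⟩
      refine ⟨hxT, ?_⟩
      have hc : (⟨τ x, hxU⟩ : Suzuki.unip hF) ∈ center (Suzuki.unip hF) :=
        mem_center_iff.2 fun y => Subtype.ext (mem_centralizer_iff.1 hxc _ y.2)
      exact (Suzuki.mem_center_unip_iff hF).1 hc
    · rintro ⟨hxT, b, hb⟩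
      refine ⟨hxT, show τ x ∈ Suzuki.unip hF from hb ▸ Suzuki.uE_mem hF 0 b,
        mem_centralizer_iff.2 fun y hy => ?_⟩
      have hc : (⟨τ x, hb ▸ Suzuki.uE_mem hF 0 b⟩ : Suzuki.unip hF) ∈ center (Suzuki.unip hF) :=
        (Suzuki.mem_center_unip_iff hF).2 ⟨b, hb⟩
      exact congrArg Subtype.val (mem_center_iff.1 hc ⟨y, hy⟩)
  -- each is a central lift times a kernel element
  have hdec : ∀ x ∈ E, ∃ w : (T : Subgroup Q), w ∈ hd.lifts T ∧ σ (w : Q) = σ x := by
    intro x hx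
    by_cases h1 : σ x = 1
    · exact ⟨1, one_mem _, by rw [Subgroup.coe_one, map_one, h1]⟩
    obtain ⟨hxT, b, hb⟩ := (hEmem x).1 hx
    have hx2 : σ x * σ x = 1 := e.injective (by
      show e (σ x * σ x) = e 1
      rw [map_mul, map_one]
      show τ x * τ x = 1
      rw [hb, Suzuki.uE_sq, Suzuki.sg_zero, zero_mul, Suzuki.uE_zero])
    obtain ⟨q, hq, hqx, hqT, hqc⟩ := hd.exists_central_lift T hx2 h1 fun t ht => e.injective (by
      rw [map_mul, map_mul]
      exact mem_centralizer_iff.1 hx.2.2 (τ t) (hT ▸ ⟨t, ht, rfl⟩))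
    exact ⟨⟨q, hqT⟩, Or.inr ⟨hq, hqc⟩, hqx⟩
  choose! w hw hwσ using hdec
  let ψ : Q → center Q := fun x => if hx : x ∈ E then ⟨((w x : (T : Subgroup Q)) : Q)⁻¹ * x,
    hd.central (by rw [MonoidHom.mem_ker, map_mul, map_inv, hwσ x hx, inv_mul_cancel])⟩ else 1
  have hψ : ∀ x ∈ E, ∀ u : (T : Subgroup Q), u ∈ hd.lifts T → σ (u : Q) = σ x →
      ((ψ x : center Q) : Q) = (u : Q)⁻¹ * x := by
    intro x hx u hu hux
    simp only [ψ, dif_pos hx]
    have : u⁻¹ * w x = 1 := hd.eq_one_of_lifts_ker (mul_mem (inv_mem hu) (hw x hx))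
      (by rw [Subgroup.coe_mul, Subgroup.coe_inv, map_mul, map_inv, hux, hwσ x hx, inv_mul_cancel])
    rw [inv_mul_eq_one] at this
    rw [this]
  have hEc : ∀ x ∈ E, ∀ t ∈ T, t * x = x * t := by
    intro x hx t ht
    have hk : σ (((w x : (T : Subgroup Q)) : Q)⁻¹ * x) = 1 := by
      rw [map_mul, map_inv, hwσ x hx, inv_mul_cancel]
    calc t * x = t * ((w x : (T : Subgroup Q)) : Q) * (((w x : (T : Subgroup Q)) : Q)⁻¹ * x) := by group
      _ = ((w x : (T : Subgroup Q)) : Q) * t * (((w x : (T : Subgroup Q)) : Q)⁻¹ * x) := by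
          rw [hd.lifts_central (hw x hx) t ht]
      _ = ((w x : (T : Subgroup Q)) : Q) * ((((w x : (T : Subgroup Q)) : Q)⁻¹ * x) * t) := by
          rw [mul_assoc, hd.comm_ker hk t]
      _ = x * t := by group
  have hψmul : ∀ x ∈ E, ∀ y ∈ E, ψ (x * y) = ψ x * ψ y := by
    intro x hx y hy
    refine Subtype.ext ?_
    have hxk : σ (((w x : (T : Subgroup Q)) : Q)⁻¹ * x) = 1 := by
      rw [map_mul, map_inv, hwσ x hx, inv_mul_cancel]
    rw [Subgroup.coe_mul, hψ _ (mul_mem hx hy) (w x * w y) (mul_mem (hw x hx) (hw y hy))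
        (by rw [Subgroup.coe_mul, map_mul, map_mul, hwσ x hx, hwσ y hy]),
      hψ x hx _ (hw x hx) (hwσ x hx), hψ y hy _ (hw y hy) (hwσ y hy), Subgroup.coe_mul, mul_inv_rev]
    calc ((w y : (T : Subgroup Q)) : Q)⁻¹ * ((w x : (T : Subgroup Q)) : Q)⁻¹ * (x * y)
        = ((w y : (T : Subgroup Q)) : Q)⁻¹ * (((w x : (T : Subgroup Q)) : Q)⁻¹ * x) * y := by group
      _ = ((w x : (T : Subgroup Q)) : Q)⁻¹ * x * ((w y : (T : Subgroup Q)) : Q)⁻¹ * y := by
          rw [hd.comm_ker hxk]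
      _ = _ := by group
  have hcommE : ∀ x ∈ T, ∀ y ∈ T, ⁅x, y⁆ ∈ E := by
    intro x hx y hy
    refine (hEmem _).2 ⟨mul_mem (mul_mem (mul_mem (show x ∈ (T : Subgroup Q) from hx) hy)
      (inv_mem (show x ∈ (T : Subgroup Q) from hx))) (inv_mem (show y ∈ (T : Subgroup Q) from hy)), ?_⟩
    obtain ⟨a, b, ha⟩ := hmemU x hx
    obtain ⟨c, d, hc⟩ := hmemU y hy
    rw [map_commutatorElement, ha, hc, commutatorElement_def, Suzuki.uE_conj, Suzuki.uE_inv,
      Suzuki.uE_mul, show c + c = 0 from by linear_combination c * hF.two_eq_zero]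
    exact ⟨_, rfl⟩
  have hlift : ∀ a : F, ∃ x ∈ T, τ x = Suzuki.uE hF a 0 := fun a => by
    have : Suzuki.uE hF a 0 ∈ (T : Subgroup Q).map τ := hT.symm ▸ Suzuki.uE_mem hF a 0
    exact this
  choose X hXT hX using hlift
  -- commutators depend only on the first coordinates
  have hind : ∀ (x y : Q) (a c : F), x ∈ T → y ∈ T → (∃ b, τ x = Suzuki.uE hF a b) →
      (∃ d, τ y = Suzuki.uE hF c d) → ⁅x, y⁆ = ⁅X a, X c⁆ := by
    have key : ∀ (x : Q) (a : F), x ∈ T → (∃ b, τ x = Suzuki.uE hF a b) →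
        ∃ u ∈ E, x = X a * u := by
      rintro x a hx ⟨b, hb⟩
      refine ⟨(X a)⁻¹ * x, (hEmem _).2 ⟨mul_mem (inv_mem (show X a ∈ (T : Subgroup Q) from hXT a)) hx,
        ?_⟩, by group⟩
      rw [map_mul, map_inv, hX, hb, Suzuki.uE_inv, Suzuki.uE_mul]
      exact ⟨_, by rw [show a + a = 0 from by linear_combination a * hF.two_eq_zero]⟩
    intro x y a c hx hy hxa hyc
    obtain ⟨u, hu, rfl⟩ := key x a hx hxa
    obtain ⟨u', hu', rfl⟩ := key y c hy hyc
    rw [commutatorElement_def, commutatorElement_def]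
    calc X a * u * (X c * u') * (X a * u)⁻¹ * (X c * u')⁻¹
        = X a * (u * (X c * u')) * u⁻¹ * (X a)⁻¹ * u'⁻¹ * (X c)⁻¹ := by group
      _ = X a * X c * (u' * (X a)⁻¹) * u'⁻¹ * (X c)⁻¹ := by
          rw [← hEc u hu _ (mul_mem (show X c ∈ (T : Subgroup Q) from hXT c) hu'.1)]; group
      _ = X a * X c * (X a)⁻¹ * (X c)⁻¹ := by
          rw [← hEc u' hu' _ (inv_mem (show X a ∈ (T : Subgroup Q) from hXT a))]; group
  -- the pairing
  let β : F → F → center Q := fun a c => ψ ⁅X a, X c⁆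
  have hq : 4 < Fintype.card F := by
    rw [← Nat.card_eq_fintype_card, hF.card]
    have h3 : 3 ≤ 2 * m + 1 := by
      have := hF.four_le
      rcases Nat.eq_zero_or_pos m with rfl | hm
      · norm_num at this
      · omega
    calc 4 < 2 ^ 3 := by norm_num
      _ ≤ 2 ^ (2 * m + 1) := Nat.pow_le_pow_right (by norm_num) h3
  have hXadd : ∀ a a' : F, ∃ b, τ (X a * X a') = Suzuki.uE hF (a + a') b := fun a a' =>
    ⟨_, by rw [map_mul, hX, hX, Suzuki.uE_mul]⟩
  have hself : ∀ a, ∃ b, τ (X a) = Suzuki.uE hF a b := fun a => ⟨_, hX a⟩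
  have hl : ∀ a a' c, β (a + a') c = β a c * β a' c := by
    intro a a' c
    show ψ ⁅X (a + a'), X c⁆ = _
    rw [← hind _ _ _ _ (mul_mem (show X a ∈ (T : Subgroup Q) from hXT a) (hXT a')) (hXT c)
      (hXadd a a') (hself c)]
    have e' : ⁅X a * X a', X c⁆ = ⁅X a', X c⁆ * ⁅X a, X c⁆ := by
      calc ⁅X a * X a', X c⁆ = X a * ⁅X a', X c⁆ * (X a)⁻¹ * ⁅X a, X c⁆ := by
            rw [commutatorElement_def, commutatorElement_def, commutatorElement_def]; group
        _ = _ := by rw [hEc _ (hcommE _ (hXT a') _ (hXT c)) _ (hXT a), mul_inv_cancel_right]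
    rw [e', hψmul _ (hcommE _ (hXT a') _ (hXT c)) _ (hcommE _ (hXT a) _ (hXT c))]
    exact Subtype.ext (mem_center_iff.1 (β a c).2 _)
  have hr : ∀ a c c', β a (c + c') = β a c * β a c' := by
    intro a c c'
    show ψ ⁅X a, X (c + c')⁆ = _
    rw [← hind _ _ _ _ (hXT a) (mul_mem (show X c ∈ (T : Subgroup Q) from hXT c) (hXT c'))
      (hself a) (hXadd c c')]
    have e' : ⁅X a, X c * X c'⁆ = ⁅X a, X c⁆ * ⁅X a, X c'⁆ := by
      calc ⁅X a, X c * X c'⁆ = ⁅X a, X c⁆ * (X c * ⁅X a, X c'⁆ * (X c)⁻¹) := by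
            rw [commutatorElement_def, commutatorElement_def, commutatorElement_def]; group
        _ = _ := by rw [hEc _ (hcommE _ (hXT a) _ (hXT c')) _ (hXT c), mul_inv_cancel_right]
    rw [e', hψmul _ (hcommE _ (hXT a) _ (hXT c)) _ (hcommE _ (hXT a) _ (hXT c'))]
  -- conjugation by the torus
  have htorus : ∀ (t : Fˣ) (a c : F),
      β (Suzuki.sg m (t : F) * a) (Suzuki.sg m (t : F) * c) = β a c := by
    intro t a c
    obtain ⟨g, hg⟩ := hτs (Suzuki.dE hF t)
    have hgT : ∀ x ∈ T, g * x * g⁻¹ ∈ T := by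
      intro x hx
      obtain ⟨a₀, b₀, h0⟩ := hmemU x hx
      have himg : τ (g * x * g⁻¹) ∈ (T : Subgroup Q).map τ := by
        rw [hT, map_mul, map_mul, map_inv, hg, h0, Suzuki.dE_conj]
        exact Suzuki.uE_mem hF _ _
      obtain ⟨x', hx', hxx'⟩ := himg
      set k := x'⁻¹ * (g * x * g⁻¹) with hk
      have hk1 : σ k = 1 := (hτk k).1 (by rw [hk, map_mul, map_inv, hxx', inv_mul_cancel])
      have hn : zpowers (g * x * g⁻¹) ≤ normalizer ((T : Subgroup Q) : Set Q) := by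
        rw [zpowers_le, show g * x * g⁻¹ = x' * k by rw [hk]; group]
        refine mul_mem (le_normalizer hx') (mem_normalizer_iff.2 fun w => ?_)
        rw [← hd.comm_ker hk1 w, mul_inv_cancel_right]
      have hp : IsPGroup 2 (zpowers (g * x * g⁻¹)) := by
        obtain ⟨i, hi⟩ := IsPGroup.iff_orderOf.1 T.2 ⟨x, hx⟩
        refine IsPGroup.of_card (n := i) ?_
        rw [Nat.card_zpowers, ← hi, Subgroup.orderOf_mk]
        exact orderOf_injective (MulAut.conj g).toMonoidHom (MulAut.conj g).injective x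
      have hsup : (T : Subgroup Q) ⊔ zpowers (g * x * g⁻¹) = (T : Subgroup Q) :=
        T.3 (T.2.to_sup_of_normal_left' hp hn) le_sup_left
      show g * x * g⁻¹ ∈ (T : Subgroup Q)
      rw [← hsup]
      exact mem_sup_right (mem_zpowers _)
    have hgT' : ∀ x ∈ T, ∃ y ∈ T, g * y * g⁻¹ = x := by
      intro x hx
      have hle : (T : Subgroup Q).map (MulAut.conj g).toMonoidHom ≤ (T : Subgroup Q) := by
        rintro _ ⟨y, hy, rfl⟩; exact hgT y hy
      have heq := eq_of_le_of_card_ge hle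
        (le_of_eq (card_map_of_injective (MulAut.conj g).injective).symm)
      obtain ⟨y, hy, rfl⟩ := heq.symm ▸ (show x ∈ (T : Subgroup Q) from hx)
      exact ⟨y, hy, rfl⟩
    have hx1 : ⁅X (Suzuki.sg m (t : F) * a), X (Suzuki.sg m (t : F) * c)⁆ = g * ⁅X a, X c⁆ * g⁻¹ := by
      rw [← hind (g * X a * g⁻¹) (g * X c * g⁻¹) _ _ (hgT _ (hXT a)) (hgT _ (hXT c))
        ⟨_, by rw [map_mul, map_mul, map_inv, hg, hX, Suzuki.dE_conj]⟩
        ⟨_, by rw [map_mul, map_mul, map_inv, hg, hX, Suzuki.dE_conj]⟩]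
      rw [commutatorElement_def, commutatorElement_def]; group
    show ψ _ = ψ _
    rw [hx1]
    set x := ⁅X a, X c⁆
    have hx : x ∈ E := hcommE _ (hXT a) _ (hXT c)
    have hgx : g * x * g⁻¹ ∈ E := hx1 ▸ hcommE _ (hXT _) _ (hXT _)
    have hu : ∃ u : (T : Subgroup Q), u ∈ hd.lifts T ∧
        (u : Q) = g * ((w x : (T : Subgroup Q)) : Q) * g⁻¹ := by
      refine ⟨⟨_, hgT _ (w x).2⟩, ?_, rfl⟩
      rcases hw x hx with h1 | ⟨h1, h2⟩
      · exact Or.inl (Subtype.ext (by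
          show g * ((w x : (T : Subgroup Q)) : Q) * g⁻¹ = 1
          rw [h1, Subgroup.coe_one, mul_one, mul_inv_cancel]))
      · refine Or.inr ⟨hd.conj g _ h1, fun s hs => ?_⟩
        obtain ⟨y, hy, rfl⟩ := hgT' s hs
        show g * y * g⁻¹ * (g * _ * g⁻¹) = g * _ * g⁻¹ * (g * y * g⁻¹)
        calc g * y * g⁻¹ * (g * ((w x : (T : Subgroup Q)) : Q) * g⁻¹)
            = g * (y * ((w x : (T : Subgroup Q)) : Q)) * g⁻¹ := by group
          _ = g * (((w x : (T : Subgroup Q)) : Q) * y) * g⁻¹ := by rw [h2 y hy]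
          _ = _ := by group
    obtain ⟨u, hu, hue⟩ := hu
    refine Subtype.ext ?_
    rw [hψ _ hgx u hu (by rw [hue, map_mul, map_mul, map_mul, map_mul, hwσ x hx]),
      hψ x hx _ (hw x hx) (hwσ x hx), hue]
    have hk : σ (((w x : (T : Subgroup Q)) : Q)⁻¹ * x) = 1 := by
      rw [map_mul, map_inv, hwσ x hx, inv_mul_cancel]
    calc (g * ((w x : (T : Subgroup Q)) : Q) * g⁻¹)⁻¹ * (g * x * g⁻¹)
        = g * (((w x : (T : Subgroup Q)) : Q)⁻¹ * x) * g⁻¹ := by group
      _ = _ := by rw [hd.comm_ker hk g, mul_inv_cancel_right]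
  have hβ : ∀ a c, β a c = 1 := by
    refine CfsgLib.SL2Mult.pairing_trivial β hl hr (fun s hs a c => ?_) (fun _ => hq)
      (fun h2 => absurd hF.two_eq_zero h2)
    obtain ⟨u, hu⟩ := hF.sg_bijective.2 (s ^ 2)
    have hu0 : u ≠ 0 := fun h0 => pow_ne_zero 2 hs (by rw [← hu, h0, Suzuki.sg_zero])
    rw [← hu]
    exact htorus (Units.mk0 u hu0) a c
  -- so the commutators are central lifts
  have hcomm : commutator (T : Subgroup Q) ≤ hd.lifts T := by
    rw [_root_.commutator_def, Subgroup.commutator_le]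
    intro x _ y _
    obtain ⟨a, b, ha⟩ := hmemU x x.2
    obtain ⟨c, d, hc⟩ := hmemU y y.2
    have hE := hcommE _ x.2 _ y.2
    have h1 : ψ ⁅(x : Q), (y : Q)⁆ = 1 := by
      rw [hind _ _ _ _ x.2 y.2 ⟨b, ha⟩ ⟨d, hc⟩]; exact hβ a c
    have h2 := hψ _ hE (w ⁅(x : Q), (y : Q)⁆) (hw _ hE) (hwσ _ hE)
    rw [h1, Subgroup.coe_one] at h2
    have h3 : ⁅x, y⁆ = w ⁅(x : Q), (y : Q)⁆ := Subtype.ext (inv_mul_eq_one.1 h2.symm).symm
    rw [h3]
    exact hw _ hE
  have hvT : v ∈ (T : Subgroup Q) :=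
    mem_of_isPGroup_commute T hv2 fun s _ => hd.comm_ker hvk s
  have := hd.eq_one_of_lifts_ker
    (mem_of_perfect hd.perfect T _ hcomm (hd.comm_ker hvk) hv2 hvT) hvk
  exact hv1 (congrArg Subtype.val this)

omit hd in
/-- A perfect central extension of `PSU₃(2ⁿ)` has a kernel of odd order. -/
theorem odd_ker_of_psu {Q : Type} [Group Q] [Finite Q] {F : Type} [Field F] [Fintype F] {n : ℕ}
    (hn : 2 ≤ n) (hF : Fintype.card F = (2 ^ n) ^ 2) {τ : Q →* Cfsg.PSU 3 F (2 ^ n)}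
    (hs : Function.Surjective τ) (hc : τ.ker ≤ center Q) (hp : commutator Q = ⊤) :
    Odd (Nat.card τ.ker) := by
  have h4 : 4 ≤ 2 ^ n := le_trans (by norm_num) (Nat.pow_le_pow_right two_pos hn)
  have hF' : Nat.card F = (2 ^ n) ^ 2 := by rw [Nat.card_eq_fintype_card, hF]
  set π := QuotientGroup.mk' (center (Cfsg.SU 3 F (2 ^ n))) with hπ
  obtain ⟨s, hs'⟩ := CfsgLib.UMult.split_large hF' h4 (le_refl 3) (Schur.pullback τ π) (Schur.psnd τ π)
    (Schur.psnd_surjective τ π hs) (SLMult.psnd_ker_le_center τ π hc)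
  set φ : Cfsg.SU 3 F (2 ^ n) →* Q := (Schur.pfst τ π).comp s
  have hφ : ∀ X, τ (φ X) = π X := fun X => by
    show τ (s X).1.1 = _
    rw [Schur.mem_pullback.1 (s X).2, show (s X).1.2 = X from hs' X]
  have hsurj : ∀ x : Q, ∃ X, φ X = x := by
    have hdec : ∀ x : Q, ∃ X, (φ X)⁻¹ * x ∈ center Q := fun x => by
      obtain ⟨X, hX⟩ := QuotientGroup.mk'_surjective (center (Cfsg.SU 3 F (2 ^ n))) (τ x)
      exact ⟨X, hc (by rw [MonoidHom.mem_ker, map_mul, map_inv, hφ, hπ, hX, inv_mul_cancel])⟩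
    have hle : commutator Q ≤ φ.range := by
      rw [_root_.commutator_def, Subgroup.commutator_le]
      intro x _ y _
      obtain ⟨X, hX⟩ := hdec x
      obtain ⟨Y, hY⟩ := hdec y
      refine ⟨⁅X, Y⁆, ?_⟩
      rw [map_commutatorElement, commutatorElement_def, commutatorElement_def]
      have hcx : x = φ X * ((φ X)⁻¹ * x) := by group
      have hcy : y = φ Y * ((φ Y)⁻¹ * y) := by group
      rw [hcx, hcy]
      set c := (φ X)⁻¹ * x
      set d := (φ Y)⁻¹ * y
      have hc' : ∀ g, g * c = c * g := mem_center_iff.1 hX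
      have hd' : ∀ g, g * d = d * g := mem_center_iff.1 hY
      symm
      calc φ X * c * (φ Y * d) * (φ X * c)⁻¹ * (φ Y * d)⁻¹
          = φ X * (c * (φ Y * d)) * c⁻¹ * (φ X)⁻¹ * d⁻¹ * (φ Y)⁻¹ := by group
        _ = φ X * φ Y * (d * (φ X)⁻¹) * d⁻¹ * (φ Y)⁻¹ := by rw [← hc' (φ Y * d)]; group
        _ = φ X * φ Y * (φ X)⁻¹ * (φ Y)⁻¹ := by rw [← hd' (φ X)⁻¹]; group
    rw [hp] at hle
    exact fun x => hle (mem_top x)
  have hle : τ.ker ≤ (center (Cfsg.SU 3 F (2 ^ n))).map φ := fun x hx => by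
    obtain ⟨X, rfl⟩ := hsurj x
    refine ⟨X, ?_, rfl⟩
    rw [MonoidHom.mem_ker, hφ] at hx
    exact (QuotientGroup.eq_one_iff _).1 hx
  refine Odd.of_dvd_nat ?_ ((card_dvd_of_le hle).trans (card_map_dvd _ φ))
  rw [CfsgLib.Unitary.card_center_SU hF' (by norm_num)]
  exact (by decide : Odd 3).of_dvd_nat (Nat.gcd_dvd_left _ _)

end LiftData

end CfsgLib.Criterion.Act
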