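import Cfsg.Agent.Criterion.Action.Setting

/-!
The induction: the criterion for arbitrary actions follows from the criterion for faithful actions
with local data.
-/

set_option autoImplicit false
set_option linter.unusedSectionVars false
set_option linter.style.haveILetI false

namespace CfsgLib.Criterion.Act

open Subgroup MulAction

universe u

namespace Setting

variable {G Ω : Type u} [Group G] [Finite G] [MulAction G Ω] [Finite Ω] [IsPretransitive G Ω]
  {a : Ω} {z : G} (h : Setting G Ω a z)
include h

omit [Finite G] [Finite Ω] [IsPretransitive G Ω] in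
theorem mem_localGroup_self {t : G} (htz : t * z = z * t) : z ∈ localGroup z t :=
  subset_closure ⟨IsConj.refl z, htz.symm⟩

omit h [Finite G] [Finite Ω] [IsPretransitive G Ω] [MulAction G Ω] in
theorem localGroup_le (z t : G) : localGroup z t ≤ centralizer ({t} : Set G) :=
  (closure_le _).2 fun _ hx => mem_centralizer_singleton_iff.2 hx.2

/-- The local group at `t` is transitive on the fixed points of `t`. -/
theorem mem_orbit_iff {t : G} (ht : t * t = 1) (htz : t * z = z * t) (b : Ω) :
    b ∈ orbit (localGroup z t) a ↔ t • b = b := by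
  set L := localGroup z t
  constructor
  · rintro ⟨l, rfl⟩
    show t • (l : G) • a = (l : G) • a
    rw [← mul_smul, ← mem_centralizer_singleton_iff.1 (localGroup_le z t l.2), mul_smul,
      h.fix_of_commute h.fix htz]
  · intro htb
    obtain ⟨x, hx, hxb, hxt⟩ := h.exists_commuting ht htb
    have hodd : Odd (Nat.card (orbit L b)) := odd_orbit (x := (⟨x, subset_closure ⟨hx, hxt⟩⟩ : L))
      (Subtype.ext (h.conj_fix hx).1) (fun c => hxb c)
    obtain ⟨c, hc⟩ := exists_fixed hodd (fun c => (⟨z, h.mem_localGroup_self htz⟩ : L) • c) fun c => by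
      rw [← mul_smul, show (⟨z, h.mem_localGroup_self htz⟩ : L) * ⟨z, h.mem_localGroup_self htz⟩ = 1
        from Subtype.ext h.mul_self, one_smul]
    have hza : z • (c : Ω) = c := congrArg Subtype.val hc
    exact mem_orbit_symm.1 ((h.fix _).1 hza ▸ c.2)

/-- The local group acting on the fixed points is again a setting. -/
theorem exists_local {t : G} (ht : t * t = 1) (htz : t * z = z * t)
    (hbad : ∃ b, b ≠ a ∧ t • b = b) :
    ∃ z₀ : localGroup z t, IsConj z (z₀ : G) ∧
      Setting (localGroup z t) (orbit (localGroup z t) a) ⟨a, mem_orbit_self a⟩ z₀ := by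
  haveI : Fact (Nat.Prime 2) := ⟨Nat.prime_two⟩
  set L := localGroup z t
  let M := stabilizer L a
  have hzL : z ∈ L := h.mem_localGroup_self htz
  have hta : t • a = a := h.fix_of_commute h.fix htz
  obtain ⟨T, -⟩ := (IsPGroup.of_bot (p := 2) (G := M)).exists_le_sylow
  let Q : Subgroup G := ((T : Subgroup M).map M.subtype).map L.subtype
  have hQ : IsPGroup 2 Q := (T.2.map _).map _
  have hQL : Q ≤ L := map_subtype_le _
  have hQt : Q ≤ normalizer (zpowers t : Set G) := fun q hq => by
    have hc : Commute q t := mem_centralizer_singleton_iff.1 (localGroup_le z t (hQL hq))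
    refine mem_normalizer_iff.2 fun w => ⟨?_, fun hw => ?_⟩
    · rintro ⟨m, rfl⟩
      exact ⟨m, show t ^ m = q * t ^ m * q⁻¹ by rw [(hc.zpow_right m).eq, mul_inv_cancel_right]⟩
    · obtain ⟨m, hm⟩ := hw
      have hm' : t ^ m = q * w * q⁻¹ := hm
      exact ⟨m, show t ^ m = w from mul_left_cancel ((hc.zpow_right m).eq.trans
        (by rw [hm']; group))⟩
  obtain ⟨x, hx, hxa, hxc⟩ := h.exists_central (Q := Q ⊔ zpowers t)
    (hQ.to_sup_of_normal_right' (isPGroup_zpowers_two ht) hQt) (b := a) (fun q hq => by
      have hle : Q ⊔ zpowers t ≤ stabilizer G a := sup_le (by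
        rintro _ ⟨_, ⟨m, -, rfl⟩, rfl⟩
        exact m.2) (zpowers_le.2 hta)
      exact hle hq)
  have hxL : x ∈ L := subset_closure ⟨hx, (hxc t (mem_sup_right (mem_zpowers t))).symm⟩
  let x₀ : L := ⟨x, hxL⟩
  have hxM : x₀ ∈ M := (hxa a).2 rfl
  have hxT : (⟨x₀, hxM⟩ : M) ∈ T := mem_of_isPGroup_commute T
    (Subtype.ext (Subtype.ext (h.conj_fix hx).1)) fun s hs => Subtype.ext (Subtype.ext
      (hxc ((s : L) : G) (mem_sup_left ⟨(s : L), ⟨s, hs, rfl⟩, rfl⟩)))
  obtain ⟨S, hS⟩ := ((T.2.map M.subtype)).exists_le_sylow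
  have hodd : Odd (Nat.card (orbit L a)) := odd_orbit (x := x₀) (Subtype.ext (h.conj_fix hx).1)
    (fun c => hxa c)
  have hidx : ¬ 2 ∣ ((T : Subgroup M).map M.subtype).index := by
    rw [index_map_subtype]
    intro hd
    rcases (Nat.Prime.dvd_mul Nat.prime_two).1 hd with h' | h'
    · exact T.not_dvd_index h'
    · exact Nat.not_even_iff_odd.2 hodd (even_iff_two_dvd.2 (by rwa [Nat.card_coe_set_eq, ← index_stabilizer L a]))
  have hmax : ((T : Subgroup M).map M.subtype) = (S : Subgroup L) :=
    (((T.2.map M.subtype).toSylow hidx).3 S.2 hS).symm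
  refine ⟨x₀, hx, ⟨?_, ⟨S, ?_, ?_⟩, fun c => ?_, ?_, fun y w hy hw hc hne => ?_⟩⟩
  · rw [show orderOf x₀ = orderOf x from (Subgroup.orderOf_coe x₀).symm]
    obtain ⟨g, rfl⟩ := isConj_iff.1 hx
    exact (orderOf_injective (MulAut.conj g).toMonoidHom (MulAut.conj g).injective z).trans h.ord
  · show x₀ ∈ (S : Subgroup L)
    exact hmax ▸ ⟨⟨x₀, hxM⟩, hxT, rfl⟩
  · intro s hs
    have hs' : s ∈ (T : Subgroup M).map M.subtype := hmax.symm ▸ hs
    exact Subtype.ext (hxc (s : G) (mem_sup_left ⟨s, hs', rfl⟩))
  · constructor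
    · exact fun e => Subtype.ext ((hxa _).1 (congrArg Subtype.val e))
    · exact fun e => e ▸ Subtype.ext ((hxa a).2 rfl)
  · obtain ⟨b, hb, htb⟩ := hbad
    exact ⟨⟨b, (h.mem_orbit_iff ht htz b).2 htb⟩, fun e => hb (congrArg Subtype.val e)⟩
  · intro b c hb' hc'
    refine Subtype.ext (h.pair y w ?_ ?_ (congrArg Subtype.val hc) (fun e => hne (Subtype.ext e)) b c
      (congrArg Subtype.val hb') (congrArg Subtype.val hc'))
    · exact hx.trans (L.subtype.map_isConj hy)
    · exact hx.trans (L.subtype.map_isConj hw)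

end Setting

/-- The criterion for all actions from the criterion for faithful actions with local data. -/
theorem concl_of_core (hcore : Core.{u}) :
    ∀ (n : ℕ) (G Ω : Type u) [Group G] [Finite G] [MulAction G Ω] [Finite Ω] [IsPretransitive G Ω],
      Nat.card G < n → ∀ (a : Ω) (z : G), Setting G Ω a z → Concl G Ω z := by
  intro n
  induction n with
  | zero => exact fun G Ω _ _ _ _ _ hn => absurd hn (Nat.not_lt_zero _)
  | succ n ih =>
    intro G Ω _ _ _ _ _ hn a z h
    set f := (MulAction.toPermHom G Ω).rangeRestrict with hf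
    have hsurj : Function.Surjective f := MonoidHom.rangeRestrict_surjective _
    by_cases hinj : Function.Injective f
    · haveI : FaithfulSMul G Ω := ⟨fun {g g'} he => hinj (Subtype.ext (Equiv.ext he))⟩
      refine hcore G Ω a z h fun t ht htz hbad => ?_
      have ht2 : t * t = 1 := by rw [← sq, ← ht, pow_orderOf_eq_one]
      set L := localGroup z t
      obtain ⟨z₀, hz₀, hL⟩ := h.exists_local ht2 htz hbad
      have hlt : Nat.card L < Nat.card G := by
        refine lt_of_le_of_ne (card_le_card_group L) fun e => ?_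
        obtain ⟨b, hb⟩ : ∃ b : Ω, t • b ≠ b := by
          by_contra hcon
          push Not at hcon
          have : t = 1 := eq_of_smul_eq_smul fun c : Ω => (hcon c).trans (one_smul G c).symm
          rw [this, orderOf_one] at ht
          exact absurd ht (by decide)
        obtain ⟨g, rfl⟩ := exists_smul_eq G a b
        refine hb ((h.mem_orbit_iff ht2 htz _).1 ⟨⟨g, ?_⟩, rfl⟩)
        show g ∈ L
        rw [eq_top_of_card_eq L e]
        exact mem_top g
      set fL := (MulAction.toPermHom L (orbit L a)).rangeRestrict with hfL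
      have hsurjL : Function.Surjective fL := MonoidHom.rangeRestrict_surjective _
      have hact : ∀ (l : L) (c : orbit L a), fL l • c = l • c := fun _ _ => rfl
      haveI : IsPretransitive (MulAction.toPermHom L (orbit L a)).range (orbit L a) :=
        ⟨fun c d => by
          obtain ⟨l, hl⟩ := exists_smul_eq L c d
          exact ⟨fL l, hl⟩⟩
      haveI : FaithfulSMul (MulAction.toPermHom L (orbit L a)).range (orbit L a) :=
        ⟨fun {g g'} he => Subtype.ext (Equiv.ext he)⟩
      have hC := ih (MulAction.toPermHom L (orbit L a)).range (orbit L a)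
        (lt_of_le_of_lt (Nat.card_le_card_of_surjective fL hsurjL) (by omega)) _ _ hL.image
      have hgen : ∀ l : L, fL l ∈ normalClosure ({fL z₀} : Set _) := by
        have htop : (normalClosure ({fL z₀} : Set _)).comap fL = ⊤ := by
          refine top_le_iff.1 ?_
          have e : closure (((↑) : L → G) ⁻¹' {x : G | IsConj z x ∧ x * t = t * x}) = ⊤ :=
            closure_closure_coe_preimage
          rw [← e, closure_le]
          rintro y ⟨hy, hyt⟩
          obtain ⟨hy2, p, hp⟩ := h.conj_fix hy
          have hpO : p ∈ orbit L a :=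
            (h.mem_orbit_iff ht2 htz p).2 (h.fix_of_commute hp hyt.symm)
          refine hL.image.mem_normalClosure hC (p := ⟨p, hpO⟩)
            (by rw [← map_mul, show y * y = 1 from Subtype.ext hy2, map_one]) (fun c => ?_) ?_
          · rw [hact]
            exact ⟨fun e => Subtype.ext ((hp c).1 (congrArg Subtype.val e)),
              fun e => e ▸ Subtype.ext ((hp p).2 rfl)⟩
          intro w (hw : IsConj (fL z₀) w) hcomm hne
          obtain ⟨g, rfl⟩ := isConj_iff.1 hw
          obtain ⟨g, rfl⟩ := hsurjL g
          obtain ⟨S, -, hS⟩ := hL.central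
          have hcen : ∃ T : Sylow 2 L, ∀ s ∈ T, s * (g * z₀ * g⁻¹) = g * z₀ * g⁻¹ * s := by
            refine ⟨g • S, ?_⟩
            rintro _ ⟨s, hs, rfl⟩
            show g * s * g⁻¹ * (g * z₀ * g⁻¹) = g * z₀ * g⁻¹ * (g * s * g⁻¹)
            calc g * s * g⁻¹ * (g * z₀ * g⁻¹) = g * (s * z₀) * g⁻¹ := by group
              _ = g * (z₀ * s) * g⁻¹ := by rw [hS s hs]
              _ = _ := by group
          simp only [← map_inv, ← map_mul] at hcomm hne ⊢
          obtain ⟨w', hw', hfw, hc⟩ := exists_commuting_lift fL hcen (y := y) (Subtype.ext hy2)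
            (by rw [← map_mul, ← map_mul]; exact hcomm)
          have hne' : (y : G) ≠ (w' : G) := fun e => hne (by
            rw [Subtype.ext e, hfw])
          intro c d hc' hd'
          rw [map_mul, ← hfw, ← map_mul, hact] at hc' hd'
          refine Subtype.ext (h.pair _ _ hy ?_ (congrArg Subtype.val hc.symm) hne' c d
            (congrArg Subtype.val hc') (congrArg Subtype.val hd'))
          exact (hz₀.trans (L.subtype.map_isConj (isConj_iff.2 ⟨g, rfl⟩))).trans
            (L.subtype.map_isConj hw')
        intro l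
        have hl : l ∈ (normalClosure ({fL z₀} : Set _)).comap fL := by rw [htop]; exact mem_top l
        exact hl
      intro x hx hsq ⟨b₀, hb₀, hxb₀⟩ b c hb hc hxb hxc
      have key := hC (fL ⟨x, hx⟩) (hgen ⟨x, hx⟩) (fun d => by
          rw [← map_mul, hact]
          exact Subtype.ext (hsq d ((h.mem_orbit_iff ht2 htz _).1 d.2)))
        ⟨⟨b₀, (h.mem_orbit_iff ht2 htz _).2 hb₀⟩, fun e => hxb₀ (congrArg Subtype.val e)⟩
        ⟨b, (h.mem_orbit_iff ht2 htz _).2 hb⟩ ⟨c, (h.mem_orbit_iff ht2 htz _).2 hc⟩
        (Subtype.ext hxb) (Subtype.ext hxc)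
      exact congrArg Subtype.val key
    · haveI : IsPretransitive (MulAction.toPermHom G Ω).range Ω := ⟨fun c d => by
        obtain ⟨g, hg⟩ := exists_smul_eq G c d
        exact ⟨f g, hg⟩⟩
      have hlt : Nat.card (MulAction.toPermHom G Ω).range < Nat.card G := by
        refine lt_of_le_of_ne (Nat.card_le_card_of_surjective f hsurj) fun e => hinj ?_
        exact ((Nat.bijective_iff_surjective_and_card f).2 ⟨hsurj, e.symm⟩).1
      have hC := ih (MulAction.toPermHom G Ω).range Ω (by omega) a (f z) h.image
      intro x hx hsq hmv b c hb hc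
      have hxK : f x ∈ normalClosure ({f z} : Set _) :=
        (normalClosure_le_normal (N := (normalClosure ({f z} : Set _)).comap f)
          (Set.singleton_subset_iff.2 (subset_normalClosure rfl))) hx
      exact hC (f x) hxK (fun d => by rw [← map_mul]; exact hsq d) hmv b c hb hc

end CfsgLib.Criterion.Act
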