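import Cfsg.Agent.Criterion.Action.Facts
import Cfsg.Agent.Criterion.Action.Descend
import Cfsg.Agent.Criterion.Action.Cover
import Cfsg.Agent.Criterion.Action.Rows
import Cfsg.Agent.Criterion.Consumers
import Cfsg.Agent.Bender.StructureMain
import Mathlib.Algebra.Group.Shrink

/-!
The criterion from local data gives the criterion for faithful actions: at an involution `t` fixing
two points the kernel of the local group on the fixed points of `t` has no involution.
-/

set_option autoImplicit false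
set_option linter.unusedSectionVars false
set_option linter.style.haveILetI false

namespace CfsgLib.Criterion.Act

open Subgroup MulAction
open scoped commutatorElement

universe u

/-- A central element of a Sylow subgroup has a conjugate in its fibre centralizing a given
2-subgroup fixing the fibre. -/
theorem exists_fixed_lift {A B : Type*} [Group A] [Finite A] [Group B] (f : A →* B) {q : A}
    (hq : ∃ S : Sylow 2 A, ∀ s ∈ S, s * q = q * s) {X : Subgroup A} (hX : IsPGroup 2 X)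
    (hc : ∀ x ∈ X, f x * f q = f q * f x) :
    ∃ w : A, IsConj q w ∧ f w = f q ∧ ∀ x ∈ X, x * w = w * x := by
  haveI : Fact (Nat.Prime 2) := ⟨Nat.prime_two⟩
  obtain ⟨S, hS⟩ := hq
  let C : Subgroup A := (centralizer ({f q} : Set B)).comap f
  have hSC : (S : Subgroup A) ≤ C := fun s hs => mem_centralizer_singleton_iff.2 (by
    rw [← map_mul, ← map_mul, hS s hs])
  have hXC : X ≤ C := fun x hx => mem_centralizer_singleton_iff.2 (hc x hx)
  obtain ⟨T, hT⟩ := (hX.comap_subtype (K := C)).exists_le_sylow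
  obtain ⟨b, hb⟩ := MulAction.exists_smul_eq C (S.subtype hSC) T
  refine ⟨(b : A) * q * (b : A)⁻¹, isConj_iff.2 ⟨b, rfl⟩, ?_, fun x hx => ?_⟩
  · rw [map_mul, map_mul, mem_centralizer_singleton_iff.1 (show f b ∈ _ from b.2),
      mul_assoc, ← map_mul, mul_inv_cancel, map_one, mul_one]
  · have hmem : (⟨x, hXC hx⟩ : C) ∈ (T : Subgroup C) := hT hx
    rw [← hb, Sylow.coe_subgroup_smul] at hmem
    obtain ⟨s, hs, hse⟩ := hmem
    have hse' : (b : A) * (s : A) * (b : A)⁻¹ = x := congrArg Subtype.val hse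
    rw [← hse']
    calc (b : A) * (s : A) * (b : A)⁻¹ * ((b : A) * q * (b : A)⁻¹)
        = (b : A) * ((s : A) * q) * (b : A)⁻¹ := by group
      _ = (b : A) * (q * (s : A)) * (b : A)⁻¹ := by rw [show (s : A) * q = q * s from hS _ hs]
      _ = _ := by group

/-- A perfect cover with lifts of one of the three groups has a kernel of odd order. -/
theorem odd_ker_of_three {Q L : Type u} [Group Q] [Finite Q] [Group L] [Finite L] {σ : Q →* L}
    {Zs : Set Q} (hd : LiftData σ Zs) (hL : Bender.Consumers.Three L) : Odd (Nat.card σ.ker) := by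
  rcases hL with ⟨F, i1, i2, ⟨n, hn, hc⟩, ⟨e⟩⟩ | ⟨F, i1, i2, m, hm, hc, ⟨e⟩⟩ |
    ⟨F, i1, i2, n, hn, hc, ⟨e⟩⟩
  · refine hd.odd_ker_of_exponent fun x ⟨i, hi⟩ => e.injective ?_
    rw [map_mul, map_one]
    have h2i : orderOf (e x) ∣ 2 ^ i := orderOf_dvd_of_pow_eq_one (by rw [← map_pow, hi, map_one])
    have h2 : orderOf (e x) ∣ 2 := by
      have hp : Even (2 ^ n) := even_two.pow_of_ne_zero (by omega)
      have key : ∀ k, Odd k → orderOf (e x) ∣ k → orderOf (e x) ∣ 2 := fun k hk h => by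
        rw [Nat.eq_one_of_dvd_coprimes ((Nat.coprime_two_left.2 (hk.of_dvd_nat h)).pow_left i) h2i dvd_rfl]
        exact one_dvd 2
      rcases CITGraph.spectrum_psl (by omega) hc (e x) with h | h | h
      · exact h
      · exact key _ (Nat.Even.sub_odd Nat.one_le_two_pow hp odd_one) h
      · exact key _ hp.add_one h
    rw [← sq]
    exact orderOf_dvd_iff_pow_eq_one.1 h2
  · have hF := Suzuki.isSzField_of_card hm hc
    exact hd.odd_ker_of_suzuki hF (e.trans (Suzuki.lieEquiv hF).symm)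
  · let ι : Shrink.{0} Q ≃* Q := Shrink.mulEquiv
    haveI : Finite (Shrink.{0} Q) := Finite.of_equiv Q ι.symm.toEquiv
    let τ : Shrink.{0} Q →* Cfsg.PSU 3 F (2 ^ n) := (e.toMonoidHom.comp σ).comp ι.toMonoidHom
    have hk : ∀ x, x ∈ τ.ker ↔ ι x ∈ σ.ker := fun x => by
      rw [MonoidHom.mem_ker, MonoidHom.mem_ker]
      exact e.map_eq_one_iff
    have hodd := LiftData.odd_ker_of_psu (Q := Shrink.{0} Q) hn hc (τ := τ)
      ((e.surjective.comp hd.surj).comp ι.surjective)
      (fun x hx => mem_center_iff.2 fun y => ι.injective (by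
        rw [map_mul, map_mul]; exact mem_center_iff.1 (hd.central ((hk x).1 hx)) (ι y)))
      (by
        rw [← Schur.map_commutator_of_surjective ι.symm.toMonoidHom ι.symm.surjective, hd.perfect]
        exact Subgroup.map_top_of_surjective _ ι.symm.surjective)
    rwa [Nat.card_congr (ι.toEquiv.subtypeEquiv hk)] at hodd

/-- The class generating `L`. -/
structure ClassData {L P : Type*} [Group L] [Group P] (π : L →* P) (Zl : Set L) (z₀ : L) : Prop where
  surj : Function.Surjective π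
  mem : z₀ ∈ Zl
  gen : closure Zl = ⊤
  one : ∀ x ∈ Zl, IsConj z₀ x
  conj : ∀ (g : L) (x : L), x ∈ Zl → g * x * g⁻¹ ∈ Zl
  invol : ∀ x ∈ Zl, x * x = 1
  sylow : ∀ x ∈ Zl, ∃ S : Sylow 2 L, ∀ s ∈ S, s * x = x * s
  moves : ∀ x ∈ Zl, π x ≠ 1
  same : ∀ x ∈ Zl, ∀ y ∈ Zl, x * y = y * x → π x = π y → x = y
  fibre : ∀ x ∈ Zl, ∀ y ∈ Zl, ∀ w ∈ Zl, x * y = y * x → π x ≠ π y →
    x * y * w = w * (x * y) → π (x * y) = π w → x * y = w

theorem normalClosure_image_eq_top {L P : Type*} [Group L] [Group P] {π : L →* P}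
    (hπs : Function.Surjective π) {Zl : Set L} {z₀ : L} (hgen : closure Zl = ⊤)
    (hone : ∀ x ∈ Zl, IsConj z₀ x) : normalClosure ({π z₀} : Set P) = ⊤ := by
  have hle : (⊤ : Subgroup L) ≤ (normalClosure ({π z₀} : Set P)).comap π := by
    rw [← hgen, closure_le]
    intro x hx
    obtain ⟨g, rfl⟩ := isConj_iff.1 (hone x hx)
    show π (g * z₀ * g⁻¹) ∈ normalClosure ({π z₀} : Set P)
    rw [map_mul, map_mul, map_inv]
    exact (normalClosure_normal (s := ({π z₀} : Set P))).conj_mem _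
      (subset_normalClosure (Set.mem_singleton _)) _
  exact top_le_iff.1 fun p _ => by
    obtain ⟨l, rfl⟩ := hπs p
    exact hle (mem_top l)

/-- The kernel has no involution. -/
theorem ClassData.no_involution {L P : Type u} [Group L] [Finite L] [Group P] [Finite P]
    {π : L →* P} {Zl : Set L} {z₀ : L} (hD : ClassData π Zl z₀) {Hs : Subgroup P}
    (hse : Cfsg.IsStronglyEmbedded Hs)
    (hOP : CfsgLib.Bender.PairRank P → Cfsg.oddCore P = ⊥) :
    ∀ l : L, l * l = 1 → π l = 1 → l = 1 := by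
  classical
  haveI : Fact (Nat.Prime 2) := ⟨Nat.prime_two⟩
  obtain ⟨hπs, hz₀, hgen, hone, hZconj, hZinv, hcen, hmoves, hsame, hfib⟩ := hD
  have hzo : orderOf (π z₀) = 2 :=
    orderOf_eq_prime (by rw [sq, ← map_mul, hZinv z₀ hz₀, map_one]) (hmoves z₀ hz₀)
  intro l' hl'2 hl'k
  by_contra hl'1
  have hconjZ : ∀ x ∈ Zl, ∀ y : L, IsConj x y → y ∈ Zl := fun x hx y hxy => by
    obtain ⟨g, rfl⟩ := isConj_iff.1 hxy
    exact hZconj g x hx
  by_cases hp : CfsgLib.Bender.PairRank P
  swap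
  · -- a single involution in each Sylow subgroup
    have heq : ∀ u v : P, orderOf u = 2 → orderOf v = 2 → Commute u v → u = v := fun u v hu hv hc =>
      by_contra fun hne => hp ⟨u, v, hu, hv, hne, hc⟩
    have hπo : ∀ x ∈ Zl, orderOf (π x) = 2 := fun x hx =>
      orderOf_eq_prime (by rw [sq, ← map_mul, hZinv x hx, map_one]) (hmoves x hx)
    have hz₀o : orderOf z₀ = 2 :=
      orderOf_eq_prime (by rw [sq]; exact hZinv z₀ hz₀) fun e => hmoves z₀ hz₀ (by rw [e, map_one])
    have hiso : Cfsg.IsIsolatedInvolution z₀ := ⟨hz₀o, fun g hg =>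
      (hsame z₀ hz₀ _ (hZconj g z₀ hz₀) hg.eq
        (heq _ _ (hπo _ hz₀) (hπo _ (hZconj g z₀ hz₀)) (hg.map π))).symm⟩
    set O₁ := Cfsg.oddCore L
    haveI : O₁.Normal := Solvable.pPrimeCore_normal 2
    set κ := QuotientGroup.mk' O₁
    have hκ : ∀ x : L, κ x ∈ zpowers (κ z₀) := fun x => by
      have hle : (⊤ : Subgroup L) ≤ (zpowers (κ z₀)).comap κ := by
        rw [← hgen, closure_le]
        intro y hy
        obtain ⟨g, rfl⟩ := isConj_iff.1 (hone y hy)
        obtain ⟨o, ho, c, hc, rfl⟩ := IsoApps.exists_mul hiso g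
        refine mem_comap.2 ?_
        rw [show o * c * z₀ * (o * c)⁻¹ = o * (c * z₀) * c⁻¹ * o⁻¹ by group,
          mem_centralizer_singleton_iff.1 hc, map_mul, map_mul, map_mul, map_inv, map_inv,
          show κ o = 1 from (QuotientGroup.eq_one_iff o).2 ho]
        simp only [map_mul, one_mul, inv_one, mul_one, mul_inv_cancel_right]
        exact mem_zpowers _
      exact hle (mem_top x)
    have hodd : ∀ x ∈ O₁, Odd (orderOf x) := fun x hx => IsoApps.odd_of_mem_oddCore hx
    obtain ⟨j, hj⟩ := hκ l'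
    have hj' : (κ z₀) ^ j = κ l' := hj
    rcases Int.even_or_odd j with ⟨i, hi⟩ | ⟨i, hi⟩
    · have h1 : κ l' = 1 := by
        rw [← hj', hi, ← two_mul, zpow_mul, zpow_ofNat, sq, ← map_mul, hZinv z₀ hz₀, map_one, one_zpow]
      have h2 : orderOf l' = 2 := orderOf_eq_prime (by rw [sq]; exact hl'2) hl'1
      have := hodd l' ((QuotientGroup.eq_one_iff l').1 h1)
      rw [h2] at this
      exact absurd this (by decide)
    · have h1 : κ l' = κ z₀ := by
        rw [← hj', hi, zpow_add, zpow_mul, zpow_ofNat, sq, ← map_mul, hZinv z₀ hz₀, map_one, one_zpow,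
          one_mul, zpow_one]
      have h2 := (hodd _ (QuotientGroup.eq.1 h1)).of_dvd_nat (orderOf_map_dvd π (l'⁻¹ * z₀))
      rw [map_mul, map_inv, hl'k, inv_one, one_mul, hzo] at h2
      exact absurd h2 (by decide)
  -- two commuting involutions: the image is one of the three groups
  have hOP : Cfsg.oddCore P = ⊥ := hOP hp
  have h3 : Bender.Consumers.Three P := by
    have hP3 := Bender.Consumers.closure_three Bender.Consumers.structure_all hse hp
    let e : P ≃* P ⧸ Cfsg.oddCore P :=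
      (QuotientGroup.quotientBot.symm).trans (QuotientGroup.quotientMulEquivOfEq hOP.symm)
    have htop : Cfsg.pElementClosure 2 (⊤ : Subgroup (P ⧸ Cfsg.oddCore P)) = ⊤ := by
      refine top_le_iff.1 fun y _ => ?_
      obtain ⟨x, rfl⟩ := e.surjective y
      obtain ⟨x, rfl⟩ := hπs x
      have hle : (⊤ : Subgroup L) ≤
          ((Cfsg.pElementClosure 2 (⊤ : Subgroup (P ⧸ Cfsg.oddCore P))).comap e.toMonoidHom).comap π := by
        rw [← hgen, closure_le]
        intro w hw
        refine subset_closure ⟨mem_top _, 1, ?_⟩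
        show orderOf (e (π w)) = 2 ^ 1
        rw [pow_one, MulEquiv.orderOf_eq]
        exact orderOf_eq_prime (by rw [sq, ← map_mul, hZinv w hw, map_one]) (hmoves w hw)
      exact hle (mem_top x)
    exact Bender.Consumers.Three.congr hP3
      ((e.trans Subgroup.topEquiv.symm).trans (MulEquiv.subgroupCongr htop.symm))
  -- the kernel modulo its odd core
  set N := π.ker with hN
  set O' : Subgroup L := (Cfsg.oddCore N).map N.subtype with hO'
  have hO'N : O' ≤ N := map_subtype_le _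
  have hO'odd : Odd (Nat.card O') := by
    rw [hO', card_map_of_injective N.subtype_injective]; exact IsoApps.odd_oddCore
  have hsub : ∀ X : Subgroup L, X ≤ N → Odd (Nat.card X) →
      (∀ n ∈ N, ∀ x ∈ X, n * x * n⁻¹ ∈ X) → X ≤ O' := by
    intro X hXN hX hnor x hx
    refine ⟨⟨x, hXN hx⟩, Solvable.le_pPrimeCore 2 (N := X.subgroupOf N) ⟨fun y hy n => ?_⟩ ?_ hx, rfl⟩
    · exact hnor n n.2 y hy
    · rw [Nat.card_congr (subgroupOfEquivOfLe hXN).toEquiv]; exact Nat.coprime_two_right.2 hX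
  haveI hO'n : O'.Normal := ⟨fun x hx g => by
    refine hsub (O'.map (MulAut.conj g).toMonoidHom) ?_ ?_ ?_ ⟨x, hx, rfl⟩
    · rintro _ ⟨y, hy, rfl⟩
      exact (MonoidHom.normal_ker π).conj_mem y (hO'N hy) g
    · rw [card_map_of_injective (MulAut.conj g).injective]; exact hO'odd
    · rintro n hn _ ⟨y, ⟨y, hy, rfl⟩, rfl⟩
      haveI : (Cfsg.oddCore N).Normal := Solvable.pPrimeCore_normal 2
      have hn' : g⁻¹ * n * g ∈ N := by
        have := (MonoidHom.normal_ker π).conj_mem n hn g⁻¹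
        rwa [inv_inv] at this
      refine ⟨(g⁻¹ * n * g) * (y : L) * (g⁻¹ * n * g)⁻¹,
        ⟨⟨g⁻¹ * n * g, hn'⟩ * y * ⟨g⁻¹ * n * g, hn'⟩⁻¹,
          (inferInstance : (Cfsg.oddCore N).Normal).conj_mem y hy _, rfl⟩, ?_⟩
      show g * (g⁻¹ * n * g * (y : L) * (g⁻¹ * n * g)⁻¹) * g⁻¹ = n * (g * (y : L) * g⁻¹) * n⁻¹
      group⟩
  -- the class centralizes the kernel modulo `O'`
  have hcomm : ∀ x ∈ Zl, ∀ n ∈ N, x * n * x⁻¹ * n⁻¹ ∈ O' := by
    intro x hx n hn
    set Y := N ⊔ zpowers x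
    have hxY : x ∈ Y := mem_sup_right (mem_zpowers x)
    have hπY : ∀ y ∈ Y, π y ∈ zpowers (π x) := fun y hy => by
      have hle : Y ≤ (zpowers (π x)).comap π := sup_le (fun w hw => by
        refine mem_comap.2 ?_
        rw [show π w = 1 from hw]; exact one_mem _) (zpowers_le.2 (mem_zpowers _))
      exact hle hy
    have hiso : Cfsg.IsIsolatedInvolution (⟨x, hxY⟩ : Y) := by
      refine ⟨?_, fun g hg => Subtype.ext ?_⟩
      · rw [Subgroup.orderOf_mk]
        exact orderOf_eq_prime (by rw [sq]; exact hZinv x hx) fun e => hmoves x hx (by rw [e, map_one])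
      refine (hsame x hx _ (hZconj (g : L) x hx) (congrArg Subtype.val hg.eq) ?_).symm
      obtain ⟨j, hj⟩ := hπY g g.2
      have hj' : π x ^ j = π (g : L) := hj
      rw [map_mul, map_mul, map_inv, ← hj', ((Commute.refl (π x)).zpow_left j).eq, mul_inv_cancel_right]
    haveI : (Cfsg.oddCore Y).Normal := Solvable.pPrimeCore_normal 2
    have hk := IsoApps.comm_mem_oddCore hiso (⟨n, mem_sup_left hn⟩ : Y)
    refine hsub ((Cfsg.oddCore Y).map Y.subtype ⊓ N) inf_le_right ?_ ?_ ⟨⟨_, hk, rfl⟩, ?_⟩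
    · refine Odd.of_dvd_nat ?_ (card_dvd_of_le inf_le_left)
      rw [card_map_of_injective Y.subtype_injective]; exact IsoApps.odd_oddCore
    · rintro m hm _ ⟨⟨y, hy, rfl⟩, hyN⟩
      exact ⟨⟨⟨m, mem_sup_left hm⟩ * y * ⟨m, mem_sup_left hm⟩⁻¹,
        (inferInstance : (Cfsg.oddCore Y).Normal).conj_mem y hy _, rfl⟩,
        N.mul_mem (N.mul_mem hm hyN) (N.inv_mem hm)⟩
    · exact N.mul_mem ((MonoidHom.normal_ker π).conj_mem n hn x) (N.inv_mem hn)
  set q := QuotientGroup.mk' O' with hq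
  have hqs : Function.Surjective q := QuotientGroup.mk'_surjective _
  have hle : O' ≤ π.ker := hO'N
  let σ : L ⧸ O' →* P := QuotientGroup.lift O' π hle
  have hσ : ∀ x, σ (q x) = π x := fun x => QuotientGroup.lift_mk' O' hle x
  -- products of commuting members of the class
  have hprod : ∀ x ∈ Zl, ∀ y ∈ Zl, x * y = y * x → π x ≠ π y → x * y ∈ Zl := by
    intro x hx y hy hxy hne
    have hinv : (x * y) * (x * y) = 1 := by
      nth_rewrite 2 [hxy]
      rw [mul_assoc, ← mul_assoc y y x, hZinv y hy, one_mul, hZinv x hx]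
    have hπne : π (x * y) ≠ 1 := fun e => hne (by
      rw [map_mul, mul_eq_one_iff_eq_inv, ← map_inv] at e
      rw [e, inv_eq_of_mul_eq_one_right (hZinv y hy)])
    have hπxy : orderOf (π (x * y)) = 2 :=
      orderOf_eq_prime (by rw [sq, ← map_mul, hinv, map_one]) hπne
    obtain ⟨g, hg⟩ := isConj_iff.1 (StrongEmbed.isConj_of_invols hse hzo hπxy)
    obtain ⟨g, rfl⟩ := hπs g
    set w₀ := g * z₀ * g⁻¹
    have hw₀ : w₀ ∈ Zl := hZconj g z₀ hz₀
    have hπw₀ : π w₀ = π (x * y) := by rw [map_mul, map_mul, map_inv]; exact hg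
    have hX : IsPGroup 2 (closure ({x, y} : Set L)) := by
      have hle' : closure ({x, y} : Set L) ≤ zpowers x ⊔ zpowers y := (closure_le _).2 (by
        rintro w (rfl | rfl)
        · exact mem_sup_left (mem_zpowers _)
        · exact mem_sup_right (mem_zpowers _))
      refine IsPGroup.to_le ?_ hle'
      refine (isPGroup_zpowers_two (hZinv x hx)).to_sup_of_normal_right'
        (isPGroup_zpowers_two (hZinv y hy)) (zpowers_le.2 (mem_normalizer_iff.2 fun w => ?_))
      have hc : Commute x y := hxy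
      constructor
      · rintro ⟨m, rfl⟩
        exact ⟨m, show y ^ m = x * y ^ m * x⁻¹ by rw [(hc.zpow_right m).eq, mul_inv_cancel_right]⟩
      · rintro ⟨m, hm⟩
        have hm' : y ^ m = x * w * x⁻¹ := hm
        exact ⟨m, show y ^ m = w from mul_left_cancel ((hc.zpow_right m).eq.trans (by rw [hm']; group))⟩
    obtain ⟨w, hw, hπw, hwc⟩ := exists_fixed_lift π (hcen w₀ hw₀) hX (fun v hv => by
      have hle' : closure ({x, y} : Set L) ≤ (centralizer ({π (x * y)} : Set P)).comap π := (closure_le _).2 (by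
        rintro v (rfl | rfl) <;> refine mem_centralizer_singleton_iff.2 ?_ <;>
          rw [← map_mul, ← map_mul]
        · rw [mul_assoc v y v, ← hxy]
        · rw [← mul_assoc, ← hxy])
      rw [hπw₀]
      exact mem_centralizer_singleton_iff.1 (hle' hv))
    have hwZ : w ∈ Zl := hconjZ w₀ hw₀ w hw
    have hcw : x * y * w = w * (x * y) :=
      hwc (x * y) (mul_mem (subset_closure (by simp)) (subset_closure (by simp)))
    have e : x * y = w := hfib x hx y hy w hwZ hxy hne hcw (by rw [hπw, hπw₀])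
    rw [e]; exact hwZ
  have hclosed : ∀ x ∈ Zl, ∀ y ∈ Zl, q x * q y = q y * q x →
      ∃ x' ∈ Zl, q x' = q x ∧ x' * y = y * x' := by
    intro x hx y hy hxy
    obtain ⟨x', hx', hqx', hc⟩ := exists_commuting_lift q (hcen x hx) (hZinv y hy) hxy.symm
    exact ⟨x', hconjZ x hx x' hx', hqx', hc⟩
  have hperfect : commutator (L ⧸ O') = ⊤ := by
    obtain ⟨u, v, hu, hv, hne, hc⟩ := hp
    obtain ⟨g₁, hg₁⟩ := isConj_iff.1 (StrongEmbed.isConj_of_invols hse hzo hu)
    obtain ⟨g₂, hg₂⟩ := isConj_iff.1 (StrongEmbed.isConj_of_invols hse hzo hv)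
    obtain ⟨g₁, rfl⟩ := hπs g₁
    obtain ⟨g₂, rfl⟩ := hπs g₂
    rw [← map_inv, ← map_mul, ← map_mul] at hg₁ hg₂
    set x := g₁ * z₀ * g₁⁻¹
    set y₀ := g₂ * z₀ * g₂⁻¹
    obtain ⟨y, hy', hπy, hyx⟩ := exists_commuting_lift π (hcen y₀ (hZconj g₂ z₀ hz₀))
      (hZinv x (hZconj g₁ z₀ hz₀)) (by rw [hg₁, hg₂]; exact hc.eq)
    have hx : x ∈ Zl := hZconj g₁ z₀ hz₀
    have hy : y ∈ Zl := hconjZ y₀ (hZconj g₂ z₀ hz₀) y hy'
    have hxy := hprod x hx y hy hyx.symm (by rw [hg₁, hπy, hg₂]; exact hne)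
    set f := (Abelianization.of (G := L ⧸ O')).comp q
    have hf : ∀ w ∈ Zl, f w = f z₀ := fun w hw => by
      obtain ⟨g, rfl⟩ := isConj_iff.1 (hone w hw)
      rw [map_mul, map_mul, map_inv, mul_comm (f g), mul_inv_cancel_right]
    have h1 : f z₀ = 1 := by
      have e := hf _ hxy
      rw [map_mul, hf x hx, hf y hy] at e
      exact mul_eq_left.1 e
    refine top_le_iff.1 fun w _ => ?_
    obtain ⟨w, rfl⟩ := hqs w
    have hle' : (⊤ : Subgroup L) ≤ f.ker := by
      rw [← hgen, closure_le]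
      intro v hv'
      exact (hf v hv').trans h1
    rw [← Abelianization.ker_of]
    exact hle' (mem_top w)
  have hd : LiftData σ (q '' Zl) := by
    refine ⟨fun p => ?_, ?_, hperfect, ?_, ?_, ?_, ?_, ?_, ?_, ?_⟩
    · obtain ⟨x, rfl⟩ := hπs p
      exact ⟨q x, hσ x⟩
    · intro k hk
      obtain ⟨n, rfl⟩ := hqs k
      have hn : n ∈ N := by rw [hN, MonoidHom.mem_ker, ← hσ]; exact hk
      refine mem_center_iff.2 fun g => ?_
      obtain ⟨g, rfl⟩ := hqs g
      have hle' : (⊤ : Subgroup L) ≤ (centralizer ({q n} : Set (L ⧸ O'))).comap q := by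
        rw [← hgen, closure_le]
        intro x hx
        refine mem_centralizer_singleton_iff.2 ?_
        have h1 : q (x * n * x⁻¹ * n⁻¹) = 1 := (QuotientGroup.eq_one_iff _).2 (hcomm x hx n hn)
        rw [map_mul, map_mul, map_mul, map_inv, map_inv, mul_inv_eq_one, mul_inv_eq_iff_eq_mul] at h1
        exact h1
      exact mem_centralizer_singleton_iff.1 (hle' (mem_top g))
    · rintro _ ⟨x, hx, rfl⟩; rw [← map_mul, hZinv x hx, map_one]
    · rintro _ ⟨x, hx, rfl⟩; rw [hσ]; exact hmoves x hx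
    · rintro g _ ⟨x, hx, rfl⟩
      obtain ⟨g, rfl⟩ := hqs g
      exact ⟨g * x * g⁻¹, hZconj g x hx, by rw [map_mul, map_mul, map_inv]⟩
    · intro p hp2 hp1
      obtain ⟨g, hg⟩ := isConj_iff.1 (StrongEmbed.isConj_of_invols hse hzo
        (orderOf_eq_prime (by rw [sq]; exact hp2) hp1))
      obtain ⟨g, rfl⟩ := hπs g
      exact ⟨q (g * z₀ * g⁻¹), ⟨_, hZconj g z₀ hz₀, rfl⟩, by
        rw [hσ, map_mul, map_mul, map_inv]; exact hg⟩
    · rintro _ ⟨x, hx, rfl⟩ _ ⟨y, hy, rfl⟩ hxy hne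
      obtain ⟨x', hx', hqx, hc⟩ := hclosed x hx y hy hxy
      refine ⟨x' * y, hprod x' hx' y hy hc fun e => hne ?_, by rw [map_mul, hqx]⟩
      rw [← hqx, hσ, hσ, e]
    · rintro _ ⟨x, hx, rfl⟩ _ ⟨y, hy, rfl⟩ hxy he
      obtain ⟨x', hx', hqx, hc⟩ := hclosed x hx y hy hxy
      rw [← hqx, hsame x' hx' y hy hc (by rw [← hσ, ← hσ, hqx]; exact he)]
    · rintro _ ⟨x, hx, rfl⟩
      obtain ⟨S, hS⟩ := hcen x hx
      refine ⟨S.mapSurjective hqs, ?_⟩
      rintro _ ⟨s, hs, rfl⟩
      rw [← map_mul, ← map_mul, hS s hs]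
  have hkodd := odd_ker_of_three hd h3
  have hq1 : q l' = 1 := orderOf_eq_one_iff.1 (Nat.eq_one_of_dvd_coprimes
    (Nat.coprime_two_left.2 (hkodd.of_dvd_nat (Subgroup.orderOf_dvd_natCard σ.ker
      (show q l' ∈ σ.ker by rw [MonoidHom.mem_ker, hσ]; exact hl'k))))
    (orderOf_dvd_of_pow_eq_one (by rw [sq, ← map_mul, hl'2, map_one])) dvd_rfl)
  have h2 : orderOf l' = 2 := orderOf_eq_prime (by rw [sq]; exact hl'2) hl'1
  have := hO'odd.of_dvd_nat (Subgroup.orderOf_dvd_natCard O' ((QuotientGroup.eq_one_iff l').1 hq1))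
  rw [h2] at this
  exact absurd this (by decide)

namespace Setting

variable {G Ω : Type u} [Group G] [Finite G] [MulAction G Ω] [Finite Ω] [IsPretransitive G Ω]
  [FaithfulSMul G Ω] {a : Ω} {z : G} (h : Setting G Ω a z)
include h

/-- The kernel of the local group on the fixed points of a bad involution has no involution. -/
theorem no_kernel_involution (hloc : Loc G Ω z) {t : G} (ht : orderOf t = 2) (htz : t * z = z * t)
    {b₀ : Ω} (hb₀ : b₀ ≠ a) (htb₀ : t • b₀ = b₀) :
    ∀ l ∈ localGroup z t, l * l = 1 → (∀ d : Ω, t • d = d → l • d = d) → l = 1 := by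
  classical
  haveI : Fact (Nat.Prime 2) := ⟨Nat.prime_two⟩
  have ht2 : t * t = 1 := by rw [← sq, ← ht, pow_orderOf_eq_one]
  have hta : t • a = a := h.fix_of_commute h.fix htz
  set L := localGroup z t with hLdef
  set O := orbit L a with hOdef
  have hO : ∀ d : Ω, d ∈ O ↔ t • d = d := h.mem_orbit_iff ht2 htz
  set P := (MulAction.toPermHom L O).range with hPdef
  set π : L →* P := (MulAction.toPermHom L O).rangeRestrict with hπdef
  obtain ⟨z₀, hz₀, hSet⟩ : ∃ z₀ : L, IsConj z (z₀ : G) ∧ Setting L O ⟨a, mem_orbit_self a⟩ z₀ :=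
    h.exists_local ht2 htz ⟨b₀, hb₀, htb₀⟩
  have hπs : Function.Surjective π := MonoidHom.rangeRestrict_surjective _
  have hact : ∀ (l : L) (c : O), π l • c = l • c := fun (l : L) (c : O) => by rfl
  haveI : IsPretransitive P O := ⟨fun c d => by
    obtain ⟨l, hl⟩ := exists_smul_eq L c d
    exact ⟨π l, hl⟩⟩
  haveI : FaithfulSMul P O := ⟨fun {g g'} he => Subtype.ext (Equiv.ext he)⟩
  have hP : Setting P O ⟨a, mem_orbit_self a⟩ (π z₀) := hSet.image
  have hker : ∀ l : L, π l = 1 ↔ ∀ d : Ω, t • d = d → (l : G) • d = d := by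
    intro l
    constructor
    · intro h1 d hd
      have := hact l ⟨d, (hO d).2 hd⟩
      rw [h1, one_smul] at this
      exact (congrArg Subtype.val this).symm
    · intro hall
      refine eq_of_smul_eq_smul fun c : O => ?_
      rw [hact, one_smul]
      exact Subtype.ext (hall _ ((hO _).1 c.2))
  -- the class
  let Zl : Set L := {l | IsConj z (l : G)}
  have hgen : closure Zl = ⊤ := by
    have e : closure (((↑) : L → G) ⁻¹' {x : G | IsConj z x ∧ x * t = t * x}) = ⊤ :=
      closure_closure_coe_preimage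
    exact top_le_iff.1 (e.ge.trans ((closure_le _).2 fun x hx => subset_closure hx.1))
  have hLt : ∀ l : L, (l : G) * t = t * l := fun l =>
    mem_centralizer_singleton_iff.1 (localGroup_le z t l.2)
  have hone : ∀ x ∈ Zl, IsConj z₀ x := fun x hx => by
    obtain ⟨g, hgL, -, hg⟩ := h.exists_conj_commuting hloc ht2 hb₀.symm hta htb₀ hz₀ hx
      (hLt z₀) (hLt x)
    exact isConj_iff.2 ⟨⟨g, hgL⟩, Subtype.ext hg⟩
  have hZconj : ∀ (g : L) (x : L), x ∈ Zl → g * x * g⁻¹ ∈ Zl := fun g x hx =>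
    hx.trans (isConj_iff.2 ⟨(g : G), rfl⟩)
  have hZinv : ∀ x ∈ Zl, x * x = 1 := fun x hx => Subtype.ext (h.conj_fix hx).1
  have hcen : ∀ x ∈ Zl, ∃ S : Sylow 2 L, ∀ s ∈ S, s * x = x * s := by
    intro x hx
    obtain ⟨g, rfl⟩ := isConj_iff.1 (hone x hx)
    obtain ⟨S, -, hS⟩ := hSet.central
    refine ⟨g • S, ?_⟩
    rintro _ ⟨s, hs, rfl⟩
    show g * s * g⁻¹ * (g * z₀ * g⁻¹) = g * z₀ * g⁻¹ * (g * s * g⁻¹)
    calc g * s * g⁻¹ * (g * z₀ * g⁻¹) = g * (s * z₀) * g⁻¹ := by group
      _ = g * (z₀ * s) * g⁻¹ := by rw [hS s hs]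
      _ = _ := by group
  have hmoves : ∀ x ∈ Zl, π x ≠ 1 := fun x hx h1 =>
    hb₀ (h.point_unique hx ((hker x).1 h1 b₀ htb₀) ((hker x).1 h1 a hta))
  have hsame : ∀ x ∈ Zl, ∀ y ∈ Zl, x * y = y * x → π x = π y → x = y := by
    intro x hx y hy hxy he
    refine Subtype.ext (h.eq_of_agree hx hy (congrArg Subtype.val hxy) hb₀ ?_ ?_)
    · have := congrArg (fun p : P => Subtype.val (p • (⟨b₀, (hO _).2 htb₀⟩ : O))) he
      exact this
    · have := congrArg (fun p : P => Subtype.val (p • (⟨a, mem_orbit_self a⟩ : O))) he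
      exact this
  -- the image
  have hC : Concl P O (π z₀) := by
    intro x _ hsq ⟨c, hc⟩ p q hp hq
    obtain ⟨l, rfl⟩ := hπs x
    refine Subtype.ext (hloc t ht ⟨a, b₀, hb₀.symm, hta, htb₀⟩ (l : G) l.2 (fun d hd => ?_)
      ⟨c, (hO _).1 c.2, fun e => hc (Subtype.ext e)⟩ p q ((hO _).1 p.2) ((hO _).1 q.2)
      (congrArg Subtype.val hp) (congrArg Subtype.val hq))
    have := hsq ⟨d, (hO d).2 hd⟩
    rw [← map_mul, hact] at this
    exact congrArg Subtype.val this
  have hPtop : normalClosure ({π z₀} : Set P) = ⊤ := normalClosure_image_eq_top hπs hgen hone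
  set Hs := stabilizer P (⟨a, mem_orbit_self a⟩ : O)
  have hse : Cfsg.IsStronglyEmbedded Hs := by
    refine Consumers.stronglyEmbedded_of_top (M := Hs) hPtop ?_
    have e : Hs.subgroupOf (normalClosure ({π z₀} : Set P)) =
        stabilizer (normalClosure ({π z₀} : Set P)) (⟨a, mem_orbit_self a⟩ : O) := by
      ext x; rfl
    rw [e]
    exact hP.stronglyEmbedded hC
  have hOP : CfsgLib.Bender.PairRank P → Cfsg.oddCore P = ⊥ := fun hp => by
    refine (eq_bot_iff).2 fun x hx => mem_bot.2 ?_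
    haveI : (Cfsg.oddCore P).Normal := Solvable.pPrimeCore_normal 2
    refine eq_of_smul_eq_smul fun c : O => ?_
    rw [one_smul]
    obtain ⟨g, rfl⟩ := exists_smul_eq P (⟨a, mem_orbit_self a⟩ : O) c
    have hm := Bender.Core.normal_odd_le hse hp (inferInstance : (Cfsg.oddCore P).Normal)
      IsoApps.odd_oddCore ((inferInstance : (Cfsg.oddCore P).Normal).conj_mem x hx g⁻¹)
    rw [inv_inv, mem_stabilizer_iff, mul_smul, mul_smul, inv_smul_eq_iff] at hm
    exact hm
  have hfib : ∀ x ∈ Zl, ∀ y ∈ Zl, ∀ w ∈ Zl, x * y = y * x → π x ≠ π y →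
      x * y * w = w * (x * y) → π (x * y) = π w → x * y = w := by
    intro x hx y hy w hwZ hxy hne hcw hπw
    have hw2 := hZinv w hwZ
    have hinv : (x * y) * (x * y) = 1 := by
      nth_rewrite 2 [hxy]
      rw [mul_assoc, ← mul_assoc y y x, hZinv y hy, one_mul, hZinv x hx]
    obtain ⟨n, hn⟩ : ∃ n, n = x * y * w := ⟨_, rfl⟩
    have hπn : π n = 1 := by rw [hn, map_mul, hπw, ← map_mul, hw2, map_one]
    by_contra hne'
    have hn1 : n ≠ 1 := fun e => hne' (by
      rw [eq_inv_of_mul_eq_one_left (hn.symm.trans e), inv_eq_of_mul_eq_one_right hw2])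
    have hn2 : n * n = 1 := by
      rw [hn]
      calc x * y * w * (x * y * w) = x * y * (w * (x * y)) * w := by group
        _ = x * y * (x * y * w) * w := by rw [hcw]
        _ = (x * y * (x * y)) * (w * w) := by group
        _ = 1 := by rw [hinv, hw2, one_mul]
    have hnw : w * n = n * w := by rw [hn, ← mul_assoc w (x * y) w, ← hcw]
    have hbad := h.mul_not_oneFix hloc (v := (n : G)) (congrArg Subtype.val hn2)
      (fun e => hn1 (Subtype.ext e)) hb₀ ((hker n).1 hπn b₀ htb₀) ((hker n).1 hπn a hta) hwZ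
      (congrArg Subtype.val hnw)
    have hnwxy : n * w = x * y := by rw [hn, mul_assoc, hw2, mul_one]
    have hnwxy' : (n : G) * (w : G) = (x : G) * y := congrArg Subtype.val hnwxy
    rw [hnwxy'] at hbad
    exact hbad (h.pair _ _ hx hy (congrArg Subtype.val hxy) fun e => hne (by rw [Subtype.ext e]))
  intro l hl hl2 hlfix
  exact congrArg Subtype.val (ClassData.no_involution (π := π) (Zl := Zl) (z₀ := z₀)
    ⟨hπs, hz₀, hgen, hone, hZconj, hZinv, hcen, hmoves, hsame, hfib⟩ hse hOP ⟨l, hl⟩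
    (Subtype.ext hl2) ((hker _).2 hlfix))

end Setting

/-- The criterion for faithful actions from the criterion with local data. -/
theorem core_of_localData (hcrit : Consumers.LocalData.{u}) : Core.{u} := by
  intro G Ω _ _ _ _ _ _ a z h hloc
  haveI : Fact (Nat.Prime 2) := ⟨Nat.prime_two⟩
  have hL := h.loc_of hloc
  obtain ⟨S, hzS, hS⟩ := h.central
  set H := stabilizer G a with hH
  have hHne : H ≠ ⊤ := fun e => by
    obtain ⟨b, hb⟩ := h.moved
    obtain ⟨g, rfl⟩ := exists_smul_eq G a b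
    exact hb (mem_stabilizer_iff.1 (show g ∈ H by rw [e]; exact mem_top g))
  have hzH : z ∈ H := (h.fix a).2 rfl
  have hcen : z ∈ (Subgroup.center ↥(S : Subgroup G)).map (S : Subgroup G).subtype :=
    ⟨⟨z, hzS⟩, mem_center_iff.2 fun s => Subtype.ext (hS s s.2), rfl⟩
  have hi : ∀ g : G, z ∈ H.map (MulAut.conj g).toMonoidHom ↔ g ∈ H := by
    intro g
    constructor
    · rintro ⟨y, hy, hye⟩
      have hye' : g * y * g⁻¹ = z := hye
      refine mem_stabilizer_iff.2 ((h.fix _).1 ?_)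
      rw [← hye', mul_smul, mul_smul, inv_smul_smul, mem_stabilizer_iff.1 hy]
    · intro hg
      exact ⟨g⁻¹ * z * g, mul_mem (mul_mem (inv_mem hg) hzH) hg, by simp [mul_assoc]⟩
  have hii : ∀ t : G, orderOf t = 2 → t * z = z * t → ¬ centralizer ({t} : Set G) ≤ H →
      Cfsg.IsStronglyEmbedded
        (H.subgroupOf (Subgroup.closure {x : G | IsConj z x ∧ x * t = t * x})) := by
    intro t ht htz hnot
    have ht2 : t * t = 1 := by rw [← sq, ← ht, pow_orderOf_eq_one]
    have hta : t • a = a := h.fix_of_commute h.fix htz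
    obtain ⟨c, hc, hcH⟩ := SetLike.not_le_iff_exists.1 hnot
    have hb₀ : c • a ≠ a := hcH
    have htb₀ : t • (c • a) = c • a := by
      rw [← mul_smul, ← mem_centralizer_singleton_iff.1 hc, mul_smul, hta]
    set L := localGroup z t with hLdef
    show Cfsg.IsStronglyEmbedded (H.subgroupOf L)
    have hzL : z ∈ L := h.mem_localGroup_self htz
    refine ⟨fun e => ?_, ?_, fun g hg => Nat.not_even_iff_odd.1 fun he => ?_⟩
    · obtain ⟨l, hl⟩ := (h.mem_orbit_iff ht2 htz (c • a)).2 htb₀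
      exact hb₀ (hl ▸ mem_stabilizer_iff.1 (subgroupOf_eq_top.1 e l.2))
    · refine even_iff_two_dvd.2 (h.ord ▸ ?_)
      have := orderOf_dvd_natCard (⟨⟨z, hzL⟩, hzH⟩ : H.subgroupOf L)
      rwa [← Subgroup.orderOf_coe, ← Subgroup.orderOf_coe] at this
    · obtain ⟨w, hw⟩ := exists_prime_orderOf_dvd_card' 2 (even_iff_two_dvd.1 he)
      obtain ⟨hwH, y, hy, hwy⟩ := w.2
      have hw1 : orderOf (((w : L) : G)) = 2 := by
        rw [Subgroup.orderOf_coe, Subgroup.orderOf_coe]; exact hw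
      have hw2 : ((w : L) : G) * (w : L) = 1 := by rw [← sq, ← hw1, pow_orderOf_eq_one]
      have hmv : ∃ d : Ω, t • d = d ∧ ((w : L) : G) • d ≠ d := by
        by_contra hcon
        push Not at hcon
        have := h.no_kernel_involution hL ht htz hb₀ htb₀ _ (w : L).2 hw2 hcon
        rw [this, orderOf_one] at hw1
        exact absurd hw1 (by decide)
      have hwy' : (g : G) * (y : G) * (g : G)⁻¹ = ((w : L) : G) := congrArg Subtype.val hwy
      have htga : t • ((g : G) • a) = (g : G) • a := by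
        rw [← mul_smul, ← mem_centralizer_singleton_iff.1 (Setting.localGroup_le z t g.2), mul_smul, hta]
      refine hg (mem_stabilizer_iff.2 (hloc t ht htz ⟨_, hb₀, htb₀⟩ _ (w : L).2
        (fun d _ => by rw [hw2, one_smul]) hmv a ((g : G) • a) hta htga hwH ?_).symm)
      rw [← hwy', mul_smul, mul_smul, inv_smul_smul]
      exact congrArg (fun p : Ω => (g : G) • p) (mem_stabilizer_iff.1 hy)
  have hse := hcrit G S z h.ord hcen H hHne hi hii
  haveI := h.pretransitive_normalClosure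
  intro x hxK hsq hmv b c hb hc
  set K := normalClosure ({z} : Set G)
  have hx2 : x * x = 1 := eq_of_smul_eq_smul fun d : Ω => (hsq d).trans (one_smul G d).symm
  have hx1 : x ≠ 1 := fun e => by
    obtain ⟨d, hd⟩ := hmv
    exact hd (by rw [e, one_smul])
  obtain ⟨k, hk⟩ := exists_smul_eq K a b
  obtain ⟨l, hl⟩ := exists_smul_eq K a c
  set w : K := ⟨x, hxK⟩
  have hwb : k⁻¹ * w * k ∈ H.subgroupOf K := by
    show ((k⁻¹ * w * k : K) : G) • a = a
    have : (k⁻¹ * w * k : K) • a = a := by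
      rw [mul_smul, mul_smul, hk, show w • b = b from hb, ← hk, inv_smul_smul]
    exact this
  have hwc : l⁻¹ * w * l ∈ H.subgroupOf K := by
    show ((l⁻¹ * w * l : K) : G) • a = a
    have : (l⁻¹ * w * l : K) • a = a := by
      rw [mul_smul, mul_smul, hl, show w • c = c from hc, ← hl, inv_smul_smul]
    exact this
  have hwo : orderOf (k⁻¹ * w * k) = 2 := by
    rw [show k⁻¹ * w * k = k⁻¹ * w * k⁻¹⁻¹ by rw [inv_inv], Invol.orderOf_conj_eq]
    exact orderOf_eq_prime (Subtype.ext (by simpa [sq] using hx2)) fun e =>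
      hx1 (congrArg Subtype.val e)
  have hkl := StrongEmbed.mem_of_conj_mem hse (g := k⁻¹ * l) hwb hwo (by
    rw [show (k⁻¹ * l)⁻¹ * (k⁻¹ * w * k) * (k⁻¹ * l) = l⁻¹ * w * l by group]; exact hwc)
  have hkl' : (k⁻¹ * l : K) • a = a := hkl
  rw [← hk, ← hl]
  conv_rhs => rw [show l = k * (k⁻¹ * l) by group, mul_smul, hkl']

/-- Aschbacher's criterion from the criterion with local data. -/
theorem aschbacher_of_localData (hcrit : Consumers.LocalData.{u}) {G : Type u} [Group G] [Finite G]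
    [IsSimpleGroup G] (M : Subgroup G) (hM : M ≠ ⊤) (z : G) (hz : orderOf z = 2) (hzM : z ∈ M)
    (h1 : ∃ S : Sylow 2 G, z ∈ S ∧ ∀ s ∈ S, Commute s z)
    (h2 : ∀ g : G, g * z * g⁻¹ ∈ M → g ∈ M)
    (h3 : ∀ g : G, Commute z (g * z * g⁻¹) → g * z * g⁻¹ ≠ z →
      centralizer ({z * (g * z * g⁻¹)} : Set G) ≤ M) :
    ∃ H : Subgroup G, Cfsg.IsStronglyEmbedded H :=
  aschbacher_row (core_of_localData hcrit) M hM z hz hzM h1 h2 h3

/-- Strongly closed subgroups with proper centralizer closure, from the criterion with local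
data. -/
theorem stronglyClosed_of_localData (hcrit : Consumers.LocalData.{u}) {G : Type u} [Group G]
    [Finite G] [IsSimpleGroup G] (S : Sylow 2 G) (T : Subgroup G) (hT1 : T ≠ ⊥)
    (hT : Cfsg.IsStronglyClosed T (S : Subgroup G))
    (hprop : (⨆ t : {t : G // t ∈ T ∧ orderOf t = 2}, centralizer ({(t : G)} : Set G)) ≠ ⊤) :
    ∃ H : Subgroup G, Cfsg.IsStronglyEmbedded H :=
  stronglyClosed_row (core_of_localData hcrit) S T hT1 hT hprop

/-- Tightly embedded subgroups meeting their normalizers oddly, from the criterion with local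
data. -/
theorem tight_of_localData (hcrit : Consumers.LocalData.{u}) {G : Type u} [Group G] [Finite G]
    (hF : IsSimpleGroup ↥(Cfsg.generalizedFittingSubgroup G))
    (hF' : ¬ IsMulCommutative ↥(Cfsg.generalizedFittingSubgroup G))
    (Q : Subgroup G) (hQ : Cfsg.IsTightlyEmbedded Q)
    (hodd : ∀ g : G, g ∉ normalizer (Q : Set G) →
      Odd (Nat.card ↥(Q.map (MulAut.conj g).toMonoidHom ⊓ normalizer (Q : Set G)))) :
    Q.Normal ∨ ∃ M : Subgroup ↥(Cfsg.generalizedFittingSubgroup G), Cfsg.IsStronglyEmbedded M :=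
  tight_row (core_of_localData hcrit) hF hF' Q hQ hodd

end CfsgLib.Criterion.Act
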