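import Cfsg.Agent.Criterion.Action.ClosedOvergroup

/-!
Aschbacher's theorem on strongly closed 2-subgroups with proper local overgroups, from the
criterion with local data.
-/

set_option autoImplicit false

namespace CfsgLib.Criterion.ClosedOvergroup

universe u

/-- The statement of the row, from the criterion with local data. -/
theorem overgroup_of_localData (hcrit : Consumers.LocalData.{u}) {G : Type u} [Group G] [Finite G]
    (T : Sylow 2 G) (S : Subgroup G) (hS : S ≠ ⊥)
    (hsc : Cfsg.IsStronglyClosed S (T : Subgroup G)) (H : Subgroup G) (hH : H ≠ ⊤)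
    (hC : ∀ s ∈ S, s ≠ 1 → Subgroup.centralizer ({s} : Set G) ≤ H)
    (hN : Subgroup.normalizer ((Cfsg.omegaOne 2 S : Subgroup G) : Set G) ≤ H) :
    Cfsg.IsStronglyEmbedded ((H ⊓ Subgroup.normalClosure (S : Set G)).subgroupOf (Subgroup.normalClosure (S : Set G))) ∧
      (S = (T : Subgroup G) ⊓ Subgroup.normalClosure (S : Set G) ∨ S = Cfsg.omegaOne 2 ((T : Subgroup G) ⊓ Subgroup.normalClosure (S : Set G))) ∧
      (Cfsg.PRankLE 2 1 ↥S → S = (T : Subgroup G) ⊓ Subgroup.normalClosure (S : Set G)) :=
  overgroup_row hsc hH hC hN (Act.core_of_localData hcrit) hS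

end CfsgLib.Criterion.ClosedOvergroup
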