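import Cfsg.Agent.Criterion.Action.QuatBasic
import Cfsg.Agent.CommClosed.SylowNormal
import Cfsg.Agent.CommClosed.Core

/-!
Strongly closed 2-subgroups with one involution: axes, and the normalizer of an axis.
-/

set_option autoImplicit false
set_option linter.unusedSectionVars false
set_option linter.style.haveILetI false

namespace CfsgLib.Criterion.QuatClosed

open Subgroup

universe u

variable {G : Type u} [Group G] [Finite G]

/-- An axis: an element squaring to the involution whose cyclic group the Sylow subgroup normalizes. -/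
structure Axis (T : Sylow 2 G) (S : Subgroup G) (z c : G) : Prop where
  mem : c ∈ S
  sq : c * c = z
  fix : ∀ t ∈ T, Mv t c c
  nc : ∃ b ∈ S, b * c ≠ c * b

theorem exists_into (T : Sylow 2 G) {Q : Subgroup G} (hQ : IsPGroup 2 Q) :
    ∃ g : G, ∀ x ∈ Q, g * x * g⁻¹ ∈ T := by
  haveI : Fact (Nat.Prime 2) := ⟨Nat.prime_two⟩
  obtain ⟨R, hR⟩ := hQ.exists_le_sylow
  obtain ⟨g, hg⟩ := MulAction.exists_smul_eq G R T
  exact ⟨g, fun x hx => by rw [← hg]; exact ⟨x, hR hx, rfl⟩⟩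

theorem eq_one_of_two_odd {x : G} (T : Sylow 2 G) (hx : x ∈ T) (ho : Odd (orderOf x)) : x = 1 := by
  haveI : Fact (Nat.Prime 2) := ⟨Nat.prime_two⟩
  obtain ⟨k, hk⟩ := IsPGroup.iff_orderOf.1 T.2 ⟨x, hx⟩
  rw [Subgroup.orderOf_mk] at hk
  rcases k with _ | k
  · exact orderOf_eq_one_iff.1 (by simpa using hk)
  · exact absurd ho (Nat.not_odd_iff_even.2 (hk ▸ (even_two.pow_of_ne_zero k.succ_ne_zero)))

namespace Quat

variable {T : Sylow 2 G} {S : Subgroup G} {z : G} (hQ : Quat T S z)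
include hQ

theorem le : S ≤ (T : Subgroup G) := hQ.closed.1

theorem pgroup : IsPGroup 2 S := T.2.to_le hQ.closed.1

theorem conj_mem {t s : G} (ht : t ∈ T) (hs : s ∈ S) : t * s * t⁻¹ ∈ S :=
  hQ.closed.2 s hs t (mul_mem (mul_mem (show t ∈ (T : Subgroup G) from ht) (hQ.closed.1 hs))
    (inv_mem (show t ∈ (T : Subgroup G) from ht)))

theorem land {s g : G} (hs : s ∈ S) (h : g * s * g⁻¹ ∈ T) : g * s * g⁻¹ ∈ S :=
  hQ.closed.2 s hs g h

theorem exists_axis (hnab : ∃ x ∈ S, ∃ y ∈ S, x * y ≠ y * x) : ∃ c, Axis T S z c := by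
  haveI : Fact (Nat.Prime 2) := ⟨Nat.prime_two⟩
  set Zp := zpowers z
  haveI : Zp.Normal := ⟨fun w hw g => by
    obtain ⟨i, rfl⟩ := mem_zpowers_iff.1 hw
    rw [((show Commute g z from hQ.central g).zpow_right i).eq, mul_inv_cancel_right]
    exact zpow_mem (mem_zpowers z) i⟩
  have hker : ∀ w ∈ Zp, w = 1 ∨ w = z := fun w hw =>
    hQ.one.uniq w (zpowers_le.2 hQ.one.mem hw) (by
      obtain ⟨i, rfl⟩ := mem_zpowers_iff.1 hw
      rw [← (Commute.refl z).mul_zpow i, hQ.one.sq, one_zpow])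
  set f := QuotientGroup.mk' Zp
  set P := (T : Subgroup G).map f
  set B := (S.map f).subgroupOf P
  haveI : B.Normal := ⟨fun w hw g => by
    obtain ⟨x, hx, hxw⟩ := hw
    obtain ⟨t, ht, htg⟩ := g.2
    exact ⟨t * x * t⁻¹, hQ.conj_mem ht hx, by simp only [map_mul, map_inv, hxw, htg]; rfl⟩⟩
  have hB : B ≠ ⊥ := by
    obtain ⟨x, hx, y, hy, hne⟩ := hnab
    intro hB
    have h1 : f x = 1 := by
      have hm : (⟨f x, ⟨x, hQ.le hx, rfl⟩⟩ : P) ∈ B := mem_map_of_mem f hx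
      rw [hB, mem_bot] at hm
      exact congrArg Subtype.val hm
    rcases hker x ((QuotientGroup.eq_one_iff x).1 h1) with rfl | rfl
    · exact hne (by rw [one_mul, mul_one])
    · exact hne (hQ.central y).symm
  obtain ⟨q, ⟨x, hx, hxq⟩, hq1, hqc⟩ := UniqueInvol.exists_central (T.2.map f) B hB
  have hxz : x ≠ z ∧ x ≠ 1 := by
    refine ⟨fun e => hq1 (Subtype.ext ?_), fun e => hq1 (Subtype.ext ?_)⟩
    · rw [← show f x = (q : G ⧸ Zp) from hxq, e]
      exact (QuotientGroup.eq_one_iff z).2 (mem_zpowers z)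
    · rw [← show f x = (q : G ⧸ Zp) from hxq, e, map_one]; rfl
  obtain ⟨m, hm⟩ := hQ.one.exists_four hQ.pgroup hx hxz.2 hxz.1
  refine ⟨x ^ m, pow_mem hx m, hm, fun t ht => ?_, ?_⟩
  · have hc : Commute (f t) (f x) := by
      have h := mem_center_iff.1 hqc ⟨f t, ⟨t, ht, rfl⟩⟩
      have h' := congrArg Subtype.val h
      rw [show f x = (q : G ⧸ Zp) from hxq]
      exact h'
    have h1 : f (t * x ^ m * t⁻¹ * (x ^ m)⁻¹) = 1 := by
      rw [map_mul, map_mul, map_mul, map_inv, map_inv, map_pow, (hc.pow_right m).eq]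
      group
    rcases hker _ ((QuotientGroup.eq_one_iff _).1 h1) with e | e
    · exact Or.inl (mul_inv_eq_one.1 e)
    · refine Or.inr ?_
      rw [mul_inv_eq_iff_eq_mul.1 e, hQ.one.inv_four hm]
      exact (hQ.central _).symm
  · by_contra hcon
    push Not at hcon
    obtain ⟨a, ha, b, hb, hne⟩ := hnab
    exact hne (hQ.one.comm_of_central hQ.pgroup (pow_mem hx m) hm hcon a ha b hb)

/-- A strongly closed subgroup with a normalized axis is normal without an odd core. -/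
theorem normal_of_axis {c : G} (hc : Axis T S z c) (hO : Cfsg.oddCore G = ⊥)
    (hall : ∀ g : G, Mv g c c) : S.Normal := by
  haveI : Fact (Nat.Prime 2) := ⟨Nat.prime_two⟩
  obtain ⟨b, hb, hbc⟩ := hc.nc
  obtain ⟨hbinv, hbb⟩ := hQ.one.sq_of_not_comm hQ.pgroup hc.mem hc.sq hb (hall b) hbc
  set D := centralizer ({c} : Set G)
  haveI hDn : D.Normal := ⟨fun n hn g => by
    have hn' : n * c = c * n := mem_centralizer_singleton_iff.1 hn
    refine mem_centralizer_singleton_iff.2 ?_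
    rcases (hall g⁻¹) with h | h <;> rw [inv_inv] at h
    · calc g * n * g⁻¹ * c = g * (n * (g⁻¹ * c * g)) * g⁻¹ := by group
        _ = g * ((g⁻¹ * c * g) * n) * g⁻¹ := by rw [h, hn']
        _ = _ := by group
    · calc g * n * g⁻¹ * c = g * (n * (g⁻¹ * c * g)) * g⁻¹ := by group
        _ = g * ((g⁻¹ * c * g) * n) * g⁻¹ := by
          rw [h, (Commute.inv_right (show Commute n c from hn')).eq]
        _ = _ := by group⟩
  obtain ⟨TD, hTD⟩ := CommClosed.sylow_trace D T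
  set A := S ⊓ D
  have hcl : Cfsg.IsStronglyClosed (A.subgroupOf D) (TD : Subgroup D) := by
    rw [hTD]
    exact ⟨fun x hx => hQ.le hx.1, fun x hx g hg =>
      ⟨hQ.land hx.1 hg, (g * x * g⁻¹).2⟩⟩
  have hone : One (A.subgroupOf D) ⟨z, mem_centralizer_singleton_iff.2 (hQ.central c).symm⟩ :=
    ⟨⟨hQ.one.mem, mem_centralizer_singleton_iff.2 (hQ.central c).symm⟩,
      fun e => hQ.one.ne (congrArg Subtype.val e), Subtype.ext hQ.one.sq, fun x hx h =>
      (hQ.one.uniq x hx.1 (congrArg Subtype.val h)).imp (fun e => Subtype.ext e) (fun e => Subtype.ext e)⟩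
  have honeA : One A z := ⟨⟨hQ.one.mem, mem_centralizer_singleton_iff.2 (hQ.central c).symm⟩,
    hQ.one.ne, hQ.one.sq, fun x hx h => hQ.one.uniq x hx.1 h⟩
  have hab : ∀ x ∈ A, ∀ y ∈ A, x * y = y * x := honeA.comm_of_central
    (hQ.pgroup.to_le inf_le_left) ⟨hc.mem, mem_centralizer_singleton_iff.2 rfl⟩ hc.sq
    (fun s hs => mem_centralizer_singleton_iff.1 hs.2)
  have hAD : (A.subgroupOf D).Normal := normal_of_abelian _ D (Nat.lt_succ_self _)
    (oddCore_normal D hO) TD _ _ hcl hone fun x hx y hy => Subtype.ext (hab _ hx _ hy)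
  have hgD : ∀ g : G, g ∈ D ∨ b⁻¹ * g ∈ D := fun g => by
    rcases hall g with h | h
    · exact Or.inl (mem_centralizer_singleton_iff.2 (mul_inv_eq_iff_eq_mul.1 h))
    · refine Or.inr (mem_centralizer_singleton_iff.2 ?_)
      calc b⁻¹ * g * c = b⁻¹ * (g * c * g⁻¹) * g := by group
        _ = b⁻¹ * (b * c * b⁻¹) * g := by rw [h, hbinv]
        _ = _ := by group
  haveI hAn : A.Normal := ⟨fun x hx g => by
    have key : ∀ d ∈ D, ∀ x ∈ A, d * x * d⁻¹ ∈ A := fun d hd x hx =>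
      hAD.conj_mem ⟨x, hx.2⟩ hx ⟨d, hd⟩
    rcases hgD g with h | h
    · exact key g h x hx
    · have h1 := key _ h x hx
      rw [show g * x * g⁻¹ = b * (b⁻¹ * g * x * (b⁻¹ * g)⁻¹) * b⁻¹ by group]
      exact ⟨S.mul_mem (S.mul_mem hb h1.1) (S.inv_mem hb), hDn.conj_mem _ h1.2 b⟩⟩
  have hO' : Cfsg.oddCore (G ⧸ A) = ⊥ := oddCore_quotient_two A (hQ.pgroup.to_le inf_le_left) hO
    fun k hk a ha => hQ.one.comm_of_odd hQ.pgroup inf_le_left hab hk
      (fun x hx => hAn.conj_mem x hx k) (hQ.central k) a ha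
  set f := QuotientGroup.mk' A
  have hf : Function.Surjective f := QuotientGroup.mk'_surjective _
  have hsA : ∀ s ∈ S, f s = 1 ∨ f s = f b := fun s hs => by
    rcases hgD s with h | h
    · exact Or.inl ((QuotientGroup.eq_one_iff s).2 ⟨hs, h⟩)
    · refine Or.inr ?_
      have h1 : f (b⁻¹ * s) = 1 := (QuotientGroup.eq_one_iff _).2 ⟨S.mul_mem (S.inv_mem hb) hs, h⟩
      rw [map_mul, map_inv, inv_mul_eq_one] at h1
      exact h1.symm
  have hone' : One (S.map f) (f b) := by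
    refine ⟨mem_map_of_mem f hb, fun h => hbc (mem_centralizer_singleton_iff.1
      ((QuotientGroup.eq_one_iff b).1 h).2), ?_, ?_⟩
    · rw [← map_mul, hbb]
      exact (QuotientGroup.eq_one_iff z).2 honeA.mem
    · rintro _ ⟨s, hs, rfl⟩ -
      exact hsA s hs
  have hQ' : Quat (T.mapSurjective hf) (S.map f) (f b) := central_of_oddCore
    (by rw [Sylow.coe_mapSurjective]; exact ClosedComplement.stronglyClosed_map T S hQ.closed A)
    hone' hO'
  have hn : (S.map f).Normal := ⟨by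
    rintro _ ⟨s, hs, rfl⟩ g
    rcases hsA s hs with e | e <;> rw [e]
    · rw [mul_one, mul_inv_cancel]; exact one_mem _
    · rw [conj_z hQ']; exact mem_map_of_mem f hb⟩
  have hS' : S = (S.map f).comap f := by
    rw [comap_map_eq, QuotientGroup.ker_mk', sup_eq_left.2 inf_le_left]
  rw [hS']
  exact hn.comap f

/-- The odd core of the normalizer of an axis. -/
theorem axis_normal {c : G} (hc : Axis T S z c) {l s : G} (hl : l ∈ fixAxis c) (hs : s ∈ S) :
    ∃ s' ∈ S, s'⁻¹ * (l * s * l⁻¹) ∈ CommClosed.core (fixAxis c) := by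
  haveI : Fact (Nat.Prime 2) := ⟨Nat.prime_two⟩
  set L := fixAxis c
  have hTL : (T : Subgroup G) ≤ L := fun t ht => hc.fix t ht
  set f := QuotientGroup.mk' (Cfsg.oddCore ↥L)
  have hf : Function.Surjective f := QuotientGroup.mk'_surjective _
  have hinj : ∀ x : L, (x : G) ∈ T → f x = 1 → x = 1 := fun x hxT hx => Subtype.ext
    (eq_one_of_two_odd T hxT (by
      rw [Subgroup.orderOf_coe]
      exact IsoApps.odd_of_mem_oddCore ((QuotientGroup.eq_one_iff x).1 hx)))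
  set S₀ := S.subgroupOf L
  have hcl : Cfsg.IsStronglyClosed S₀ ((T.subtype hTL : Sylow 2 L) : Subgroup L) :=
    ⟨fun x hx => hQ.le hx, fun x hx g hg => hQ.land hx hg⟩
  have hzL : z ∈ L := hTL (hQ.le hQ.one.mem)
  have hcL : c ∈ L := hTL (hQ.le hc.mem)
  have hone : One (S₀.map f) (f ⟨z, hzL⟩) := by
    refine ⟨mem_map_of_mem f hQ.one.mem, fun h => hQ.one.ne
      (congrArg Subtype.val (hinj _ (hQ.le hQ.one.mem) h)), ?_, ?_⟩
    · rw [← map_mul, show (⟨z, hzL⟩ : L) * ⟨z, hzL⟩ = 1 from Subtype.ext hQ.one.sq, map_one]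
    · rintro _ ⟨x, hx, rfl⟩ h
      rw [← map_mul] at h
      rcases hQ.one.uniq _ hx (congrArg Subtype.val (hinj _ (hQ.le (show (x : G) * x ∈ S from S.mul_mem hx hx)) h)) with e | e
      · exact Or.inl (by rw [show x = 1 from Subtype.ext e, map_one])
      · exact Or.inr (congrArg f (Subtype.ext e))
  have hQ' : Quat ((T.subtype hTL).mapSurjective hf) (S₀.map f) (f ⟨z, hzL⟩) := by
    refine ⟨hone, ?_, fun q => ?_⟩
    · rw [Sylow.coe_mapSurjective]; exact ClosedComplement.stronglyClosed_map _ _ hcl _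
    · obtain ⟨g, rfl⟩ := hf q
      rw [← map_mul, ← map_mul, show g * ⟨z, hzL⟩ = ⟨z, hzL⟩ * g from Subtype.ext (hQ.central _)]
  have hall : ∀ q, Mv q (f ⟨c, hcL⟩) (f ⟨c, hcL⟩) := fun q => by
    obtain ⟨g, rfl⟩ := hf q
    rcases g.2 with h | h
    · exact Or.inl (by rw [← map_inv, ← map_mul, ← map_mul]; exact congrArg f (Subtype.ext h))
    · exact Or.inr (by rw [← map_inv, ← map_mul, ← map_mul, ← map_inv]; exact congrArg f (Subtype.ext h))
  have hax : Axis ((T.subtype hTL).mapSurjective hf) (S₀.map f) (f ⟨z, hzL⟩) (f ⟨c, hcL⟩) := by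
    refine ⟨mem_map_of_mem f hc.mem, by rw [← map_mul]; exact congrArg f (Subtype.ext hc.sq),
      fun q _ => hall q, ?_⟩
    obtain ⟨b, hb, hbc⟩ := hc.nc
    refine ⟨f ⟨b, hTL (hQ.le hb)⟩, mem_map_of_mem f hb, fun h => hbc ?_⟩
    rw [← map_mul, ← map_mul, ← inv_mul_eq_one, ← map_inv, ← map_mul] at h
    have h1 := hinj _ (hQ.le (mul_mem (inv_mem (mul_mem hb hc.mem)) (mul_mem hc.mem hb))) h
    exact inv_mul_eq_one.1 (congrArg Subtype.val h1)
  have hn := hQ'.normal_of_axis hax LocalB.oddCore_quotient hall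
  obtain ⟨⟨s', hs'L⟩, hs', he⟩ := hn.conj_mem _ (mem_map_of_mem f (show (⟨s, hTL (hQ.le hs)⟩ : L) ∈ S₀
    from hs)) (f ⟨l, hl⟩)
  rw [← map_inv, ← map_mul, ← map_mul, ← inv_mul_eq_one, ← map_inv, ← map_mul] at he
  exact ⟨s', hs', ⟨_, (QuotientGroup.eq_one_iff _).1 he, rfl⟩⟩

/-- Elements fixing an axis preserve the centralizer of `S` in the Sylow subgroup. -/
theorem comm_of_axis {c : G} (hc : Axis T S z c) {y l : G} (hy : y ∈ T)
    (hyS : ∀ s ∈ S, s * y = y * s) (hl : l ∈ fixAxis c) (hy' : l * y * l⁻¹ ∈ T) :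
    ∀ s ∈ S, s * (l * y * l⁻¹) = l * y * l⁻¹ * s := by
  intro s hs
  obtain ⟨s', hs', hcore⟩ := hQ.axis_normal hc (inv_mem hl) hs
  rw [inv_inv] at hcore
  set o := s'⁻¹ * (l⁻¹ * s * l) with ho
  set L := fixAxis c
  have hTL : (T : Subgroup G) ≤ L := fun t ht => hc.fix t ht
  have hcoreN := CommClosed.core_normalized L
  have hsplit : l⁻¹ * s * l = s' * o := by rw [ho, mul_inv_cancel_left]
  set e := s * (l * y * l⁻¹) * s⁻¹ * (l * y * l⁻¹)⁻¹ with he
  have he' : e = l * (s' * (o * (y * o⁻¹ * y⁻¹)) * s'⁻¹) * l⁻¹ := by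
    have h1 : e = l * ((l⁻¹ * s * l) * y * (l⁻¹ * s * l)⁻¹ * y⁻¹) * l⁻¹ := by rw [he]; group
    rw [h1, hsplit]
    have h2 : s'⁻¹ * y⁻¹ = y⁻¹ * s'⁻¹ :=
      ((show Commute s' y from hyS s' hs').inv_inv).eq
    calc l * (s' * o * y * (s' * o)⁻¹ * y⁻¹) * l⁻¹ = l * (s' * o * y * o⁻¹ * (s'⁻¹ * y⁻¹)) * l⁻¹ := by
          group
      _ = _ := by rw [h2]; group
  have hmem : e ∈ CommClosed.core L := by
    rw [he']
    exact hcoreN l hl _ (hcoreN s' (hTL (hQ.le hs')) _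
      (mul_mem hcore (hcoreN y (hTL hy) _ (inv_mem hcore))))
  have heT : e ∈ T := mul_mem (mul_mem (mul_mem (show s ∈ (T : Subgroup G) from hQ.le hs) hy')
    (inv_mem (hQ.le hs))) (inv_mem (show l * y * l⁻¹ ∈ (T : Subgroup G) from hy'))
  have h1 := eq_one_of_two_odd T heT (CommClosed.odd_of_mem (CommClosed.odd_core L) hmem)
  rw [he, mul_inv_eq_one, mul_inv_eq_iff_eq_mul] at h1
  exact h1

end Quat

end CfsgLib.Criterion.QuatClosed
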