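import Cfsg.Agent.Criterion.Action.ThreeClosed
import Cfsg.Agent.Criterion.Action.Rows
import Cfsg.Agent.Criterion.Action.QuatAxis
import Cfsg.Agent.Bender.StructureMain
import Cfsg.Agent.CommClosed.SylowNormal

/-!
Strongly closed 2-subgroups of a permutation group in the setting of the criterion whose nontrivial
elements fix only the base point.
-/

set_option autoImplicit false
set_option linter.unusedSectionVars false
set_option linter.style.haveILetI false

namespace CfsgLib.Criterion.ClosedOvergroup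

open Subgroup MulAction
open CfsgLib.Criterion.Act (Setting Concl OneFix)

universe u

variable {P Ω : Type u} [Group P] [Finite P] [MulAction P Ω] [Finite Ω] [IsPretransitive P Ω]
  [FaithfulSMul P Ω]

/-- The hypotheses on the permutation group. -/
structure ImageHyp (a : Ω) (z : P) (T : Sylow 2 P) (S : Subgroup P) : Prop where
  setting : Setting P Ω a z
  concl : Concl P Ω z
  fix : ∀ t ∈ (T : Subgroup P), t • a = a
  closed : Cfsg.IsStronglyClosed S (T : Subgroup P)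
  mem : z ∈ S
  one : ∀ s ∈ S, s ≠ 1 → ∀ b : Ω, s • b = b → b = a
  pair : ∃ u ∈ S, ∃ v ∈ S, orderOf u = 2 ∧ orderOf v = 2 ∧ u ≠ v ∧ u * v = v * u

namespace ImageHyp

variable {a : Ω} {z : P} {T : Sylow 2 P} {S : Subgroup P} (h : ImageHyp a z T S)
include h

/-- The involutions of `S` lie in the normal closure of `z`. -/
theorem invol_mem {s : P} (hs : s ∈ S) (hs2 : orderOf s = 2) :
    s ∈ normalClosure ({z} : Set P) := by
  haveI : Fact (Nat.Prime 2) := ⟨Nat.prime_two⟩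
  have hss : s * s = 1 := Invol.mul_self_eq_one hs2
  refine h.setting.mem_normalClosure h.concl hss (p := a)
    (fun c => ⟨h.one s hs (Invol.ne_one hs2) c, fun e => e ▸ h.fix s (h.closed.1 hs)⟩) ?_
  intro y hy hsy hne b c hb hc
  have hyy := (h.setting.conj_fix hy).1
  have hle : zpowers s ≤ normalizer (zpowers y : Set P) :=
    zpowers_le.2 (centralizer_le_normalizer _ (mem_centralizer_iff.2 fun x hx => by
      obtain ⟨m, rfl⟩ := mem_zpowers_iff.1 hx
      exact ((show Commute s y from hsy).zpow_right m).eq.symm))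
  obtain ⟨g, hg⟩ := QuatClosed.exists_into T
    ((Act.isPGroup_zpowers_two hss).to_sup_of_normal_right' (Act.isPGroup_zpowers_two hyy) hle)
  obtain ⟨c₀, rfl⟩ := isConj_iff.1 hy
  have h1 : g * s * g⁻¹ ∈ S := h.closed.2 s hs g (hg _ (mem_sup_left (mem_zpowers _)))
  have h2 : g * (c₀ * z * c₀⁻¹) * g⁻¹ ∈ S := by
    have h' := hg _ (mem_sup_right (mem_zpowers (c₀ * z * c₀⁻¹)))
    rw [show g * (c₀ * z * c₀⁻¹) * g⁻¹ = g * c₀ * z * (g * c₀)⁻¹ by group] at h' ⊢
    exact h.closed.2 z h.mem _ h'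
  have h3 : g * (s * (c₀ * z * c₀⁻¹)) * g⁻¹ ∈ S := by
    have := mul_mem h1 h2
    rwa [show g * s * g⁻¹ * (g * (c₀ * z * c₀⁻¹) * g⁻¹) = g * (s * (c₀ * z * c₀⁻¹)) * g⁻¹ by
      group] at this
  have hne1 : g * (s * (c₀ * z * c₀⁻¹)) * g⁻¹ ≠ 1 := fun e => hne (by
    rw [eq_inv_of_mul_eq_one_left (conj_eq_one_iff.1 e), inv_eq_of_mul_eq_one_right hyy])
  have key : ∀ d : Ω, (s * (c₀ * z * c₀⁻¹)) • d = d → g • d = a := fun d hd =>
    h.one _ h3 hne1 _ (by rw [mul_smul, mul_smul, inv_smul_smul, hd])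
  exact smul_left_cancel g ((key b hb).trans (key c hc).symm)

/-- The group generated by the conjugates of `z` is one of the three, and `S` is either its Sylow
subgroup inside `T` or the involutions of this. -/
theorem main : normalClosure (S : Set P) = normalClosure ({z} : Set P) ∧
    Bender.Consumers.Three ↥(normalClosure ({z} : Set P)) ∧
    (∀ p ∈ normalClosure ({z} : Set P), p * p = 1 → p ≠ 1 → ∀ s ∈ S, orderOf s = 2 →
      ∃ x ∈ normalClosure ({z} : Set P), x * s * x⁻¹ = p) ∧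
    (S = (T : Subgroup P) ⊓ normalClosure ({z} : Set P) ∨
      ((∀ s ∈ S, s * s = 1) ∧
        (∀ x ∈ (T : Subgroup P) ⊓ normalClosure ({z} : Set P), x * x = 1 → x ∈ S) ∧
        ∀ x ∈ (T : Subgroup P) ⊓ normalClosure ({z} : Set P), ∀ s ∈ S, x * s = s * x)) := by
  classical
  haveI : Fact (Nat.Prime 2) := ⟨Nat.prime_two⟩
  set K := normalClosure ({z} : Set P) with hK
  haveI := h.setting.pretransitive_normalClosure
  have hzK : z ∈ K := subset_normalClosure rfl
  have hse : Cfsg.IsStronglyEmbedded (stabilizer K a) := h.setting.stronglyEmbedded h.concl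
  obtain ⟨u, hu, v, hv, hu2, hv2, huv, hc⟩ := h.pair
  have huK := h.invol_mem hu hu2
  have hvK := h.invol_mem hv hv2
  have hp : Bender.PairRank K := ⟨⟨u, huK⟩, ⟨v, hvK⟩,
    by rw [Subgroup.orderOf_mk]; exact hu2, by rw [Subgroup.orderOf_mk]; exact hv2,
    fun e => huv (congrArg Subtype.val e), Subtype.ext hc⟩
  have hO : Cfsg.oddCore K = ⊥ := by
    have hle := Bender.Core.normal_odd_le hse hp inferInstance IsoApps.odd_oddCore
    refine (eq_bot_iff_forall _).2 fun x hx => eq_of_smul_eq_smul (α := Ω) fun b => ?_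
    obtain ⟨g, rfl⟩ := exists_smul_eq K a b
    have h1 := mem_stabilizer_iff.1
      (hle ((inferInstance : (Cfsg.oddCore K).Normal).conj_mem x hx g⁻¹))
    rw [mul_smul, mul_smul, inv_inv, inv_smul_eq_iff] at h1
    rw [h1, one_smul]
  have hz2 : orderOf (⟨z, hzK⟩ : K) = 2 := by rw [Subgroup.orderOf_mk]; exact h.setting.ord
  have h3 : Bender.Consumers.Three K := by
    have h' := Bender.Consumers.closure_three Bender.Consumers.structure_all hse hp
    set π := QuotientGroup.mk' (Cfsg.oddCore K)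
    have hπ : Function.Bijective π := by
      refine ⟨(MonoidHom.ker_eq_bot_iff π).1 ?_, QuotientGroup.mk'_surjective _⟩
      rw [QuotientGroup.ker_mk', hO]
    have htop : Cfsg.pElementClosure 2 (⊤ : Subgroup (K ⧸ Cfsg.oddCore K)) = ⊤ := by
      set R := Cfsg.pElementClosure 2 (⊤ : Subgroup (K ⧸ Cfsg.oddCore K))
      have hgen : (⊤ : Subgroup K) ≤ R.comap π := by
        refine (closure_closure_coe_preimage
          (k := Group.conjugatesOfSet ({z} : Set P))).ge.trans ((closure_le _).2 fun x hx => ?_)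
        obtain ⟨_, rfl, hcz⟩ := Group.mem_conjugatesOfSet_iff.1 hx
        refine subset_closure ⟨mem_top _, 1, ?_⟩
        obtain ⟨g, hg⟩ := isConj_iff.1 hcz
        rw [pow_one]
        refine (orderOf_injective π hπ.1 x).trans ?_
        refine (orderOf_injective K.subtype K.subtype_injective x).symm.trans
          ((congrArg orderOf hg.symm).trans ?_)
        rw [Invol.orderOf_conj_eq]
        exact h.setting.ord
      refine eq_top_iff.2 fun y _ => ?_
      obtain ⟨y, rfl⟩ := hπ.2 y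
      exact hgen (mem_top y)
    exact h'.congr (((MulEquiv.ofBijective π hπ).trans Subgroup.topEquiv.symm).trans
      (MulEquiv.subgroupCongr htop.symm))
  obtain ⟨W, hWH, hWn, hW2, htr⟩ := Bender.Consumers.structure_all _ (stabilizer K a) hse hO hp
  obtain ⟨TK, hTK⟩ := CommClosed.sylow_trace K T
  have hTKW : (TK : Subgroup K) ≤ W := fun x hx => by
    obtain ⟨i, hi⟩ := TK.2 ⟨x, hx⟩
    rw [hTK, mem_subgroupOf] at hx
    exact Bender.Consumers.two_mem_of_shape hse hWH hWn htr (h.fix _ hx)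
      (congrArg Subtype.val hi)
  have hWT : W = (TK : Subgroup K) := TK.3 hW2 hTKW
  subst hWT
  set Q := (T : Subgroup P) ⊓ K with hQ
  have hmem : ∀ x : K, x ∈ (TK : Subgroup K) ↔ (x : P) ∈ Q := fun x => by
    rw [hTK, mem_subgroupOf, hQ, mem_inf]
    exact ⟨fun hx => ⟨hx, x.2⟩, fun hx => hx.1⟩
  have hQfix : ∀ x ∈ Q, x • a = a := fun x hx => h.fix x hx.1
  have hQn : ∀ k ∈ K, k • a = a → ∀ x ∈ Q, k * x * k⁻¹ ∈ Q := fun k hk hka x hx =>
    (hmem _).1 ((mem_normalizer_iff.1 (hWn (show (⟨k, hk⟩ : K) ∈ stabilizer K a from hka))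
      ⟨x, hx.2⟩).1 ((hmem _).2 hx))
  have hfree : ∀ x ∈ Q, ∀ b : Ω, b ≠ a → x • b = b → x = 1 := by
    intro x hx b hb hxb
    obtain ⟨g, hg⟩ := exists_smul_eq K a b
    have hgH : g ∉ stabilizer K a := fun e => hb (hg.symm.trans (mem_stabilizer_iff.1 e))
    refine congrArg Subtype.val (Bender.Consumers.shape_free hse hWH TK.2 hgH
      ((hmem ⟨x, hx.2⟩).2 hx) (mem_stabilizer_iff.2 ?_))
    rw [mul_smul, mul_smul, inv_smul_eq_iff, hg]
    exact hxb
  have hQtr : ∀ b c : Ω, b ≠ a → c ≠ a → ∃ x ∈ Q, x • b = c := by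
    intro b c hb hc
    obtain ⟨g₁, h1⟩ := exists_smul_eq K a b
    obtain ⟨g₂, h2⟩ := exists_smul_eq K a c
    obtain ⟨w, hw, hw'⟩ := htr g₁ g₂ (fun e => hb (h1.symm.trans (mem_stabilizer_iff.1 e)))
      (fun e => hc (h2.symm.trans (mem_stabilizer_iff.1 e)))
    refine ⟨w, (hmem w).1 hw, ?_⟩
    rw [mem_stabilizer_iff, mul_smul, mul_smul, inv_smul_eq_iff, h1, h2] at hw'
    exact hw'
  -- fusion in `Q` fixes `a`
  have hfus : ∀ x ∈ Q, x ≠ 1 → ∀ g : P, g * x * g⁻¹ ∈ Q → g • a = a := by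
    intro x hx hx1 g hgx
    by_contra hne
    exact hx1 (conj_eq_one_iff.1 (hfree _ hgx _ hne (by
      rw [mul_smul, mul_smul, inv_smul_smul, hQfix x hx])))
  have hclass : ∀ p ∈ K, p * p = 1 → p ≠ 1 → ∀ s ∈ K, orderOf s = 2 →
      ∃ x ∈ K, x * s * x⁻¹ = p := by
    intro p hp hp2 hp1 s hs hs2
    obtain ⟨x, hx⟩ := isConj_iff.1 (StrongEmbed.isConj_of_invols hse
      (a := (⟨s, hs⟩ : K)) (b := ⟨p, hp⟩) (by rw [Subgroup.orderOf_mk]; exact hs2)
      (by rw [Subgroup.orderOf_mk]; exact Invol.orderOf_eq_two hp2 hp1))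
    exact ⟨x, x.2, congrArg Subtype.val hx⟩
  have hinvS : ∀ x ∈ Q, x * x = 1 → x ∈ S := by
    intro x hx hx2
    by_cases hx1 : x = 1
    · exact hx1 ▸ one_mem S
    obtain ⟨k, hk, rfl⟩ := hclass x hx.2 hx2 hx1 z hzK h.setting.ord
    exact h.closed.2 z h.mem k hx.1
  have hfacts := twoFacts_of_three h3 TK
  have hsq : ∀ x ∈ Q, x * x * (x * x) = 1 := fun x hx =>
    congrArg Subtype.val (hfacts.sq ⟨x, hx.2⟩ ((hmem ⟨x, hx.2⟩).2 hx))
  have hcen : ∀ x ∈ Q, x * x = 1 → ∀ y ∈ Q, x * y = y * x := fun x hx h2 y hy =>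
    congrArg Subtype.val (hfacts.central ⟨x, hx.2⟩ ((hmem ⟨x, hx.2⟩).2 hx) (Subtype.ext h2)
      ⟨y, hy.2⟩ ((hmem ⟨y, hy.2⟩).2 hy))
  have hirr : ∀ R : Subgroup P, R ≤ Q → (∀ x ∈ R, ∀ g ∈ K, g * x * g⁻¹ ∈ Q → g * x * g⁻¹ ∈ R) →
      (∀ x ∈ Q, x * x = 1 → x ∈ R) → (∀ x ∈ Q, x ∈ R) ∨ ∀ x ∈ R, x * x = 1 := by
    intro R hR hRcl hRinv
    rcases hfacts.irr (R.subgroupOf K) (fun x hx => (hmem x).2 (hR hx))
      (fun x hx g hg => hRcl x hx g g.2 ((hmem _).1 hg))
      (fun x hx h2 => hRinv x ((hmem x).1 hx) (congrArg Subtype.val h2)) with e | e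
    · refine Or.inl fun x hx => ?_
      have hx' := (hmem ⟨x, hx.2⟩).2 hx
      rw [← e] at hx'
      exact hx'
    · exact Or.inr fun x hx => congrArg Subtype.val (e ⟨x, (hR hx).2⟩ hx)
  obtain ⟨b, hb⟩ := h.setting.moved
  have hdiv : ∀ s ∈ S, ∃ q ∈ Q, ∃ d ∈ (T : Subgroup P), s = q * d ∧ d • a = a ∧ d • b = b := by
    intro s hs
    have hsT := h.closed.1 hs
    obtain ⟨q, hq, hqb⟩ := hQtr b (s • b) hb fun e => hb (smul_left_cancel s
      (e.trans (h.fix s hsT).symm))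
    refine ⟨q, hq, q⁻¹ * s, mul_mem (inv_mem hq.1) hsT, by rw [mul_inv_cancel_left], ?_, ?_⟩
    · rw [mul_smul, h.fix s hsT, inv_smul_eq_iff, hQfix q hq]
    · rw [mul_smul, inv_smul_eq_iff, hqb]
  -- an element of `S` whose part in `Q` lies in `S` is this part
  have hkey : ∀ s ∈ S, ∀ q ∈ Q, ∀ d : P, s = q * d → d • b = b → q ∈ S → s = q := by
    intro s hs q _ d he hdb hqS
    have hd : d ∈ S := by
      rw [show d = q⁻¹ * s by rw [he, inv_mul_cancel_left]]
      exact mul_mem (inv_mem hqS) hs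
    by_contra hne
    exact hb (h.one d hd (fun e => hne (by rw [he, e, mul_one])) b hdb)
  have hres : S ≤ K → normalClosure (S : Set P) = K := fun hle =>
    le_antisymm (normalClosure_le_normal hle)
      (normalClosure_mono (Set.singleton_subset_iff.2 h.mem))
  have hclassS : ∀ p ∈ K, p * p = 1 → p ≠ 1 → ∀ s ∈ S, orderOf s = 2 →
      ∃ x ∈ K, x * s * x⁻¹ = p := fun p hp hp2 hp1 s hs hs2 =>
    hclass p hp hp2 hp1 s (h.invol_mem hs hs2) hs2
  rcases hirr (S ⊓ K) (fun x hx => ⟨h.closed.1 hx.1, hx.2⟩)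
    (fun x hx g _ hg => ⟨h.closed.2 x hx.1 g hg.1, hg.2⟩)
    (fun x hx h2 => ⟨hinvS x hx h2, hx.2⟩) with hall | hZ
  · have hSQ : ∀ s ∈ S, s ∈ Q := fun s hs => by
      obtain ⟨q, hq, d, -, he, -, hdb⟩ := hdiv s hs
      rw [hkey s hs q hq d he hdb (hall q hq).1]
      exact hq
    exact ⟨hres fun s hs => (hSQ s hs).2, h3, hclassS,
      Or.inl (le_antisymm hSQ fun x hx => (hall x hx).1)⟩
  have hSK : ∀ s ∈ S, s ∈ K := by
    intro s hs
    by_contra hsK
    obtain ⟨q, hq, d, hdT, he, hda, hdb⟩ := hdiv s hs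
    have hq2 : q * q ≠ 1 := fun e => hsK (by
      rw [hkey s hs q hq d he hdb (hinvS q hq e)]; exact hq.2)
    -- the involutions of `Q`
    let Zq : Subgroup P :=
      { carrier := {x | x ∈ Q ∧ x * x = 1}
        one_mem' := ⟨one_mem _, one_mul 1⟩
        mul_mem' := fun {x y} hx hy => ⟨mul_mem hx.1 hy.1,
          Act.invol_mul hx.2 hy.2 (hcen x hx.1 hx.2 y hy.1)⟩
        inv_mem' := fun {x} hx => by
          rw [inv_eq_of_mul_eq_one_right hx.2]; exact hx }
    have hsqZ : ∀ x ∈ Q, x * x ∈ Zq := fun x hx => ⟨mul_mem hx hx, hsq x hx⟩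
    have hcommZ : ∀ x ∈ Q, ∀ y ∈ Q, x * y * x⁻¹ * y⁻¹ ∈ Zq := by
      intro x hx y hy
      have e : x * y * x⁻¹ * y⁻¹ = (x * y) * (x * y) * ((x * x)⁻¹ * (y * y)⁻¹) := by
        have hcy : Commute (x * x) y := hcen _ (hsqZ x hx).1 (hsqZ x hx).2 y hy
        calc x * y * x⁻¹ * y⁻¹ = (x * y) * (x * y) * (y⁻¹ * (x * x)⁻¹ * y⁻¹) := by group
          _ = (x * y) * (x * y) * ((x * x)⁻¹ * y⁻¹ * y⁻¹) := by rw [(hcy.inv_inv).eq]
          _ = _ := by group
      rw [e]
      exact mul_mem (hsqZ _ (mul_mem hx hy)) (mul_mem (inv_mem (hsqZ x hx)) (inv_mem (hsqZ y hy)))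
    have hZn : ∀ k ∈ K, k • a = a → ∀ x ∈ Zq, k * x * k⁻¹ ∈ Zq := fun k hk hka x hx =>
      ⟨hQn k hk hka x hx.1, Act.conj_invol hx.2 k⟩
    -- elements trivial on `Q` modulo its involutions
    let Tr : P → Prop := fun g => ∀ x ∈ Q, g * x * g⁻¹ * x⁻¹ ∈ Zq
    have hTmul : ∀ g g', Tr g → Tr g' → Tr (g * g') := by
      intro g g' hg hg' x hx
      set e := g' * x * g'⁻¹ * x⁻¹
      have hex : e * x ∈ Q := mul_mem (hg' x hx).1 hx
      have h1 := mul_mem (hg _ hex) (hg' x hx)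
      rw [show g * (e * x) * g⁻¹ * (e * x)⁻¹ * e = g * g' * x * (g * g')⁻¹ * x⁻¹ by
        simp only [e]; group] at h1
      exact h1
    have hTinv : ∀ g, Tr g → Tr g⁻¹ := fun g hg => by
      obtain ⟨n, hn⟩ : ∃ n, orderOf g = n + 1 := ⟨_, (Nat.succ_pred_eq_of_pos (orderOf_pos g)).symm⟩
      have e : g⁻¹ = g ^ n := inv_eq_of_mul_eq_one_right (by
        rw [← pow_succ', ← hn, pow_orderOf_eq_one])
      rw [e]
      clear e hn
      induction n with
      | zero => intro x _; simp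
      | succ n ih => rw [pow_succ]; exact hTmul _ _ ih hg
    have hTconj : ∀ k ∈ K, k • a = a → ∀ g, Tr g → Tr (k * g * k⁻¹) := by
      intro k hk hka g hg x hx
      have hka' : k⁻¹ • a = a := inv_smul_eq_iff.2 hka.symm
      have hx' := hQn k⁻¹ (inv_mem hk) hka' x hx
      have h1 := hZn k hk hka _ (hg _ hx')
      rwa [show k * (g * (k⁻¹ * x * k⁻¹⁻¹) * g⁻¹ * (k⁻¹ * x * k⁻¹⁻¹)⁻¹) * k⁻¹ =
        k * g * k⁻¹ * x * (k * g * k⁻¹)⁻¹ * x⁻¹ by group] at h1
    have hd : Tr d := by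
      intro x hx
      have h1 : s * x * s⁻¹ * x⁻¹ ∈ Zq := by
        have hS1 : s * x * s⁻¹ * x⁻¹ ∈ S := by
          rw [show s * x * s⁻¹ * x⁻¹ = s * (x * s⁻¹ * x⁻¹) by group]
          exact mul_mem hs (h.closed.2 _ (inv_mem hs) x
            (mul_mem (mul_mem hx.1 (h.closed.1 (inv_mem hs))) (inv_mem hx.1)))
        have hK1 : s * x * s⁻¹ * x⁻¹ ∈ K :=
          mul_mem ((inferInstance : K.Normal).conj_mem x hx.2 s) (inv_mem hx.2)
        exact ⟨⟨h.closed.1 hS1, hK1⟩, hZ _ ⟨hS1, hK1⟩⟩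
      have h2 := mul_mem h1 (hcommZ q⁻¹ (inv_mem hq) x hx)
      have e : d * x * d⁻¹ * x⁻¹ = s * x * s⁻¹ * x⁻¹ * (q⁻¹ * x * q⁻¹⁻¹ * x⁻¹) := by
        rw [show d = q⁻¹ * s by rw [he, inv_mul_cancel_left]]
        calc q⁻¹ * s * x * (q⁻¹ * s)⁻¹ * x⁻¹
            = q⁻¹ * (s * x * s⁻¹ * x⁻¹) * (x * q * x⁻¹) := by group
          _ = s * x * s⁻¹ * x⁻¹ * q⁻¹ * (x * q * x⁻¹) := by
            rw [hcen _ h1.1 h1.2 q⁻¹ (inv_mem hq)]
          _ = _ := by group
      rw [e]; exact h2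
    -- the odd part fixing `a` and `b`
    have hodd : ∀ c ∈ K, c • a = a → c • b = b → Odd (orderOf c) := by
      intro c hc hca hcb
      obtain ⟨g, hg⟩ := exists_smul_eq K a b
      have hgH : g ∉ stabilizer K a := fun e => hb (hg.symm.trans (mem_stabilizer_iff.1 e))
      rw [← Subgroup.orderOf_mk c hc]
      refine (hse.2.2 g hgH).of_dvd_nat (Subgroup.orderOf_dvd_natCard _
        ⟨hca, g⁻¹ * ⟨c, hc⟩ * g, ?_, by simp [mul_assoc]⟩)
      show (g⁻¹ * (⟨c, hc⟩ : K) * g) • a = a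
      rw [mul_smul, mul_smul, hg, inv_smul_eq_iff, hg]
      exact hcb
    have htriv : ∀ c ∈ K, c • a = a → c • b = b → Tr c → c = 1 := by
      intro c hc hca hcb hcT
      -- it centralizes the squares, which are all involutions
      have hsq' : ∀ x ∈ Q, c * (x * x) * c⁻¹ = x * x := by
        intro x hx
        set e := c * x * c⁻¹ * x⁻¹
        have hee : e * e = 1 := (hcT x hx).2
        have hex : e * x = x * e := hcen e (hcT x hx).1 hee x hx
        calc c * (x * x) * c⁻¹ = (e * x) * (e * x) := by simp only [e]; group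
          _ = e * e * (x * x) := (show Commute e x from hex).symm.mul_mul_mul_comm e x
          _ = x * x := by rw [hee, one_mul]
      have hZc : ∀ w ∈ Zq, c * w * c⁻¹ = w := by
        intro w hw
        by_cases hw1 : w = 1
        · rw [hw1, mul_one, mul_inv_cancel]
        obtain ⟨k, hk, hkw⟩ := hclass w hw.1.2 hw.2 hw1 (q * q) (mul_mem hq.2 hq.2)
          (Invol.orderOf_eq_two (hsq q hq) hq2)
        have hka : k • a = a := hfus _ (mul_mem hq hq) hq2 k (hkw ▸ hw.1)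
        rw [← hkw, show k * (q * q) * k⁻¹ = k * q * k⁻¹ * (k * q * k⁻¹) by group]
        exact hsq' _ (hQn k hk hka q hq)
      have hQc : ∀ x ∈ Q, c * x * c⁻¹ = x := by
        intro x hx
        set e := c * x * c⁻¹ * x⁻¹ with hedef
        have he1 : c * x * c⁻¹ = e * x := by rw [hedef, inv_mul_cancel_right]
        have hpow : ∀ n : ℕ, c ^ n * x * (c ^ n)⁻¹ = e ^ n * x := by
          intro n
          induction n with
          | zero => simp
          | succ n ih =>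
            have hen : c * e ^ n * c⁻¹ = e ^ n := hZc _ (pow_mem (hcT x hx) n)
            calc c ^ (n + 1) * x * (c ^ (n + 1))⁻¹
                = c * (c ^ n * x * (c ^ n)⁻¹) * c⁻¹ := by rw [pow_succ']; group
              _ = c * (e ^ n * x) * c⁻¹ := by rw [ih]
              _ = c * e ^ n * c⁻¹ * (c * x * c⁻¹) := by group
              _ = e ^ (n + 1) * x := by rw [hen, he1, ← mul_assoc, ← pow_succ]
        have h1 := hpow (orderOf c)
        rw [pow_orderOf_eq_one, one_mul, inv_one, mul_one, right_eq_mul] at h1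
        have he0 : e = 1 := Bender.Consumers.eq_one_of_two_of_odd
          ((hodd c hc hca hcb).of_dvd_nat (orderOf_dvd_of_pow_eq_one h1)) (i := 1)
          (by rw [pow_one, sq]; exact (hcT x hx).2)
        rw [he1, he0, one_mul]
      refine eq_of_smul_eq_smul (α := Ω) fun p => ?_
      rw [one_smul]
      by_cases hpa : p = a
      · rw [hpa, hca]
      obtain ⟨x, hx, rfl⟩ := hQtr b p hb hpa
      rw [← mul_smul, show c * x = x * c from mul_inv_eq_iff_eq_mul.1 (hQc x hx), mul_smul, hcb]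
    -- `d` centralizes these elements
    have hdk : ∀ k ∈ K, k • a = a → k • b = b → k * d * k⁻¹ = d := by
      intro k hk hka hkb
      have hc1 : d * k * d⁻¹ * k⁻¹ = 1 := by
        refine htriv _ (mul_mem ((inferInstance : K.Normal).conj_mem k hk d) (inv_mem hk)) ?_ ?_ ?_
        · rw [mul_smul, mul_smul, mul_smul, inv_smul_eq_iff.2 hka.symm,
            inv_smul_eq_iff.2 hda.symm, hka, hda]
        · rw [mul_smul, mul_smul, mul_smul, inv_smul_eq_iff.2 hkb.symm,
            inv_smul_eq_iff.2 hdb.symm, hkb, hdb]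
        · rw [show d * k * d⁻¹ * k⁻¹ = d * (k * d⁻¹ * k⁻¹) by group]
          exact hTmul _ _ hd (hTconj k hk hka _ (hTinv d hd))
      rw [mul_inv_eq_one, mul_inv_eq_iff_eq_mul] at hc1
      rw [← hc1, mul_inv_cancel_right]
    let R : Subgroup P :=
      { carrier := {x | x ∈ Q ∧ ∀ k ∈ K, k • a = a → k • b = b → k * x * k⁻¹ * x⁻¹ ∈ Zq}
        one_mem' := ⟨one_mem _, fun k _ _ _ => by simp⟩
        mul_mem' := fun {x y} hx hy => ⟨mul_mem hx.1 hy.1, fun k hk hka hkb => by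
          have h1 := hy.2 k hk hka hkb
          have h2 := hx.2 k hk hka hkb
          have e : k * (x * y) * k⁻¹ * (x * y)⁻¹ =
              k * x * k⁻¹ * x⁻¹ * (k * y * k⁻¹ * y⁻¹) := by
            calc k * (x * y) * k⁻¹ * (x * y)⁻¹
                = k * x * k⁻¹ * (k * y * k⁻¹ * y⁻¹) * x⁻¹ := by group
              _ = k * x * k⁻¹ * (x⁻¹ * (k * y * k⁻¹ * y⁻¹)) := by
                rw [mul_assoc, hcen _ h1.1 h1.2 x⁻¹ (inv_mem hx.1)]
              _ = _ := by exact (mul_assoc _ _ _).symm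
          rw [e]
          exact mul_mem h2 h1⟩
        inv_mem' := fun {x} hx => ⟨inv_mem hx.1, fun k hk hka hkb => by
          have h1 := hx.2 k hk hka hkb
          have e : k * x⁻¹ * k⁻¹ * x⁻¹⁻¹ = (k * x * k⁻¹ * x⁻¹)⁻¹ := by
            calc k * x⁻¹ * k⁻¹ * x⁻¹⁻¹ = x⁻¹ * (k * x * k⁻¹ * x⁻¹)⁻¹ * x := by group
              _ = _ := by
                rw [← hcen _ (inv_mem h1).1 (inv_mem h1).2 x⁻¹ (inv_mem hx.1),
                  inv_mul_cancel_right]
          rw [e]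
          exact inv_mem h1⟩ }
    have hZR : ∀ x ∈ Zq, x ∈ R := fun x hx =>
      ⟨hx.1, fun k hk hka _ => mul_mem (hZn k hk hka x hx) (inv_mem hx)⟩
    have hqR : q ∈ R := by
      refine ⟨hq, fun k hk hka hkb => ?_⟩
      have hkq := hQn k hk hka q hq
      have hks : k * s * k⁻¹ = k * q * k⁻¹ * d := by
        rw [he, show k * (q * d) * k⁻¹ = k * q * k⁻¹ * (k * d * k⁻¹) by group, hdk k hk hka hkb]
      have h1 : k * s * k⁻¹ ∈ S := h.closed.2 s hs k (hks ▸ mul_mem hkq.1 hdT)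
      have h2 : k * q * k⁻¹ * q⁻¹ ∈ S := by
        rw [show k * q * k⁻¹ * q⁻¹ = k * q * k⁻¹ * d * (q * d)⁻¹ by group, ← hks, ← he]
        exact mul_mem h1 (inv_mem hs)
      have h3 : k * q * k⁻¹ * q⁻¹ ∈ Q := mul_mem hkq (inv_mem hq)
      exact ⟨h3, hZ _ ⟨h2, h3.2⟩⟩
    rcases hirr R (fun x hx => hx.1) (fun x hx g hg hgx => by
        by_cases hx1 : x = 1
        · rw [hx1, mul_one, mul_inv_cancel]; exact one_mem R
        have hga := hfus x hx.1 hx1 g hgx
        obtain ⟨p, hp', hpb⟩ := hQtr b (g • b) hb fun e => hb (smul_left_cancel g (e.trans hga.symm))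
        have hlK : p⁻¹ * g ∈ K := mul_mem (inv_mem hp'.2) hg
        have hla : (p⁻¹ * g) • a = a := by rw [mul_smul, hga, inv_smul_eq_iff, hQfix p hp']
        have hlb : (p⁻¹ * g) • b = b := by rw [mul_smul, inv_smul_eq_iff, hpb]
        have e1 := hx.2 _ hlK hla hlb
        rw [show g * x * g⁻¹ = p * (p⁻¹ * g * x * (p⁻¹ * g)⁻¹ * x⁻¹) * p⁻¹ *
          (p * x * p⁻¹ * x⁻¹) * x by group]
        exact mul_mem (mul_mem (hZR _ (hZn p hp'.2 (hQfix p hp') _ e1))
          (hZR _ (hcommZ p hp' x hx.1))) hx)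
      (fun x hx h2 => hZR x ⟨hx, h2⟩) with hall | hR2
    · have hone : ∀ k ∈ K, k • a = a → k • b = b → k = 1 := fun k hk hka hkb =>
        htriv k hk hka hkb fun x hx => (hall x hx).2 k hk hka hkb
      obtain ⟨k, hk, hkv⟩ := hclassS v hvK (Invol.mul_self_eq_one hv2) (Invol.ne_one hv2) u hu hu2
      have huQ : u ∈ Q := ⟨h.closed.1 hu, huK⟩
      have hka := hfus u huQ (Invol.ne_one hu2) k (hkv ▸ ⟨h.closed.1 hv, hvK⟩)
      obtain ⟨p, hp', hpb⟩ := hQtr b (k • b) hb fun e => hb (smul_left_cancel k (e.trans hka.symm))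
      have hkp : k = p := (inv_mul_eq_one.1 (hone (p⁻¹ * k) (mul_mem (inv_mem hp'.2) hk)
        (by rw [mul_smul, hka, inv_smul_eq_iff, hQfix p hp'])
        (by rw [mul_smul, inv_smul_eq_iff, hpb]))).symm
      refine huv ?_
      rw [← hkv, hkp, ← hcen u huQ (Invol.mul_self_eq_one hu2) p hp', mul_inv_cancel_right]
    · exact hq2 (hR2 q hqR)
  have hSQ : ∀ s ∈ S, s ∈ Q := fun s hs => ⟨h.closed.1 hs, hSK s hs⟩
  refine ⟨hres hSK, h3, hclassS, Or.inr ⟨fun s hs => hZ s ⟨hs, hSK s hs⟩, hinvS,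
    fun x hx s hs => (hcen s (hSQ s hs) (hZ s ⟨hs, hSK s hs⟩) x hx).symm⟩⟩

end ImageHyp

end CfsgLib.Criterion.ClosedOvergroup
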