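import Cfsg.Agent.Criterion.Action.QuatFusion
import Cfsg.Agent.CommClosed.Induction
import Cfsg.Agent.Invol.FocalTransfer
import Mathlib.GroupTheory.Nilpotent

/-!
A strongly closed 2-subgroup with one involution is the Sylow subgroup of its normal closure.
-/

set_option autoImplicit false
set_option linter.unusedSectionVars false
set_option linter.style.haveILetI false

namespace CfsgLib.Criterion.QuatClosed

open Subgroup
open scoped Pointwise

universe u

variable {G : Type u} [Group G] [Finite G]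

/-- All conjugates of powers of `x` lying in the Sylow subgroup lie in `S`. -/
def Land (T : Sylow 2 G) (S : Subgroup G) (x : G) : Prop :=
  ∀ (k : ℕ) (a : G), a * x ^ k * a⁻¹ ∈ T → a * x ^ k * a⁻¹ ∈ S

/-- Transfer into a section above `S` kills a group generated by conjugates of elements of `S`. -/
theorem transfer_false {T : Sylow 2 G} {S : Subgroup G} {A : Type*} [CommGroup A]
    (φ : (T : Subgroup G) →* A) (hS : ∀ s : (T : Subgroup G), (s : G) ∈ S → φ s = 1)
    (hgen : closure {x | Land T S x} = ⊤) {y : G} (hy : y ∈ (T : Subgroup G)) (hne : φ ⟨y, hy⟩ ≠ 1)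
    (key : ∀ (k : ℕ) (g₀ : G) (h : g₀⁻¹ * y ^ k * g₀ ∈ (T : Subgroup G)),
      φ ⟨_, h⟩ = φ ⟨y, hy⟩ ^ k) : False := by
  classical
  haveI : Fact (Nat.Prime 2) := ⟨Nat.prime_two⟩
  have hk : closure {x | Land T S x} ≤ (MonoidHom.transfer φ).ker := (closure_le _).2 fun x hx => by
    let := (T : Subgroup G).fintypeQuotientOfFiniteIndex
    rw [SetLike.mem_coe, MonoidHom.mem_ker, MonoidHom.transfer_eq_prod_quotient_orbitRel_zpowers_quot]
    refine Finset.prod_eq_one fun q _ => hS ⟨_, _⟩ ?_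
    have h := hx (Function.minimalPeriod (x • ·) q.out) (q.out.out)⁻¹
    rw [inv_inv] at h
    exact h (QuotientGroup.out_conj_pow_minimalPeriod_mem (T : Subgroup G) x q.out)
  obtain ⟨j, hj⟩ := IsPGroup.iff_orderOf.1 T.2 ⟨y, hy⟩
  rw [Subgroup.orderOf_mk] at hj
  exact FocalTransfer.transfer_ne_one φ (Nat.prime_two.coprime_iff_not_dvd.2 T.not_dvd_index) hy
    ⟨j, hj⟩ hne key (MonoidHom.mem_ker.1 (hk (hgen ▸ mem_top y)))

namespace Quat

variable {T : Sylow 2 G} {S : Subgroup G} {z : G} (hQ : Quat T S z)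
include hQ

/-- Conjugation fixing an axis is conjugation in the Sylow subgroup up to elements centralizing
`S`. -/
theorem exists_split {c : G} (hc : Axis T S z c) {y l : G} (hy : y ∈ T) (hl : l ∈ fixAxis c)
    (hy' : l * y * l⁻¹ ∈ T) : ∃ t ∈ T, ∀ s ∈ S,
      s * ((t * y * t⁻¹)⁻¹ * (l * y * l⁻¹)) = (t * y * t⁻¹)⁻¹ * (l * y * l⁻¹) * s := by
  haveI : Fact (Nat.Prime 2) := ⟨Nat.prime_two⟩
  set L := fixAxis c with hL
  have hTL : (T : Subgroup G) ≤ L := fun t ht => hc.fix t ht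
  set f := QuotientGroup.mk' (Cfsg.oddCore ↥L) with hf
  have hfs : Function.Surjective f := QuotientGroup.mk'_surjective _
  have hinj : ∀ x : L, (x : G) ∈ T → f x = 1 → x = 1 := fun x hxT hx => Subtype.ext
    (eq_one_of_two_odd T hxT (by
      rw [Subgroup.orderOf_coe]
      exact IsoApps.odd_of_mem_oddCore ((QuotientGroup.eq_one_iff x).1 hx)))
  set Sb := (S.subgroupOf L).map f with hSb
  haveI hSbn : Sb.Normal := ⟨by
    rintro _ ⟨s, hs, rfl⟩ q
    obtain ⟨g, rfl⟩ := hfs q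
    obtain ⟨s', hs', o, ho, hoe⟩ := hQ.axis_normal hc g.2 hs
    refine ⟨⟨s', hTL (hQ.le hs')⟩, hs', ?_⟩
    rw [← map_inv, ← map_mul, ← map_mul, ← inv_mul_eq_one, ← map_inv, ← map_mul]
    refine (QuotientGroup.eq_one_iff _).2 ?_
    rw [show (⟨s', hTL (hQ.le hs')⟩ : L)⁻¹ * (g * s * g⁻¹) = o from Subtype.ext hoe.symm]
    exact ho⟩
  have hzL : z ∈ L := hTL (hQ.le hQ.one.mem)
  have hcL : c ∈ L := hTL (hQ.le hc.mem)
  have hone : One Sb (f ⟨z, hzL⟩) := by
    refine ⟨mem_map_of_mem f hQ.one.mem, fun h => hQ.one.ne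
      (congrArg Subtype.val (hinj _ (hQ.le hQ.one.mem) h)), ?_, ?_⟩
    · rw [← map_mul, show (⟨z, hzL⟩ : L) * ⟨z, hzL⟩ = 1 from Subtype.ext hQ.one.sq, map_one]
    · rintro _ ⟨x, hx, rfl⟩ h
      rw [← map_mul] at h
      rcases hQ.one.uniq _ hx (congrArg Subtype.val
        (hinj _ (hQ.le (show (x : G) * x ∈ S from S.mul_mem hx hx)) h)) with e | e
      · exact Or.inl (by rw [show x = 1 from Subtype.ext e, map_one])
      · exact Or.inr (congrArg f (Subtype.ext e))
  have hpS : IsPGroup 2 Sb := (hQ.pgroup.comap_subtype (K := L)).map f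
  set cb := f ⟨c, hcL⟩ with hcb
  set A := Sb ⊓ centralizer ({cb} : Set (↥L ⧸ Cfsg.oddCore ↥L)) with hA
  have honeA : One A (f ⟨z, hzL⟩) := by
    refine ⟨⟨hone.mem, mem_centralizer_singleton_iff.2 ?_⟩, hone.ne, hone.sq,
      fun x hx h => hone.uniq x hx.1 h⟩
    rw [hcb, ← map_mul, ← map_mul]
    exact congrArg f (Subtype.ext (hQ.central c).symm)
  have hab : ∀ x ∈ A, ∀ x' ∈ A, x * x' = x' * x := honeA.comm_of_central
    (hpS.to_le inf_le_left) ⟨mem_map_of_mem f hc.mem, mem_centralizer_singleton_iff.2 rfl⟩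
    (show cb * cb = _ by rw [hcb, ← map_mul]; exact congrArg f (Subtype.ext hc.sq))
    (fun s hs => mem_centralizer_singleton_iff.1 hs.2)
  set W := (centralizer (Sb : Set (↥L ⧸ Cfsg.oddCore ↥L))).comap f with hW
  have hodd : ∀ k : L, Odd (orderOf k) → k ∈ W := by
    intro k hk
    set q := f k with hq
    have hqo : Odd (orderOf q) := hk.of_dvd_nat (orderOf_map_dvd f k)
    have hqc : q * cb = cb * q := by
      rw [hq, hcb, ← map_mul, ← map_mul]
      exact congrArg f (Subtype.ext (comm_of_odd_mv (by rwa [Subgroup.orderOf_coe]) k.2))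
    have hqA : ∀ x ∈ A, q * x * q⁻¹ ∈ A := fun x hx => by
      refine ⟨hSbn.conj_mem x hx.1 q, mem_centralizer_singleton_iff.2 ?_⟩
      have h1 : x * cb = cb * x := mem_centralizer_singleton_iff.1 hx.2
      calc q * x * q⁻¹ * cb = q * (x * cb) * q⁻¹ := by
            rw [mul_assoc, ((show Commute q cb from hqc).inv_left).eq]; group
        _ = cb * (q * x * q⁻¹) := by rw [h1, ← mul_assoc, hqc]; group
    have hcA : ∀ a ∈ A, q * a = a * q := hone.comm_of_odd hpS inf_le_left hab hqo hqA (by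
      rw [hq, ← map_mul, ← map_mul]; exact congrArg f (Subtype.ext (hQ.central _)))
    refine mem_comap.2 (mem_centralizer_iff.2 fun s hsb => ?_)
    have hs : s ∈ Sb := hsb
    by_cases hsc : s * cb = cb * s
    · exact (hcA s ⟨hs, mem_centralizer_singleton_iff.2 hsc⟩).symm
    have hinv : ∀ x ∈ Sb, x * cb ≠ cb * x → x * cb * x⁻¹ = cb⁻¹ := by
      intro x hx hxc
      obtain ⟨g, rfl⟩ := hfs x
      rcases g.2 with h | h
      · refine absurd ?_ hxc
        rw [hcb, ← map_mul, ← map_mul]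
        exact congrArg f (Subtype.ext (mul_inv_eq_iff_eq_mul.1 h))
      · rw [hcb, ← map_inv, ← map_mul, ← map_mul, ← map_inv]
        exact congrArg f (Subtype.ext h)
    have hs' : q * s * q⁻¹ * cb ≠ cb * (q * s * q⁻¹) := fun h => hsc (by
      have h1 : q⁻¹ * cb * q = cb := by rw [mul_assoc, ← hqc, inv_mul_cancel_left]
      calc s * cb = q⁻¹ * (q * s * q⁻¹ * cb) * q := by
            rw [show q⁻¹ * (q * s * q⁻¹ * cb) * q = s * (q⁻¹ * cb * q) by group, h1]
        _ = cb * s := by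
            rw [h, show q⁻¹ * (cb * (q * s * q⁻¹)) * q = q⁻¹ * cb * q * s by group, h1])
    set a := s⁻¹ * (q * s * q⁻¹) with ha
    have haA : a ∈ A := by
      refine ⟨Sb.mul_mem (Sb.inv_mem hs) (hSbn.conj_mem s hs q), mem_centralizer_singleton_iff.2 ?_⟩
      have h2 : a * cb * a⁻¹ = cb := by
        rw [ha, show s⁻¹ * (q * s * q⁻¹) * cb * (s⁻¹ * (q * s * q⁻¹))⁻¹ =
          s⁻¹ * (q * s * q⁻¹ * cb * (q * s * q⁻¹)⁻¹) * s by group,
          hinv _ (hSbn.conj_mem s hs q) hs', ← hinv s hs hsc]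
        group
      exact mul_inv_eq_iff_eq_mul.1 h2
    have hpow : ∀ n : ℕ, q ^ n * s * (q ^ n)⁻¹ = s * a ^ n := by
      intro n
      induction n with
      | zero => simp
      | succ n hn =>
        rw [pow_succ', show q * q ^ n * s * (q * q ^ n)⁻¹ = q * (q ^ n * s * (q ^ n)⁻¹) * q⁻¹ by group,
          hn, pow_succ' a, show q * (s * a ^ n) * q⁻¹ = q * s * q⁻¹ * (q * a ^ n * q⁻¹) by group,
          ((show Commute q a from hcA a haA).pow_right n).eq, mul_inv_cancel_right, ← mul_assoc s a,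
          show s * a = q * s * q⁻¹ by rw [ha, mul_inv_cancel_left]]
    have h1 := hpow (orderOf q)
    rw [pow_orderOf_eq_one, inv_one, one_mul, mul_one, left_eq_mul] at h1
    obtain ⟨j, hj⟩ := IsPGroup.iff_orderOf.1 hpS ⟨a, haA.1⟩
    rw [Subgroup.orderOf_mk] at hj
    have ha1 : a = 1 := orderOf_eq_one_iff.1 (Nat.eq_one_of_dvd_coprimes
      ((Nat.coprime_two_right.2 hqo).pow_right j) (orderOf_dvd_of_pow_eq_one h1) hj.dvd)
    rw [ha, inv_mul_eq_one] at ha1
    exact (mul_inv_eq_iff_eq_mul.1 ha1.symm).symm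
  haveI hWn : W.Normal := (Subgroup.normal_centralizer (H := Sb)).comap f
  have hP : IsPGroup 2 (↥L ⧸ W) := by
    intro x
    obtain ⟨g, rfl⟩ := QuotientGroup.mk'_surjective W x
    obtain ⟨j, m, hm, he⟩ := Nat.exists_eq_two_pow_mul_odd (orderOf_pos g).ne'
    refine ⟨j, ?_⟩
    rw [← map_pow]
    exact (QuotientGroup.eq_one_iff _).2 (hodd _ (hm.of_dvd_nat
      (orderOf_dvd_of_pow_eq_one (by rw [← pow_mul, ← he, pow_orderOf_eq_one]))))
  have htop : (((T.subtype hTL).mapSurjective (QuotientGroup.mk'_surjective W) : Sylow 2 (↥L ⧸ W)) :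
      Subgroup (↥L ⧸ W)) = ⊤ :=
    ((Sylow.is_maximal' _) (hP.to_subgroup ⊤) le_top).symm
  have hlm : QuotientGroup.mk' W ⟨l, hl⟩ ∈ ((T.subtype hTL : Sylow 2 L) : Subgroup L).map
      (QuotientGroup.mk' W) := by
    rw [← Sylow.coe_mapSurjective (QuotientGroup.mk'_surjective W), htop]
    exact mem_top _
  obtain ⟨t, ht, hte⟩ := hlm
  rw [← inv_mul_eq_one, ← map_inv, ← map_mul] at hte
  set w := t⁻¹ * ⟨l, hl⟩ with hw
  have hwW : w ∈ W := (QuotientGroup.eq_one_iff _).1 hte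
  have htT : (t : G) ∈ (T : Subgroup G) := ht
  set x : L := (⟨y, hTL hy⟩ : L)⁻¹ * (w * ⟨y, hTL hy⟩ * w⁻¹) with hx
  have hxW : x ∈ W := by
    rw [hx, show (⟨y, hTL hy⟩ : L)⁻¹ * (w * ⟨y, hTL hy⟩ * w⁻¹) =
      (⟨y, hTL hy⟩ : L)⁻¹ * w * (⟨y, hTL hy⟩ : L)⁻¹⁻¹ * w⁻¹ by group]
    exact mul_mem (hWn.conj_mem w hwW _) (inv_mem hwW)
  have hxv : (x : G) = y⁻¹ * ((t : G)⁻¹ * (l * y * l⁻¹) * t) := by
    rw [hx, hw]; simp [mul_assoc]
  have hxT : (x : G) ∈ (T : Subgroup G) := by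
    rw [hxv]
    exact mul_mem (inv_mem hy) (mul_mem (mul_mem (inv_mem htT) hy') htT)
  refine ⟨t, htT, ?_⟩
  have hxc : ∀ s ∈ S, s * (x : G) = x * s := fun s hs => by
    have h1 := mem_centralizer_iff.1 (mem_comap.1 hxW) _
      (mem_map_of_mem f (show (⟨s, hTL (hQ.le hs)⟩ : L) ∈ S.subgroupOf L from hs))
    rw [← map_mul, ← map_mul, ← inv_mul_eq_one, ← map_inv, ← map_mul] at h1
    have h2 := hinj _ (show _ ∈ (T : Subgroup G) from mul_mem
      (inv_mem (mul_mem (hQ.le hs) hxT)) (mul_mem hxT (hQ.le hs))) h1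
    exact inv_mul_eq_one.1 (congrArg Subtype.val h2)
  intro s hs
  have he : ((t : G) * y * (t : G)⁻¹)⁻¹ * (l * y * l⁻¹) = t * x * (t : G)⁻¹ := by
    rw [hxv]; group
  rw [he]
  have h3 := hxc _ (hQ.conj_mem (inv_mem htT) hs)
  rw [inv_inv] at h3
  calc s * (t * x * (t : G)⁻¹) = t * ((t : G)⁻¹ * s * t * x) * (t : G)⁻¹ := by group
    _ = t * (x * ((t : G)⁻¹ * s * t)) * (t : G)⁻¹ := by rw [h3]
    _ = _ := by group

/-- A Sylow subgroup whose group is generated by conjugates of elements of `S`. -/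
theorem eq_of_gen {c : G} (hc : Axis T S z c)
    (hCZ : ∀ y ∈ T, (∀ s ∈ S, s * y = y * s) → ∀ g : G, g * y = y * g)
    (hgen : closure {x | Land T S x} = ⊤) : S = (T : Subgroup G) := by
  haveI : Fact (Nat.Prime 2) := ⟨Nat.prime_two⟩
  set H := (T : Subgroup G) with hH
  set S₀ := S.subgroupOf H with hS₀
  set M₀ := S₀ ⊔ Subgroup.center H with hM₀
  have hM : M₀ = ⊤ := by
    by_contra hne
    obtain ⟨M, hMc, hM0⟩ := (eq_top_or_exists_le_coatom M₀).resolve_left hne
    haveI : Group.IsNilpotent H := T.2.isNilpotent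
    haveI hMn : M.Normal := Subgroup.NormalizerCondition.normal_of_coatom M
      Group.normalizerCondition_of_isNilpotent hMc
    set π := QuotientGroup.mk' M with hπ
    have hgenq : ∀ q : H ⧸ M, q ≠ 1 → zpowers q = ⊤ := by
      intro q hq
      rw [← comap_injective (QuotientGroup.mk'_surjective M) |>.eq_iff, comap_top]
      refine hMc.2 _ (lt_of_le_of_ne (fun x hx => ?_) fun e => hq ?_)
      · rw [mem_comap, show QuotientGroup.mk' M x = 1 from (QuotientGroup.eq_one_iff x).2 hx]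
        exact one_mem _
      · obtain ⟨x, rfl⟩ := QuotientGroup.mk'_surjective M q
        exact (QuotientGroup.eq_one_iff x).2 (e.symm ▸ mem_zpowers _)
    have hqr : ∀ q r : H ⧸ M, q ≠ 1 → r ≠ 1 → q = r := by
      have hp : IsPGroup 2 (H ⧸ M) := T.2.to_quotient M
      intro q r hq hr
      haveI : Nontrivial (H ⧸ M) := ⟨⟨q, 1, hq⟩⟩
      obtain ⟨n, hn0, hn⟩ := hp.nontrivial_iff_card.1 inferInstance
      obtain ⟨v, hv⟩ := exists_prime_orderOf_dvd_card' (G := H ⧸ M) 2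
        (by rw [hn]; exact dvd_pow_self 2 hn0.ne')
      have hvv : v * v = 1 := by rw [← sq, ← hv, pow_orderOf_eq_one]
      have hall : ∀ x : H ⧸ M, x ≠ 1 → x = v := fun x hx => by
        have hv1 : v ≠ 1 := fun e => by rw [e, orderOf_one] at hv; exact absurd hv (by decide)
        obtain ⟨i, rfl⟩ := mem_zpowers_iff.1 (show x ∈ zpowers v by rw [hgenq v hv1]; exact mem_top x)
        rcases Int.even_or_odd' i with ⟨m, rfl | rfl⟩
        · exact absurd (by rw [zpow_mul, zpow_two, hvv, one_zpow]) hx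
        · rw [zpow_add, zpow_mul, zpow_two, hvv, one_zpow, one_mul, zpow_one]
      rw [hall q hq, hall r hr]
    let P : G → Prop := fun y => ∃ h : y ∈ H, (⟨y, h⟩ : H) ∈ M
    have hPiff : ∀ y (h : y ∈ H), P y ↔ (⟨y, h⟩ : H) ∈ M := fun y h =>
      ⟨fun ⟨_, h'⟩ => h', fun h' => ⟨h, h'⟩⟩
    have hSM : ∀ (s : H), (s : G) ∈ S → s ∈ M := fun s hs => hM0 (mem_sup_left hs)
    have hZM : ∀ (y : H), (∀ s ∈ S, s * (y : G) = y * s) → y ∈ M := fun y hy =>
      hM0 (mem_sup_right (mem_center_iff.2 fun g => Subtype.ext (hCZ y y.2 hy g)))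
    have hzM : (⟨z, hQ.le hQ.one.mem⟩ : H) ∈ M := hSM _ hQ.one.mem
    have hP : LocInv T S z c P := by
      refine ⟨?_, ?_, ?_, ?_⟩
      · intro y l hy hl hy'
        obtain ⟨t, ht, htc⟩ := hQ.exists_split hc hy hl hy'
        rw [hPiff y hy, hPiff _ hy']
        set ty : H := ⟨t, ht⟩ * ⟨y, hy⟩ * ⟨t, ht⟩⁻¹
        have h1 : ty⁻¹ * ⟨l * y * l⁻¹, hy'⟩ ∈ M := hZM _ htc
        constructor
        · intro h
          have := M.mul_mem (hMn.conj_mem _ h ⟨t, ht⟩) h1
          rwa [mul_inv_cancel_left] at this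
        · intro h
          have h2 : ty ∈ M := by
            have := M.mul_mem h (M.inv_mem h1)
            rwa [mul_inv_rev, inv_inv, mul_inv_cancel_left] at this
          have := hMn.conj_mem _ h2 ⟨t, ht⟩⁻¹
          simpa [ty, mul_assoc] using this
      · intro y hy
        have hyz : y * z ∈ H := mul_mem hy (hQ.le hQ.one.mem)
        rw [hPiff y hy, hPiff _ hyz]
        have e : (⟨y, hy⟩ : H) * ⟨z, hQ.le hQ.one.mem⟩ ∈ M ↔ (⟨y, hy⟩ : H) ∈ M :=
          M.mul_mem_cancel_right hzM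
        exact e
      · intro y y' hy hy' h h'
        rw [hPiff y hy, hPiff y' hy']
        exact iff_of_true (hZM ⟨y, hy⟩ h) (hZM ⟨y', hy'⟩ h')
      · intro e _ _ _ w hw w' hw' y y' hy hy' _ _ _ _ hyy _
        have h1 : w * y ∈ H := mul_mem (hQ.le hw) hy
        have h2 : w' * y' ∈ H := mul_mem (hQ.le hw') hy'
        rw [hPiff _ h1, hPiff _ h2]
        rw [hPiff y hy, hPiff y' hy'] at hyy
        have e1 : (⟨w, hQ.le hw⟩ : H) * ⟨y, hy⟩ ∈ M ↔ (⟨y, hy⟩ : H) ∈ M :=
          M.mul_mem_cancel_left (hSM _ hw)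
        have e2 : (⟨w', hQ.le hw'⟩ : H) * ⟨y', hy'⟩ ∈ M ↔ (⟨y', hy'⟩ : H) ∈ M :=
          M.mul_mem_cancel_left (hSM _ hw')
        exact e1.trans (hyy.trans e2.symm)
    obtain ⟨y, -, hy⟩ := SetLike.exists_of_lt (lt_top_iff_ne_top.2 hMc.1)
    letI : CommGroup (H ⧸ M) :=
      { (inferInstance : Group (H ⧸ M)) with
        mul_comm := fun a b => by
          rcases eq_or_ne a 1 with rfl | ha
          · rw [one_mul, mul_one]
          rcases eq_or_ne b 1 with rfl | hb
          · rw [one_mul, mul_one]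
          rw [hqr a b ha hb] }
    refine transfer_false π (fun s hs => (QuotientGroup.eq_one_iff s).2 (hSM s hs)) hgen y.2
      (fun h => hy ((QuotientGroup.eq_one_iff y).1 h)) fun k g₀ h => ?_
    have hk : (y : G) ^ k ∈ H := pow_mem y.2 k
    have hiff := hQ.fusion hc hP _ g₀⁻¹ ((y : G) ^ k) rfl hk (by rwa [inv_inv])
    rw [inv_inv, hPiff _ hk, hPiff _ h] at hiff
    rw [← map_pow, show (⟨y, y.2⟩ : H) ^ k = ⟨(y : G) ^ k, hk⟩ from rfl]
    by_cases h1 : (⟨(y : G) ^ k, hk⟩ : H) ∈ M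
    · exact ((QuotientGroup.eq_one_iff _).2 (hiff.1 h1)).trans ((QuotientGroup.eq_one_iff _).2 h1).symm
    · exact hqr _ _ (fun e => h1 (hiff.2 ((QuotientGroup.eq_one_iff _).1 e)))
        fun e => h1 ((QuotientGroup.eq_one_iff _).1 e)
  -- the Sylow subgroup is `S` times central elements
  haveI hSn : S₀.Normal := ⟨fun x hx g => hQ.conj_mem g.2 hx⟩
  refine le_antisymm hQ.le fun y hy => ?_
  by_contra hyS
  have hdec : ∀ x : H, ∃ a ∈ Subgroup.center H, QuotientGroup.mk' S₀ x = QuotientGroup.mk' S₀ a := by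
    intro x
    have hx : x ∈ M₀ := hM ▸ mem_top x
    obtain ⟨s, hs, a, ha, rfl⟩ := (mem_sup_of_normal_left (t := Subgroup.center H)).1 hx
    exact ⟨a, ha, by rw [map_mul, show QuotientGroup.mk' S₀ s = 1 from
      (QuotientGroup.eq_one_iff s).2 hs, one_mul]⟩
  obtain ⟨a, ha, hae⟩ := hdec ⟨y, hy⟩
  letI : CommGroup (H ⧸ S₀) :=
    { (inferInstance : Group (H ⧸ S₀)) with
      mul_comm := fun p q => by
        obtain ⟨x, rfl⟩ := QuotientGroup.mk'_surjective S₀ p
        obtain ⟨x', rfl⟩ := QuotientGroup.mk'_surjective S₀ q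
        obtain ⟨b, hb, hbe⟩ := hdec x'
        rw [hbe, ← map_mul, ← map_mul, mem_center_iff.1 hb] }
  refine transfer_false (QuotientGroup.mk' S₀) (fun s hs => (QuotientGroup.eq_one_iff s).2 hs) hgen
    a.2 (fun h => hyS ?_) fun k g₀ h => ?_
  · rw [show (⟨(a : G), a.2⟩ : H) = a from rfl, ← hae] at h
    exact (QuotientGroup.eq_one_iff (⟨y, hy⟩ : H)).1 h
  · have hac : ∀ g : G, g * (a : G) = a * g := hCZ a a.2 fun s hs =>
      congrArg Subtype.val (mem_center_iff.1 ha ⟨s, hQ.le hs⟩)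
    rw [← map_pow]
    congr 1
    refine Subtype.ext ?_
    show g₀⁻¹ * (a : G) ^ k * g₀ = (a : G) ^ k
    rw [mul_assoc, ← ((show Commute g₀ (a : G) from hac g₀).pow_right k).eq, inv_mul_cancel_left]

/-- Without an odd core the Sylow subgroup of the normal closure is `S`. -/
theorem inf_normalClosure (hO : Cfsg.oddCore G = ⊥) :
    (T : Subgroup G) ⊓ normalClosure (S : Set G) = S := by
  haveI : Fact (Nat.Prime 2) := ⟨Nat.prime_two⟩
  refine le_antisymm ?_ (le_inf hQ.le (subset_normalClosure (s := (S : Set G))))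
  by_cases hab : ∀ x ∈ S, ∀ y ∈ S, x * y = y * x
  · haveI := normal_of_abelian _ G (Nat.lt_succ_self _) hO T S z hQ.closed hQ.one hab
    rw [normalClosure_eq_self]; exact inf_le_right
  push Not at hab
  obtain ⟨c, hc⟩ := hQ.exists_axis hab
  obtain ⟨b₀, hb₀, hb₀c⟩ := hc.nc
  obtain ⟨-, hb₀z⟩ := hQ.one.sq_of_not_comm hQ.pgroup hc.mem hc.sq hb₀ (hc.fix b₀ (hQ.le hb₀)) hb₀c
  let P : G → Prop := fun y => ∀ s ∈ S, s * y = y * s
  have hsplit : ∀ e ∈ S, e * e = z → c * e ≠ e * c → ∀ w ∈ S, ∀ y : G, y * c = c * y →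
      y * e = e * y → (P (w * y) ↔ ((w = 1 ∨ w = z) ∧ P y)) := by
    intro e he hee hce w hw y hyc hye
    constructor
    · intro h
      have hcomm : ∀ d ∈ S, y * d = d * y → w * d = d * w := fun d hd hyd => by
        have h1 := h d hd
        rw [← mul_assoc, mul_assoc w y d, hyd, ← mul_assoc] at h1
        exact (mul_right_cancel h1).symm
      have hw' := hQ.one.eq_of_comm_axes hQ.pgroup hc.mem he hc.sq hee hce hw
        (hcomm c hc.mem hyc) (hcomm e he hye)
      refine ⟨hw', fun s hs => ?_⟩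
      rcases hw' with rfl | rfl
      · simpa using h s hs
      · have h1 := h s hs
        rw [← mul_assoc, hQ.central s, mul_assoc, mul_assoc] at h1
        exact mul_left_cancel h1
    · rintro ⟨hw', hy⟩ s hs
      rcases hw' with rfl | rfl
      · simpa using hy s hs
      · rw [← mul_assoc, hQ.central s, mul_assoc, hy s hs, ← mul_assoc]
  have hP : LocInv T S z c P := by
    refine ⟨fun y l hy hl hy' => ⟨fun h => hQ.comm_of_axis hc hy h hl hy', fun h => ?_⟩,
      fun y _ => ?_, fun y y' _ _ h h' => iff_of_true h h', ?_⟩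
    · have h1 := hQ.comm_of_axis hc hy' h (inv_mem hl)
      simp only [inv_inv, show l⁻¹ * (l * y * l⁻¹) * l = y by group] at h1
      exact h1 hy
    · refine forall₂_congr fun s _ => ?_
      rw [← mul_assoc, mul_assoc y z s, ← hQ.central s, ← mul_assoc]
      exact mul_left_inj z
    · intro e he hee hce w hw w' hw' y y' _ _ hyc hye hyc' hye' hyy hww
      rw [hsplit e he hee hce w hw y hyc hye, hsplit e he hee hce w' hw' y' hyc' hye', hyy, hww]
  set X := normalClosure (S : Set G) with hX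
  have hSX : S ≤ X := subset_normalClosure (s := (S : Set G))
  set N₀ := X ⊓ centralizer (X : Set G) with hN₀
  set Zc := (T : Subgroup G) ⊓ N₀ with hZc
  haveI : N₀.Normal := Subgroup.normal_inf_normal _ _
  obtain ⟨TN, hTN⟩ := CommClosed.sylow_trace N₀ T
  haveI hZn : Zc.Normal := ⟨fun x hx g => by
    have hy : g * x * g⁻¹ ∈ N₀ := ‹N₀.Normal›.conj_mem x hx.2 g
    refine ⟨?_, hy⟩
    obtain ⟨j, hj⟩ := T.2 ⟨x, hx.1⟩
    have hp : IsPGroup 2 (zpowers (⟨g * x * g⁻¹, hy⟩ : N₀)) := IsPGroup.of_card (n := Nat.log 2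
      (orderOf (⟨g * x * g⁻¹, hy⟩ : N₀))) (by
      have h1 : orderOf (⟨g * x * g⁻¹, hy⟩ : N₀) ∣ 2 ^ j := orderOf_dvd_of_pow_eq_one (Subtype.ext (by
        show (g * x * g⁻¹) ^ 2 ^ j = 1
        rw [conj_pow, show x ^ 2 ^ j = 1 from congrArg Subtype.val hj, mul_one, mul_inv_cancel]))
      obtain ⟨i, -, hi⟩ := (Nat.dvd_prime_pow Nat.prime_two).1 h1
      rw [Nat.card_zpowers, hi, Nat.log_pow (by norm_num)])
    obtain ⟨R, hR⟩ := hp.exists_le_sylow
    obtain ⟨a, rfl⟩ := MulAction.exists_smul_eq N₀ TN R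
    have h2 := hR (mem_zpowers _)
    rw [Sylow.coe_subgroup_smul] at h2
    obtain ⟨v, hv, hve⟩ := h2
    have h3 : (a : G) * v * (a : G)⁻¹ = g * x * g⁻¹ := congrArg Subtype.val hve
    rw [mem_centralizer_iff.1 v.2.2 a a.2.1, mul_inv_cancel_right] at h3
    rw [SetLike.mem_coe, hTN, mem_subgroupOf, h3] at hv
    exact hv⟩
  have hzX : z ∈ Zc := ⟨hQ.le hQ.one.mem, hSX hQ.one.mem,
    mem_centralizer_iff.2 fun g _ => hQ.central g⟩
  have hSZ : ∀ s ∈ S, s ∈ Zc → s = 1 ∨ s = z := fun s hs hsZ =>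
    hQ.one.eq_of_comm_axes hQ.pgroup hc.mem hb₀ hc.sq hb₀z (fun e => hb₀c e.symm) hs
      (mem_centralizer_iff.1 hsZ.2.2 c (hSX hc.mem)).symm
      (mem_centralizer_iff.1 hsZ.2.2 b₀ (hSX hb₀)).symm
  set C := (T : Subgroup G) ⊓ centralizer (S : Set G) with hC
  have hCcl : Cfsg.IsStronglyClosed C (T : Subgroup G) := by
    refine ⟨inf_le_left, fun x hx g hg => ⟨hg, mem_centralizer_iff.2 ?_⟩⟩
    exact (hQ.fusion hc hP _ g x rfl hx.1 hg).1 fun s hs => mem_centralizer_iff.1 hx.2 s hs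
  obtain ⟨TX, hTX⟩ := CommClosed.sylow_trace X T
  have hOX : Cfsg.oddCore ↥X = ⊥ := oddCore_normal X hO
  set π := QuotientGroup.mk' Zc with hπ
  have hπs := QuotientGroup.mk'_surjective Zc
  have hπ1 : ∀ x, π x = 1 ↔ x ∈ Zc := fun x => QuotientGroup.eq_one_iff x
  have hodd : ∀ w ∈ X, π w ∈ Cfsg.oddCore (G ⧸ Zc) → w ∈ Zc := by
    intro w hw hwO
    set A := Zc.subgroupOf X
    set φ := π.comp X.subtype
    have hker : φ.ker = A := by rw [← MonoidHom.comap_ker, hπ, QuotientGroup.ker_mk']; rfl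
    have hA : IsPGroup 2 A := (T.2.to_le inf_le_left).comap_subtype
    have hq : Cfsg.oddCore (↥X ⧸ A) = ⊥ := oddCore_quotient_two A hA hOX fun k _ a ha =>
      Subtype.ext (mem_centralizer_iff.1 (mem_subgroupOf.1 ha).2.2 k k.2)
    set K := (Cfsg.oddCore (G ⧸ Zc)).comap φ
    haveI : K.Normal := (Solvable.pPrimeCore_normal (G := G ⧸ Zc) 2).comap φ
    have hle : K.map (QuotientGroup.mk' A) ≤ Cfsg.oddCore (↥X ⧸ A) := by
      refine Solvable.le_pPrimeCore 2 (Normal.map inferInstance _ (QuotientGroup.mk'_surjective A))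
        (Nat.coprime_two_right.2 ?_)
      rw [← relIndex_ker, QuotientGroup.ker_mk', ← hker, relIndex_ker]
      exact LocalB.odd_card_oddCore.of_dvd_nat (card_dvd_of_le (map_comap_le _ _))
    have := hle (mem_map_of_mem _ (show (⟨w, hw⟩ : X) ∈ K from hwO))
    rw [hq, mem_bot] at this
    exact mem_subgroupOf.1 ((QuotientGroup.eq_one_iff _).1 this)
  have hF := CommClosed.families_of_stronglyClosed (T.mapSurjective hπs)
    (S₁ := S.map π) (S₂ := C.map π)
    (by rw [Sylow.coe_mapSurjective]; exact ClosedComplement.stronglyClosed_map T S hQ.closed Zc)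
    (by rw [Sylow.coe_mapSurjective]; exact ClosedComplement.stronglyClosed_map T C hCcl Zc)
    (by
      rintro _ ⟨s, hs, rfl⟩ _ ⟨x, hx, rfl⟩
      rw [← map_mul, ← map_mul, mem_centralizer_iff.1 hx.2 s hs])
    (by
      rw [eq_bot_iff]
      rintro _ ⟨⟨s, hs, rfl⟩, ⟨x, hx, hxe⟩⟩
      have h1 : x⁻¹ * s ∈ Zc := (hπ1 _).1 (by rw [map_mul, map_inv, hxe, inv_mul_cancel])
      have hsC : ∀ s' ∈ S, s' * s = s * s' := fun s' hs' => by
        have h2 : s' * (x⁻¹ * s) = x⁻¹ * s * s' := mem_centralizer_iff.1 h1.2.2 s' (hSX hs')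
        have h3 : s' * x = x * s' := mem_centralizer_iff.1 hx.2 s' hs'
        calc s' * s = s' * x * (x⁻¹ * s) := by group
          _ = x * (s' * (x⁻¹ * s)) := by rw [h3]; group
          _ = _ := by rw [h2]; group
      refine mem_bot.2 ((hπ1 s).2 ?_)
      rcases hQ.one.eq_of_comm_axes hQ.pgroup hc.mem hb₀ hc.sq hb₀z (fun e => hb₀c e.symm) hs
        (hsC c hc.mem).symm (hsC b₀ hb₀).symm with rfl | rfl
      · exact one_mem _
      · exact hzX)
  have hkey : ∀ b ∈ C, b ∈ X → b * b ∈ Zc → b ∈ Zc := by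
    intro b hb hbX hbb
    by_contra hbZ
    have hconj : ∀ x g : G, x ∈ Zc ↔ g * x * g⁻¹ ∈ Zc := fun x g => ⟨fun h => hZn.conj_mem x h g,
      fun h => by simpa [mul_assoc] using hZn.conj_mem _ h g⁻¹⟩
    let Y : Subgroup G :=
      { carrier := {x | ∀ g : G, π x * π (g * b * g⁻¹) = π (g * b * g⁻¹) * π x}
        one_mem' := fun g => by simp
        mul_mem' := fun {x x'} hx hx' g => by
          rw [map_mul π x x', mul_assoc, hx' g, ← mul_assoc, hx g, mul_assoc]
        inv_mem' := fun {x} hx g => by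
          rw [map_inv π x]
          exact ((show Commute (π x) (π (g * b * g⁻¹)) from hx g).inv_left).eq }
    haveI : Y.Normal := ⟨fun x hx a g => by
      have h := congrArg (fun q => π a * q * (π a)⁻¹) (hx (a⁻¹ * g))
      simp only [map_mul, map_inv, mul_inv_rev, inv_inv] at h ⊢
      calc _ = π a * (π x * ((π a)⁻¹ * π g * π b * ((π g)⁻¹ * π a))) * (π a)⁻¹ := by group
        _ = _ := h
        _ = _ := by group⟩
    have hinv : ∀ s ∈ S, s * s = z → s ∈ Y := by
      intro s hs hss g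
      have hs1 : π s ≠ 1 := fun e => by
        rcases hSZ s hs ((hπ1 s).1 e) with rfl | rfl
        · exact hQ.one.ne (by simpa using hss.symm)
        · exact hQ.one.ne (hss.symm.trans hQ.one.sq)
      have hb1 : π (g * b * g⁻¹) ≠ 1 := fun e => hbZ ((hconj b g).2 ((hπ1 _).1 e))
      have h2 : ∀ x : G, π x ≠ 1 → x * x ∈ Zc → orderOf (π x) = 2 := fun x hx hxx =>
        Invol.orderOf_eq_two (by rw [← map_mul]; exact (hπ1 _).2 hxx) hx
      have h := CommClosed.comm_mem_oddCore (G ⧸ Zc) _ _ hF (π s)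
        (CommClosed.self_mem_conjugates (mem_map_of_mem π hs)) (π (g * b * g⁻¹))
        ⟨(π g)⁻¹, b, hb, by simp only [map_mul, map_inv, inv_inv]; group⟩
        (h2 s hs1 (hss ▸ hzX))
        (h2 _ hb1 (by
          rw [show g * b * g⁻¹ * (g * b * g⁻¹) = g * (b * b) * g⁻¹ by group]
          exact (hconj _ g).1 hbb))
      have hbg : g * b * g⁻¹ ∈ X := normalClosure_normal.conj_mem b hbX g
      rw [← map_inv, ← map_inv, ← map_mul, ← map_mul, ← map_mul] at h
      have h3 := (hπ1 _).2 (hodd _ (mul_mem (mul_mem (mul_mem (hSX hs) hbg) (inv_mem (hSX hs)))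
        (inv_mem hbg)) h)
      simp only [map_mul π (s * (g * b * g⁻¹) * s⁻¹), map_mul π (s * (g * b * g⁻¹)),
        map_mul π s, map_inv π s, map_inv π (g * b * g⁻¹)] at h3
      rwa [mul_inv_eq_one, mul_inv_eq_iff_eq_mul] at h3
    have hSY : S ≤ Y := by
      intro s hs
      rcases em (s * c = c * s) with hsc | hsc
      · have hne : s * b₀ * c ≠ c * (s * b₀) := fun e => hb₀c (by
          rw [← mul_assoc c, ← hsc, mul_assoc, mul_assoc] at e
          exact mul_left_cancel e)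
        obtain ⟨-, h1⟩ := hQ.one.sq_of_not_comm hQ.pgroup hc.mem hc.sq (mul_mem hs hb₀)
          (hc.fix _ (hQ.le (mul_mem hs hb₀))) hne
        rw [← mul_inv_cancel_right s b₀]
        exact mul_mem (hinv _ (mul_mem hs hb₀) h1) (inv_mem (hinv b₀ hb₀ hb₀z))
      · exact hinv s hs (hQ.one.sq_of_not_comm hQ.pgroup hc.mem hc.sq hs (hc.fix s (hQ.le hs)) hsc).2
    have hXY : X ≤ Y := normalClosure_le_normal hSY
    have hland : ∀ g : G, g * b * g⁻¹ ∈ C := by
      intro g
      set y := g * b * g⁻¹ with hy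
      have hyX : y ∈ X := normalClosure_normal.conj_mem b hbX g
      obtain ⟨j, hj⟩ := T.2 ⟨b, hb.1⟩
      have hj' : b ^ 2 ^ j = 1 := congrArg Subtype.val hj
      have hp : IsPGroup 2 (zpowers (⟨y, hyX⟩ : X)) := by
        rintro ⟨w, hw⟩
        obtain ⟨i, rfl⟩ := mem_zpowers_iff.1 hw
        refine ⟨j, Subtype.ext (Subtype.ext (show (y ^ i) ^ 2 ^ j = 1 from ?_))⟩
        rw [← zpow_natCast, zpow_comm, zpow_natCast, hy, conj_pow, hj', mul_one, mul_inv_cancel,
          one_zpow]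
      obtain ⟨a, ha⟩ := exists_into TX hp
      have ha' : a * ⟨y, hyX⟩ * a⁻¹ ∈ (TX : Subgroup X) := ha _ (mem_zpowers _)
      rw [hTX, mem_subgroupOf] at ha'
      have haT : (a : G) * y * (a : G)⁻¹ ∈ (T : Subgroup G) := ha'
      have h1 := hXY a.2 g
      rw [← mul_inv_eq_iff_eq_mul, ← mul_inv_eq_one, ← map_mul, ← map_inv, ← map_inv, ← map_mul,
        ← map_mul, hπ1] at h1
      have hyT : y ∈ (T : Subgroup G) := by
        have h2 := (T : Subgroup G).mul_mem ((T : Subgroup G).inv_mem h1.1) haT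
        rwa [mul_inv_rev, inv_inv, inv_mul_cancel_right] at h2
      exact ⟨hyT, mem_centralizer_iff.2
        ((hQ.fusion hc hP _ g b rfl hb.1 hyT).1 fun s hs => mem_centralizer_iff.1 hb.2 s hs)⟩
    refine hbZ ⟨hb.1, hbX, mem_centralizer_iff.2 fun x hx => ?_⟩
    have hle : X ≤ centralizer ({b} : Set G) := (closure_le _).2 fun x hx => by
      obtain ⟨s, hs, hsx⟩ := Group.mem_conjugatesOfSet_iff.1 hx
      obtain ⟨g, rfl⟩ := isConj_iff.1 hsx
      refine mem_centralizer_singleton_iff.2 ?_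
      have h := mem_centralizer_iff.1 (hland g⁻¹).2 s hs
      rw [inv_inv] at h
      calc g * s * g⁻¹ * b = g * (s * (g⁻¹ * b * g)) * g⁻¹ := by group
        _ = g * (g⁻¹ * b * g * s) * g⁻¹ := by rw [h]
        _ = _ := by group
    exact mem_centralizer_singleton_iff.1 (hle hx)
  have hCX : ∀ b ∈ C, b ∈ X → b ∈ Zc := by
    suffices h : ∀ (j : ℕ) (b : G), b ∈ C → b ∈ X → b ^ 2 ^ j ∈ Zc → b ∈ Zc by
      intro b hb hbX
      obtain ⟨j, hj⟩ := T.2 ⟨b, hb.1⟩
      exact h j b hb hbX (by rw [show b ^ 2 ^ j = 1 from congrArg Subtype.val hj]; exact one_mem _)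
    intro j
    induction j with
    | zero => intro b _ _ h; simpa using h
    | succ j ih =>
      intro b hb hbX h
      refine hkey b hb hbX (ih _ (mul_mem hb hb) (mul_mem hbX hbX) ?_)
      rwa [← sq, ← pow_mul, ← pow_succ']
  -- inside the normal closure
  set S₁ := S.subgroupOf X with hS₁
  have hQ' : Quat TX S₁ ⟨z, hSX hQ.one.mem⟩ := by
    refine ⟨⟨hQ.one.mem, fun e => hQ.one.ne (congrArg Subtype.val e), Subtype.ext hQ.one.sq,
      fun x hx h => (hQ.one.uniq x hx (congrArg Subtype.val h)).imp (fun e => Subtype.ext e)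
        fun e => Subtype.ext e⟩, ?_, fun g => Subtype.ext (hQ.central g)⟩
    rw [hTX]
    exact ⟨fun x hx => hQ.le hx, fun x hx g hg => hQ.land hx hg⟩
  have hmemT : ∀ x : X, x ∈ TX ↔ (x : G) ∈ (T : Subgroup G) := fun x => by
    show x ∈ (TX : Subgroup X) ↔ _
    rw [hTX, mem_subgroupOf]
  have hc' : Axis TX S₁ ⟨z, hSX hQ.one.mem⟩ ⟨c, hSX hc.mem⟩ := by
    refine ⟨hc.mem, Subtype.ext hc.sq, fun t ht => ?_, ⟨b₀, hSX hb₀⟩, hb₀, fun e => hb₀c
      (congrArg Subtype.val e)⟩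
    exact (hc.fix t ((hmemT t).1 ht)).imp (fun e => Subtype.ext e) fun e => Subtype.ext e
  have hCZ : ∀ y ∈ TX, (∀ s ∈ S₁, s * y = y * s) → ∀ g : X, g * y = y * g := fun y hy h g => by
    have hyC : (y : G) ∈ C := ⟨(hmemT y).1 hy, mem_centralizer_iff.2 fun s hs =>
      congrArg Subtype.val (h ⟨s, hSX hs⟩ hs)⟩
    exact Subtype.ext (mem_centralizer_iff.1 (hCX _ hyC y.2).2.2 g g.2)
  have hgen : closure {x | Land TX S₁ x} = ⊤ := by
    rw [eq_top_iff]
    rintro ⟨x, hx⟩ -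
    have hle : X ≤ (closure {x | Land TX S₁ x}).map X.subtype := (closure_le _).2 fun y hy => by
      obtain ⟨s, hs, hsy⟩ := Group.mem_conjugatesOfSet_iff.1 hy
      obtain ⟨g, rfl⟩ := isConj_iff.1 hsy
      refine ⟨⟨g * s * g⁻¹, normalClosure_normal.conj_mem s (hSX hs) g⟩, subset_closure ?_, rfl⟩
      intro k a ha
      have h1 := (hmemT _).1 ha
      have e : ((a : G) * (g * s * g⁻¹) ^ k * (a : G)⁻¹) = (a * g) * s ^ k * ((a : G) * g)⁻¹ := by
        rw [conj_pow]; group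
      show ((a : G) * (g * s * g⁻¹) ^ k * (a : G)⁻¹) ∈ S
      rw [e]
      exact hQ.land (pow_mem hs k) (e ▸ h1)
    obtain ⟨w, hw, hwe⟩ := hle hx
    rwa [show (⟨x, hx⟩ : X) = w from Subtype.ext hwe.symm]
  rintro x ⟨hxT, hxX⟩
  exact mem_subgroupOf.1 ((hQ'.eq_of_gen hc' hCZ hgen).symm ▸
    ((hmemT ⟨x, hxX⟩).2 hxT) : (⟨x, hxX⟩ : X) ∈ S₁)

end Quat

/-- A strongly closed 2-subgroup with one involution is a Sylow 2-subgroup of its normal closure. -/
theorem inf_normalClosure_eq (T : Sylow 2 G) {S : Subgroup G} {z : G}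
    (hcl : Cfsg.IsStronglyClosed S (T : Subgroup G)) (hS : One S z) :
    (T : Subgroup G) ⊓ normalClosure (S : Set G) = S := by
  haveI : Fact (Nat.Prime 2) := ⟨Nat.prime_two⟩
  refine le_antisymm (fun x hx => ?_) (le_inf hcl.1 (subset_normalClosure (s := (S : Set G))))
  set f := QuotientGroup.mk' (Cfsg.oddCore G) with hf
  have hfs : Function.Surjective f := QuotientGroup.mk'_surjective _
  have hinj : ∀ x : G, x ∈ (T : Subgroup G) → f x = 1 → x = 1 := fun x hxT hx =>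
    eq_one_of_two_odd T hxT (IsoApps.odd_of_mem_oddCore ((QuotientGroup.eq_one_iff x).1 hx))
  have hone : One (S.map f) (f z) := by
    refine ⟨mem_map_of_mem f hS.mem, fun h => hS.ne (hinj _ (hcl.1 hS.mem) h), ?_, ?_⟩
    · rw [← map_mul, hS.sq, map_one]
    · rintro _ ⟨y, hy, rfl⟩ h
      rw [← map_mul] at h
      exact (hS.uniq y hy (hinj _ (hcl.1 (S.mul_mem hy hy)) h)).imp
        (fun e => by rw [e, map_one]) (congrArg f)
  have hQ : Quat (T.mapSurjective hfs) (S.map f) (f z) := central_of_oddCore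
    (by rw [Sylow.coe_mapSurjective]; exact ClosedComplement.stronglyClosed_map T S hcl _) hone
    LocalB.oddCore_quotient
  have h := hQ.inf_normalClosure LocalB.oddCore_quotient
  rw [Sylow.coe_mapSurjective] at h
  have hxX : f x ∈ normalClosure ((S.map f : Subgroup _) : Set (G ⧸ Cfsg.oddCore G)) := by
    rw [coe_map, ← map_normalClosure _ f hfs]
    exact mem_map_of_mem f hx.2
  obtain ⟨s, hs, hse⟩ : f x ∈ S.map f := h.le ⟨mem_map_of_mem f hx.1, hxX⟩
  have h1 := hinj (s⁻¹ * x) (mul_mem (inv_mem (hcl.1 hs)) hx.1)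
    (by rw [map_mul, map_inv, hse, inv_mul_cancel])
  rwa [← inv_mul_eq_one.1 h1]

end CfsgLib.Criterion.QuatClosed
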