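import Cfsg.Agent.Criterion.Action.Bridge
import Cfsg.Agent.Criterion.Action.QuatClosed
import Cfsg.Agent.Invol.IsolatedApps
import Cfsg.Agent.S1250

/-!
The kernel of an action in the normal closure of a strongly closed 2-subgroup which embeds in the
permutation group: it meets the Sylow 2-subgroup trivially.
-/

set_option autoImplicit false
set_option linter.unusedSectionVars false
set_option linter.style.haveILetI false

namespace CfsgLib.Criterion.ClosedOvergroup

open Subgroup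

universe u

variable {G P : Type u} [Group G] [Finite G] [Group P] [Finite P]

/-- Strong closure passes to the image under a surjection. -/
theorem stronglyClosed_map_surj {T : Sylow 2 G} {S : Subgroup G}
    (hcl : Cfsg.IsStronglyClosed S (T : Subgroup G)) (f : G →* P) (hf : Function.Surjective f) :
    Cfsg.IsStronglyClosed (S.map f) ((T : Subgroup G).map f) := by
  haveI : Fact (Nat.Prime 2) := ⟨Nat.prime_two⟩
  refine ⟨map_mono hcl.1, ?_⟩
  rintro _ ⟨x, hx, rfl⟩ g ⟨t, ht, hte⟩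
  obtain ⟨g, rfl⟩ := hf g
  rw [← map_inv, ← map_mul, ← map_mul] at hte ⊢
  have h := (Cfsg.Agent.S1250.result T S hcl f.ker).2 _ (mem_map_of_mem _ hx)
    (QuotientGroup.mk' f.ker g) ⟨t, ht, by
      rw [← map_inv, ← map_mul, ← map_mul]
      exact QuotientGroup.eq.2 (by
        rw [MonoidHom.mem_ker, map_mul, map_inv, hte, inv_mul_cancel])⟩
  rw [← map_inv, ← map_mul, ← map_mul] at h
  obtain ⟨s, hs, hse⟩ := h
  have := MonoidHom.mem_ker.1 (QuotientGroup.eq.1 hse)
  rw [map_mul, map_inv, inv_mul_eq_one] at this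
  exact ⟨s, hs, this⟩

/-- What is known about the image: either the image of `S` is the whole trace of the Sylow subgroup
on the image of the normal closure, or this image is one of the three groups and `S` maps to its
central involutions. -/
def ImageData (f : G →* P) (T : Sylow 2 G) (S : Subgroup G) : Prop :=
  (∀ t ∈ (T : Subgroup G), f t ∈ (normalClosure (S : Set G)).map f → ∃ s ∈ S, f t = f s) ∨
    ((∀ s ∈ S, s * s = 1) ∧
      (∀ t ∈ (T : Subgroup G), f t ∈ (normalClosure (S : Set G)).map f →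
        ∀ s ∈ S, f t * f s = f s * f t) ∧
      (∀ p ∈ (normalClosure (S : Set G)).map f, p * p = 1 → p ≠ 1 → ∀ s ∈ S, s ≠ 1 →
        ∃ x ∈ normalClosure (S : Set G), f (x * s * x⁻¹) = p) ∧
      (∃ s₁ ∈ S, ∃ s₂ ∈ S, s₁ ≠ 1 ∧ s₂ ≠ 1 ∧ s₁ ≠ s₂) ∧
      Bender.Consumers.Three ↥((normalClosure (S : Set G)).map f))

theorem eq_one_of_mem_ker_aux (f : G →* P) (T : Sylow 2 G) {S : Subgroup G}
    (hcl : Cfsg.IsStronglyClosed S (T : Subgroup G)) (hinj : ∀ s ∈ S, f s = 1 → s = 1)
    (hO : Cfsg.oddCore f.ker = ⊥) (hdata : ImageData f T S) {t : G} (ht : t ∈ (T : Subgroup G))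
    (htX : t ∈ normalClosure (S : Set G)) (htf : f t = 1) : t = 1 := by
  haveI : Fact (Nat.Prime 2) := ⟨Nat.prime_two⟩
  set X := normalClosure (S : Set G) with hX
  have hSX : S ≤ X := subset_normalClosure (s := (S : Set G))
  have hdisj : S ⊓ f.ker = ⊥ :=
    (eq_bot_iff).2 fun s hs => mem_bot.2 (hinj s hs.1 (MonoidHom.mem_ker.1 hs.2))
  have hSC : S ≤ centralizer (f.ker : Set G) :=
    IsoApps.stronglyClosed_centralizes T hcl
      ((le_top : S ≤ ⊤).trans (normalizer_eq_top_iff.2 inferInstance).ge) hO hdisj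
  haveI : (centralizer (f.ker : Set G)).Normal := Subgroup.normal_centralizer (H := f.ker)
  have hXC : X ≤ centralizer (f.ker : Set G) := normalClosure_le_normal hSC
  have hcen : ∀ c : G, f c = 1 → ∀ x ∈ X, x * c = c * x := fun c hc x hx =>
    (mem_centralizer_iff.1 (hXC hx) c (MonoidHom.mem_ker.2 hc)).symm
  have hsub : ∀ s ∈ S, ∀ s' ∈ S, f s = f s' → s = s' := fun s hs s' hs' he =>
    inv_mul_eq_one.1 (hinj _ (mul_mem (inv_mem hs) hs') (by
      rw [map_mul, map_inv, he, inv_mul_cancel]))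
  obtain ⟨TX, hTX⟩ := CommClosed.sylow_trace X T
  have hmemT : ∀ x : X, x ∈ (TX : Subgroup X) ↔ (x : G) ∈ (T : Subgroup G) := fun x => by
    rw [hTX, mem_subgroupOf]
  rcases hdata with hall | ⟨hel, hcomm, hclass, ⟨s₁, hs₁, s₂, hs₂, h11, h21, h12⟩, h3⟩
  · -- transfer
    by_contra hne
    set H := (TX : Subgroup X)
    set S₀ := (S.subgroupOf X).subgroupOf H with hS₀
    haveI : S₀.Normal := ⟨fun n hn g => by
      rw [hS₀, mem_subgroupOf, mem_subgroupOf] at hn ⊢
      exact hcl.2 _ hn ((g : X) : G) ((hmemT _).1 (g * n * g⁻¹).2)⟩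
    have hdec : ∀ x : H, ∃ s ∈ S, ∃ c : G, f c = 1 ∧ c ∈ X ∧ ((x : X) : G) = s * c := fun x => by
      obtain ⟨s, hs, hse⟩ := hall _ ((hmemT _).1 x.2) (mem_map_of_mem f (x : X).2)
      exact ⟨s, hs, s⁻¹ * ((x : X) : G), by rw [map_mul, map_inv, hse, inv_mul_cancel],
        mul_mem (inv_mem (hSX hs)) (x : X).2, by rw [mul_inv_cancel_left]⟩
    letI : CommGroup (H ⧸ S₀) := { (inferInstance : Group (H ⧸ S₀)) with
      mul_comm := fun p q => by
        induction p using QuotientGroup.induction_on with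
        | H x =>
          induction q using QuotientGroup.induction_on with
          | H y =>
            refine QuotientGroup.eq.2 ?_
            rw [hS₀, mem_subgroupOf, mem_subgroupOf]
            show ((((x : X) : G) * ((y : X) : G))⁻¹ * (((y : X) : G) * ((x : X) : G))) ∈ S
            obtain ⟨s, hs, c, hc, hcX, hx⟩ := hdec x
            obtain ⟨s', hs', c', hc', hcX', hy⟩ := hdec y
            have h1 : ((x : X) : G) * ((y : X) : G) = s * s' * (c * c') := by
              rw [hx, hy, mul_assoc s c, ← mul_assoc c s', ← hcen c hc s' (hSX hs')]; group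
            have h2 : ((y : X) : G) * ((x : X) : G) = s' * s * (c * c') := by
              rw [hx, hy, mul_assoc s' c', ← mul_assoc c' s, ← hcen c' hc' s (hSX hs),
                hcen c' hc' c hcX]
              simp only [mul_assoc]
            have hcc : f (c * c') = 1 := by rw [map_mul, hc, hc', one_mul]
            have hd : (s * s')⁻¹ * (s' * s) ∈ S :=
              mul_mem (inv_mem (mul_mem hs hs')) (mul_mem hs' hs)
            have e : (c * c')⁻¹ * ((s * s')⁻¹ * (s' * s)) * (c * c') =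
                (s * s')⁻¹ * (s' * s) := by
              rw [mul_assoc, hcen (c * c') hcc _ (hSX hd), inv_mul_cancel_left]
            rw [h1, h2, show (s * s' * (c * c'))⁻¹ * (s' * s * (c * c')) =
              (c * c')⁻¹ * ((s * s')⁻¹ * (s' * s)) * (c * c') by group, e]
            exact hd }
    have hgen : closure {x | QuatClosed.Land TX (S.subgroupOf X) x} = ⊤ := by
      rw [eq_top_iff]
      rintro ⟨x, hx⟩ -
      have hle : X ≤ (closure {x | QuatClosed.Land TX (S.subgroupOf X) x}).map X.subtype :=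
        (closure_le _).2 fun y hy => by
          obtain ⟨s, hs, hsy⟩ := Group.mem_conjugatesOfSet_iff.1 hy
          obtain ⟨g, rfl⟩ := isConj_iff.1 hsy
          refine ⟨⟨g * s * g⁻¹, normalClosure_normal.conj_mem s (hSX hs) g⟩, subset_closure ?_, rfl⟩
          intro k a ha
          have h1 := (hmemT _).1 ha
          have e : (a : G) * (g * s * g⁻¹) ^ k * (a : G)⁻¹ = (a * g) * s ^ k * ((a : G) * g)⁻¹ := by
            rw [conj_pow]; group
          show (a : G) * (g * s * g⁻¹) ^ k * (a : G)⁻¹ ∈ S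
          rw [e]
          exact hcl.2 _ (pow_mem hs k) _ (e ▸ h1)
      obtain ⟨w, hw, hwe⟩ := hle hx
      rwa [show (⟨x, hx⟩ : X) = w from Subtype.ext hwe.symm]
    refine QuatClosed.transfer_false (QuotientGroup.mk' S₀) (fun s hs =>
      (QuotientGroup.eq_one_iff s).2 (mem_subgroupOf.2 hs)) hgen
      (y := (⟨t, htX⟩ : X)) ((hmemT _).2 ht) (fun h => hne ?_) fun k g₀ h => ?_
    · exact hinj t (mem_subgroupOf.1 (mem_subgroupOf.1 ((QuotientGroup.eq_one_iff _).1 h))) htf
    · have e : g₀⁻¹ * (⟨t, htX⟩ : X) ^ k * g₀ = (⟨t, htX⟩ : X) ^ k := Subtype.ext (by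
        show (g₀ : G)⁻¹ * t ^ k * g₀ = t ^ k
        rw [mul_assoc, ← hcen (t ^ k) (by rw [map_pow, htf, one_pow]) g₀ g₀.2,
          inv_mul_cancel_left])
      rw [← map_pow]
      exact congrArg _ (Subtype.ext e)
  -- a perfect central extension
  set σ := f.subgroupMap X with hσ
  have hσs : Function.Surjective σ := MonoidHom.subgroupMap_surjective f X
  have hσ1 : ∀ q : X, σ q = 1 ↔ f q = 1 := fun q => Subtype.ext_iff
  set Zs : Set X := {q | (q : G) ≠ 1 ∧ ∃ g : G, g * q * g⁻¹ ∈ S} with hZs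
  have hinv : ∀ q ∈ Zs, q * q = 1 := by
    rintro q ⟨-, g, hg⟩
    have h := hel _ hg
    rw [show g * q * g⁻¹ * (g * q * g⁻¹) = g * (q * q) * g⁻¹ by group, conj_eq_one_iff] at h
    exact Subtype.ext h
  have hnotKer : ∀ q ∈ Zs, σ q ≠ 1 := by
    rintro q ⟨hq1, g, hg⟩ h
    refine hq1 (conj_eq_one_iff.1 (hinj _ hg ?_))
    rw [map_mul, map_mul, (hσ1 q).1 h, mul_one, ← map_mul, mul_inv_cancel, map_one]
  have hconjZ : ∀ h q : X, q ∈ Zs → h * q * h⁻¹ ∈ Zs := by
    rintro h q ⟨hq1, g, hg⟩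
    refine ⟨fun e => hq1 (conj_eq_one_iff.1 e), g * (h : G)⁻¹, ?_⟩
    rw [show g * (h : G)⁻¹ * ((h * q * h⁻¹ : X) : G) * (g * (h : G)⁻¹)⁻¹ = g * q * g⁻¹ by
      push_cast; group]
    exact hg
  have hpairT : ∀ q ∈ Zs, ∀ r ∈ Zs, q * r = r * q →
      ∃ g : G, g * (q : G) * g⁻¹ ∈ S ∧ g * (r : G) * g⁻¹ ∈ S := by
    intro q hq r hr hqr
    have hle : zpowers (q : G) ≤ normalizer (zpowers (r : G) : Set G) :=
      zpowers_le.2 (centralizer_le_normalizer _ (mem_centralizer_iff.2 fun x hx => by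
        obtain ⟨m, rfl⟩ := mem_zpowers_iff.1 hx
        exact ((show Commute (q : G) r from congrArg Subtype.val hqr).zpow_right m).eq.symm))
    have hQ : IsPGroup 2 ↥(zpowers (q : G) ⊔ zpowers (r : G)) :=
      (Act.isPGroup_zpowers_two (congrArg Subtype.val (hinv q hq))).to_sup_of_normal_right'
        (Act.isPGroup_zpowers_two (congrArg Subtype.val (hinv r hr))) hle
    obtain ⟨g, hg⟩ := QuatClosed.exists_into T hQ
    have hS : ∀ x : X, x ∈ Zs → g * (x : G) * g⁻¹ ∈ (T : Subgroup G) →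
        g * (x : G) * g⁻¹ ∈ S := by
      rintro x ⟨-, g₀, hg₀⟩ hx
      have e : g * (x : G) * g⁻¹ = g * g₀⁻¹ * (g₀ * x * g₀⁻¹) * (g * g₀⁻¹)⁻¹ := by group
      rw [e]
      exact hcl.2 _ hg₀ _ (e ▸ hx)
    exact ⟨g, hS q hq (hg _ (mem_sup_left (mem_zpowers _))),
      hS r hr (hg _ (mem_sup_right (mem_zpowers _)))⟩
  have huniq : ∀ q ∈ Zs, ∀ r ∈ Zs, q * r = r * q → σ q = σ r → q = r := by
    intro q hq r hr hqr he
    obtain ⟨g, hgq, hgr⟩ := hpairT q hq r hr hqr
    have h := hsub _ hgq _ hgr (by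
      rw [map_mul, map_mul, map_mul, map_mul, show f (q : G) = f r from congrArg Subtype.val he])
    exact Subtype.ext (mul_left_cancel (mul_right_cancel h))
  have hclosed : ∀ q ∈ Zs, ∀ r ∈ Zs, q * r = r * q → σ q ≠ σ r → q * r ∈ Zs := by
    intro q hq r hr hqr hne
    obtain ⟨g, hgq, hgr⟩ := hpairT q hq r hr hqr
    refine ⟨fun e => hne ?_, g, ?_⟩
    · rw [eq_inv_of_mul_eq_one_left (Subtype.ext e : q * r = 1),
        inv_eq_of_mul_eq_one_right (hinv r hr)]
    · rw [show g * ((q * r : X) : G) * g⁻¹ = g * q * g⁻¹ * (g * r * g⁻¹) by push_cast; group]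
      exact mul_mem hgq hgr
  have hz₁ : (⟨s₁, hSX hs₁⟩ : X) ∈ Zs := ⟨h11, 1, by simpa using hs₁⟩
  have hsame : ∀ q ∈ Zs, ∃ x : X, x * ⟨s₁, hSX hs₁⟩ * x⁻¹ = q := by
    intro q hq
    obtain ⟨x, hx, hxq⟩ := hclass (f (q : G)) (mem_map_of_mem f q.2)
      (by rw [← map_mul]; exact congrArg f (congrArg Subtype.val (hinv q hq)) |>.trans (map_one f))
      (fun e => hnotKer q hq ((hσ1 q).2 e)) s₁ hs₁ h11
    refine ⟨⟨x, hx⟩, huniq _ (hconjZ _ _ hz₁) q hq (Subtype.ext ?_) (Subtype.ext hxq)⟩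
    push_cast
    set w := (q : G)⁻¹ * (x * s₁ * x⁻¹) with hw
    have hwf : f w = 1 := by rw [hw, map_mul, map_inv, hxq, inv_mul_cancel]
    have e : x * s₁ * x⁻¹ = q * w := by rw [hw, mul_inv_cancel_left]
    rw [e, mul_assoc, ← hcen w hwf q q.2]
  have hsylow : ∀ q ∈ Zs, ∃ R : Sylow 2 X, ∀ r ∈ R, r * q = q * r := by
    intro q hq
    obtain ⟨x, hxq⟩ := hsame q hq
    refine ⟨x • TX, ?_⟩
    rintro _ ⟨r, hr, rfl⟩
    have hrT := (hmemT r).1 hr
    have h1 : (r : G) * s₁ * (r : G)⁻¹ ∈ S := hcl.2 s₁ hs₁ r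
      (mul_mem (mul_mem hrT (hcl.1 hs₁)) (inv_mem hrT))
    have h2 : (r : G) * s₁ * (r : G)⁻¹ = s₁ := hsub _ h1 _ hs₁ (by
      rw [map_mul, map_mul, hcomm r hrT (mem_map_of_mem f r.2) s₁ hs₁, mul_assoc, ← map_mul,
        mul_inv_cancel, map_one, mul_one])
    have h3 : r * ⟨s₁, hSX hs₁⟩ = ⟨s₁, hSX hs₁⟩ * r :=
      Subtype.ext (mul_inv_eq_iff_eq_mul.1 h2)
    show x * r * x⁻¹ * q = q * (x * r * x⁻¹)
    rw [← hxq]
    calc x * r * x⁻¹ * (x * ⟨s₁, hSX hs₁⟩ * x⁻¹) = x * (r * ⟨s₁, hSX hs₁⟩) * x⁻¹ := by group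
      _ = x * (⟨s₁, hSX hs₁⟩ * r) * x⁻¹ := by rw [h3]
      _ = _ := by group
  have hperf : commutator X = ⊤ := by
    have hab : ∀ q ∈ Zs, Abelianization.of q = Abelianization.of (⟨s₁, hSX hs₁⟩ : X) := by
      intro q hq
      obtain ⟨x, rfl⟩ := hsame q hq
      rw [map_mul, map_mul, map_inv, mul_comm (Abelianization.of x), mul_inv_cancel_right]
    have hz₂ : (⟨s₂, hSX hs₂⟩ : X) ∈ Zs := ⟨h21, 1, by simpa using hs₂⟩
    have hz₁₂ : (⟨s₁, hSX hs₁⟩ * ⟨s₂, hSX hs₂⟩ : X) ∈ Zs := ⟨fun e => h12 (by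
        rw [eq_inv_of_mul_eq_one_left (show s₁ * s₂ = 1 from e),
          inv_eq_of_mul_eq_one_right (hel s₂ hs₂)]),
      1, by simpa using mul_mem hs₁ hs₂⟩
    have h1 : Abelianization.of (⟨s₁, hSX hs₁⟩ : X) = 1 := by
      have h := hab _ hz₁₂
      rw [map_mul, hab _ hz₂] at h
      exact mul_eq_left.1 h
    have h2 : X ≤ (commutator X).map X.subtype := normalClosure_le_normal fun s hs => by
      refine ⟨⟨s, hSX hs⟩, (QuotientGroup.eq_one_iff _).1 ?_, rfl⟩
      show Abelianization.of (⟨s, hSX hs⟩ : X) = 1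
      by_cases hs1 : s = 1
      · rw [show (⟨s, hSX hs⟩ : X) = 1 from Subtype.ext hs1, map_one]
      · rw [hab _ ⟨hs1, 1, by simpa using hs⟩, h1]
    refine eq_top_iff.2 fun x _ => ?_
    obtain ⟨y, hy, hyx⟩ := h2 x.2
    exact (Subtype.ext hyx : y = x) ▸ hy
  have hd : Act.LiftData σ Zs := by
    refine ⟨hσs, fun q hq => mem_center_iff.2 fun x => Subtype.ext
      (hcen q ((hσ1 q).1 hq) x x.2), hperf, hinv, hnotKer, hconjZ, fun p hp2 hp1 => ?_,
      hclosed, huniq, hsylow⟩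
    obtain ⟨x, hx, hxp⟩ := hclass (p : P) p.2 (congrArg Subtype.val hp2)
      (fun e => hp1 (Subtype.ext e)) s₁ hs₁ h11
    have hσp : σ (⟨x, hx⟩ * ⟨s₁, hSX hs₁⟩ * ⟨x, hx⟩⁻¹) = p := Subtype.ext hxp
    exact ⟨_, hconjZ _ _ hz₁, hσp⟩
  have hodd := (Act.odd_ker_of_three hd h3).of_dvd_nat
    (Subgroup.orderOf_dvd_natCard σ.ker (x := (⟨t, htX⟩ : X)) ((hσ1 _).2 htf))
  rw [Subgroup.orderOf_mk] at hodd
  exact QuatClosed.eq_one_of_two_odd T ht hodd

/-- The trace of the Sylow subgroup on the normal closure of `S` meets the kernel trivially. -/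
theorem eq_one_of_mem_ker (f : G →* P) (T : Sylow 2 G) {S : Subgroup G}
    (hcl : Cfsg.IsStronglyClosed S (T : Subgroup G)) (hinj : ∀ s ∈ S, f s = 1 → s = 1)
    (hdata : ImageData f T S) {t : G} (ht : t ∈ (T : Subgroup G))
    (htX : t ∈ normalClosure (S : Set G)) (htf : f t = 1) : t = 1 := by
  haveI : Fact (Nat.Prime 2) := ⟨Nat.prime_two⟩
  haveI : (Cfsg.oddCore f.ker).Characteristic := characteristic_iff_map_le.2 fun φ =>
    Bender.Core.le_oddCore (Normal.map inferInstance φ.toMonoidHom φ.surjective)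
      (by rw [card_map_of_injective φ.injective]; exact IsoApps.odd_oddCore)
  set M := (Cfsg.oddCore f.ker).map f.ker.subtype with hM
  haveI : M.Normal := inferInstance
  have hModd : Odd (Nat.card M) := by
    rw [card_map_of_injective f.ker.subtype_injective]; exact IsoApps.odd_oddCore
  have hMf : M ≤ f.ker := map_subtype_le _
  set π := QuotientGroup.mk' M with hπ
  have hπs := QuotientGroup.mk'_surjective M
  set f' := QuotientGroup.lift M f hMf with hf'
  have hfπ : ∀ x, f' (π x) = f x := fun x => rfl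
  have hO : Cfsg.oddCore f'.ker = ⊥ := by
    set R := (Cfsg.oddCore f'.ker).map f'.ker.subtype with hR
    set R' := R.comap π with hR'
    have hle : R' ≤ f.ker := fun x hx => by
      rw [MonoidHom.mem_ker, ← hfπ]
      exact MonoidHom.mem_ker.1 (map_subtype_le (Cfsg.oddCore f'.ker) (mem_comap.1 hx))
    haveI : (R'.subgroupOf f.ker).Normal := ⟨fun n hn g => by
      rw [mem_subgroupOf, hR', mem_comap] at hn ⊢
      obtain ⟨m, hm, hme⟩ := hn
      have hg : π g ∈ f'.ker := MonoidHom.mem_ker.2 ((hfπ g).trans (MonoidHom.mem_ker.1 g.2))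
      exact ⟨(⟨π g, hg⟩ : f'.ker) * m * (⟨π g, hg⟩ : f'.ker)⁻¹,
        (inferInstance : (Cfsg.oddCore f'.ker).Normal).conj_mem m hm _, by
          show π g * ((m : f'.ker) : G ⧸ M) * (π g)⁻¹ = π ((g : G) * n * (g : G)⁻¹)
          rw [map_mul, map_mul, map_inv, ← hme]
          rfl⟩⟩
    have hcard : Nat.card R' = Nat.card M * Nat.card R := by
      have h1 := Subgroup.card_mul_index R'
      rw [hR', index_comap_of_surjective _ hπs] at h1
      have h2 := Subgroup.card_mul_index R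
      have h3 := Subgroup.card_eq_card_quotient_mul_card_subgroup M
      rw [← h1, ← h2] at h3
      refine Nat.eq_of_mul_eq_mul_right (index_ne_zero_of_finite (H := R)).bot_lt ?_
      rw [h3]; ring
    have hodd : Odd (Nat.card (R'.subgroupOf f.ker)) := by
      rw [Nat.card_congr (subgroupOfEquivOfLe hle).toEquiv, hcard,
        hR, card_map_of_injective f'.ker.subtype_injective]
      exact hModd.mul IsoApps.odd_oddCore
    refine (eq_bot_iff).2 fun r hr => mem_bot.2 (Subtype.ext ?_)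
    obtain ⟨x, hx⟩ := hπs r
    have hxR : x ∈ R' := ⟨r, hr, hx.symm⟩
    show (r : G ⧸ M) = 1
    rw [← hx]
    exact (QuotientGroup.eq_one_iff x).2 ⟨⟨x, hle hxR⟩,
      Bender.Core.le_oddCore inferInstance hodd hxR, rfl⟩
  have hXmap : normalClosure ((S.map π : Subgroup (G ⧸ M)) : Set (G ⧸ M)) =
      (normalClosure (S : Set G)).map π := by
    rw [coe_map, map_normalClosure _ π hπs]
  have hcl' : Cfsg.IsStronglyClosed (S.map π)
      ((T.mapSurjective hπs : Sylow 2 (G ⧸ M)) : Subgroup (G ⧸ M)) := by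
    rw [Sylow.coe_mapSurjective]; exact stronglyClosed_map_surj hcl π hπs
  have hinj' : ∀ s ∈ S.map π, f' s = 1 → s = 1 := by
    rintro _ ⟨s, hs, rfl⟩ h
    rw [hinj s hs h, map_one]
  have hX' : (normalClosure ((S.map π : Subgroup (G ⧸ M)) : Set (G ⧸ M))).map f' =
      (normalClosure (S : Set G)).map f := by
    rw [hXmap, map_map]; rfl
  have hdata' : ImageData f' (T.mapSurjective hπs) (S.map π) := by
    rcases hdata with h | ⟨hel, hcomm, hclass, ⟨s₁, hs₁, s₂, hs₂, h11, h21, h12⟩, h3⟩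
    · refine Or.inl ?_
      rw [Sylow.coe_mapSurjective, hX']
      rintro _ ⟨x, hx, rfl⟩ hxX
      obtain ⟨s, hs, he⟩ := h x hx hxX
      exact ⟨π s, mem_map_of_mem π hs, he⟩
    · refine Or.inr ⟨?_, ?_, ?_, ⟨π s₁, mem_map_of_mem π hs₁, π s₂, mem_map_of_mem π hs₂,
        fun e => h11 ?_, fun e => h21 ?_, fun e => h12 ?_⟩, ?_⟩
      · rintro _ ⟨s, hs, rfl⟩
        rw [← map_mul, hel s hs, map_one]
      · rw [Sylow.coe_mapSurjective, hX']
        rintro _ ⟨x, hx, rfl⟩ hxX _ ⟨s, hs, rfl⟩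
        exact hcomm x hx hxX s hs
      · rw [hX', hXmap]
        rintro p hp hp2 hp1 _ ⟨s, hs, rfl⟩ hs1
        obtain ⟨x, hx, hxp⟩ := hclass p hp hp2 hp1 s hs fun e => hs1 (by rw [e, map_one])
        exact ⟨π x, mem_map_of_mem π hx, by rw [← map_inv, ← map_mul, ← map_mul]; exact hxp⟩
      · exact hinj s₁ hs₁ (by rw [← hfπ, e, map_one])
      · exact hinj s₂ hs₂ (by rw [← hfπ, e, map_one])
      · refine inv_mul_eq_one.1 (hinj _ (mul_mem (inv_mem hs₁) hs₂) ?_)
        rw [← hfπ, map_mul, map_inv, e, inv_mul_cancel, map_one]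
      · rw [hX']; exact h3
  have h := eq_one_of_mem_ker_aux f' (T.mapSurjective hπs) hcl' hinj' hO hdata'
    (t := π t) (by rw [Sylow.coe_mapSurjective]; exact mem_map_of_mem π ht)
    (hXmap ▸ mem_map_of_mem π htX) (by rw [hfπ, htf])
  refine QuatClosed.eq_one_of_two_odd T ht
    (hModd.of_dvd_nat (Subgroup.orderOf_dvd_natCard M ((QuotientGroup.eq_one_iff t).1 h)))

end CfsgLib.Criterion.ClosedOvergroup
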