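import Cfsg.Agent.Criterion.Action.ClosedKernel
import Cfsg.Agent.Criterion.Action.ClosedImage
import Cfsg.Prelude.Def_CaseTheorems
import Cfsg.Prelude.Def_PLocal

/-!
Strongly closed 2-subgroups whose local overgroups are proper: strong embedding in the normal
closure, which meets the Sylow subgroup in the strongly closed subgroup or has its involutions
there.
-/

set_option autoImplicit false
set_option linter.unusedSectionVars false
set_option linter.style.haveILetI false

namespace CfsgLib.Criterion.ClosedOvergroup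

open Subgroup MulAction
open CfsgLib.Criterion.Act (Setting Concl)

universe u

variable {G : Type u} [Group G] [Finite G]

/-- An involution of `S` central in the Sylow subgroup. -/
theorem exists_central_invol (T : Sylow 2 G) {S : Subgroup G} (hS : S ≠ ⊥)
    (hsc : Cfsg.IsStronglyClosed S (T : Subgroup G)) :
    ∃ z ∈ S, orderOf z = 2 ∧ ∀ t ∈ (T : Subgroup G), t * z = z * t := by
  haveI : Fact (Nat.Prime 2) := ⟨Nat.prime_two⟩
  haveI : (S.subgroupOf (T : Subgroup G)).Normal := ⟨fun t ht s =>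
    hsc.2 (t : G) ht (s : G) (mul_mem (mul_mem s.2 t.2) (inv_mem s.2))⟩
  haveI := T.2.isNilpotent
  obtain ⟨⟨c, hcS, hcZ⟩, hc⟩ := Subgroup.ne_bot_iff_exists_ne_one.1
    (CfsgLib.PGroupBasic.inf_center_ne_bot (S.subgroupOf (T : Subgroup G))
      (fun e => hS (by rw [← map_subgroupOf_eq_of_le hsc.1, e, Subgroup.map_bot])))
  have hc1 : c ≠ 1 := fun e => hc (Subtype.ext e)
  obtain ⟨n, hn⟩ := IsPGroup.iff_orderOf.1 T.2 c
  rcases n with _ | n
  · exact absurd (orderOf_eq_one_iff.1 (by simpa using hn)) hc1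
  refine ⟨((c ^ 2 ^ n : (T : Subgroup G)) : G), ?_, ?_, fun t ht => ?_⟩
  · rw [Subgroup.coe_pow]; exact pow_mem hcS _
  · rw [Subgroup.orderOf_coe, orderOf_pow' c (by positivity), hn,
      Nat.gcd_eq_right (pow_dvd_pow 2 n.le_succ), Nat.pow_div n.le_succ (by norm_num)]
    simp
  · exact congrArg Subtype.val (mem_center_iff.1 (pow_mem hcZ (2 ^ n)) ⟨t, ht⟩)

/-- A 2-element of a subgroup containing the Sylow subgroup is conjugate into this there. -/
theorem exists_conj_mem {C : Subgroup G} (T : Sylow 2 G) (hTC : (T : Subgroup G) ≤ C) {x : G}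
    (hx : x ∈ C) (hx2 : x * x = 1) : ∃ c ∈ C, c * x * c⁻¹ ∈ (T : Subgroup G) := by
  obtain ⟨c, hc⟩ := QuatClosed.exists_into (T.subtype hTC)
    (Act.isPGroup_zpowers_two (x := (⟨x, hx⟩ : C)) (Subtype.ext hx2))
  exact ⟨c, c.2, mem_subgroupOf.1 (hc _ (mem_zpowers _))⟩

variable {T : Sylow 2 G} {S : Subgroup G} (hsc : Cfsg.IsStronglyClosed S (T : Subgroup G))
  {H : Subgroup G} (hH : H ≠ ⊤)
  (hC : ∀ s ∈ S, s ≠ 1 → Subgroup.centralizer ({s} : Set G) ≤ H)
  (hN : normalizer ((Cfsg.omegaOne 2 S : Subgroup G) : Set G) ≤ H)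
include hsc hH hC hN

/-- The setting on the cosets of the overgroup. -/
theorem setting {z : G} (hzS : z ∈ S) (hz : orderOf z = 2)
    (hzT : ∀ t ∈ (T : Subgroup G), t * z = z * t) :
    Setting G (G ⧸ H) (QuotientGroup.mk 1) z := by
  haveI : Fact (Nat.Prime 2) := ⟨Nat.prime_two⟩
  have hzz : z * z = 1 := Invol.mul_self_eq_one hz
  have hz1 : z ≠ 1 := Invol.ne_one hz
  have hCz : centralizer ({z} : Set G) ≤ H := hC z hzS hz1
  have hTH : (T : Subgroup G) ≤ H := fun t ht =>
    hCz (mem_centralizer_singleton_iff.2 (hzT t ht))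
  have hNS : ∀ n : G, (∀ s ∈ S, n * s * n⁻¹ ∈ S) → n ∈ H := by
    intro n hn
    refine hN (CfsgLib.LocalB.mem_normalizer_of_conj_le fun x hx => ?_)
    have hle : Cfsg.omegaOne 2 S ≤ (Cfsg.omegaOne 2 S).comap (MulAut.conj n).toMonoidHom := by
      refine (closure_le _).2 fun x hx => subset_closure ⟨hn x hx.1, ?_⟩
      show (n * x * n⁻¹) ^ 2 = 1
      rw [conj_pow, hx.2, mul_one, mul_inv_cancel]
    exact hle hx
  have h2 : ∀ g : G, g * z * g⁻¹ ∈ H → g ∈ H := by
    intro g hg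
    obtain ⟨m, hm, hmT⟩ := exists_conj_mem T hTH hg (Act.conj_invol hzz g)
    set q := m * g with hq
    rw [show m * (g * z * g⁻¹) * m⁻¹ = q * z * q⁻¹ by rw [hq]; group] at hmT
    have hqS : q * z * q⁻¹ ∈ S := hsc.2 z hzS q hmT
    have hCq := hC _ hqS fun e => hz1 (conj_eq_one_iff.1 e)
    have hqT : ((q • T : Sylow 2 G) : Subgroup G) ≤ H := by
      rintro _ ⟨t, ht, rfl⟩
      refine hCq (mem_centralizer_singleton_iff.2 ?_)
      show q * t * q⁻¹ * (q * z * q⁻¹) = q * z * q⁻¹ * (q * t * q⁻¹)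
      rw [show q * t * q⁻¹ * (q * z * q⁻¹) = q * (t * z) * q⁻¹ by group, hzT t ht]
      group
    obtain ⟨l, hl⟩ := MulAction.exists_smul_eq H ((q • T).subtype hqT) (T.subtype hTH)
    have hn : (l : G) * q ∈ H := hNS _ fun s hs => by
      refine hsc.2 s hs _ ?_
      have h1 : MulAut.conj l • (⟨q * s * q⁻¹, hqT ⟨s, hsc.1 hs, rfl⟩⟩ : H) ∈
          (T.subtype hTH : Subgroup H) := by
        rw [← hl, Sylow.coe_subgroup_smul]
        exact smul_mem_pointwise_smul _ _ _ (show (⟨q * s * q⁻¹, _⟩ : H) ∈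
          (((q • T : Sylow 2 G).subtype hqT : Sylow 2 H) : Subgroup H) from ⟨s, hsc.1 hs, rfl⟩)
      have h2' : (l : G) * (q * s * q⁻¹) * (l : G)⁻¹ ∈ (T : Subgroup G) := by
        simpa [mem_subgroupOf] using h1
      rw [show (l : G) * q * s * ((l : G) * q)⁻¹ = (l : G) * (q * s * q⁻¹) * (l : G)⁻¹ by group]
      exact h2'
    have hqH : q ∈ H := by simpa using mul_mem (inv_mem l.2) hn
    simpa [hq] using mul_mem (inv_mem hm) hqH
  refine Act.setting_of_data hH hz (hTH (hsc.1 hzS)) ⟨T, hsc.1 hzS, hzT⟩ h2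
    fun g hcomm hne x hx => ?_
  obtain ⟨d, hd, hdT⟩ := exists_conj_mem T
    (fun t ht => mem_centralizer_singleton_iff.2 (hzT t ht))
    (mem_centralizer_singleton_iff.2 hcomm.eq.symm : g * z * g⁻¹ ∈ centralizer ({z} : Set G))
    (Act.conj_invol hzz g)
  have hdz : d * z = z * d := mem_centralizer_singleton_iff.1 hd
  have hdS : d * (g * z * g⁻¹) * d⁻¹ ∈ S := by
    rw [show d * (g * z * g⁻¹) * d⁻¹ = d * g * z * (d * g)⁻¹ by group] at hdT ⊢
    exact hsc.2 z hzS _ hdT
  set v := z * (g * z * g⁻¹) with hv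
  have hdv : d * v * d⁻¹ = z * (d * (g * z * g⁻¹) * d⁻¹) := by
    rw [hv, ← mul_assoc d, hdz]; group
  have hle := hC _ (show d * v * d⁻¹ ∈ S by rw [hdv]; exact mul_mem hzS hdS) fun e => hne (by
    calc g * z * g⁻¹ = z * z * (g * z * g⁻¹) := by rw [hzz, one_mul]
      _ = z := by rw [mul_assoc, show z * (g * z * g⁻¹) = 1 from conj_eq_one_iff.1 e, mul_one])
  have hdH : d ∈ H := hCz hd
  have := hle (x := d * x * d⁻¹) (mem_centralizer_singleton_iff.2 (by
    rw [show d * x * d⁻¹ * (d * v * d⁻¹) = d * (x * v) * d⁻¹ by group,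
      mem_centralizer_singleton_iff.1 hx]
    group))
  simpa [mul_assoc] using mul_mem (mul_mem (inv_mem hdH) this) hdH

/-- A nontrivial element of `S` fixes only the base point. -/
theorem fix_one {z : G} (hst : Setting G (G ⧸ H) (QuotientGroup.mk 1) z) {s : G} (hs : s ∈ S)
    (hs1 : s ≠ 1) {b : G ⧸ H} (hb : s • b = b) : b = QuotientGroup.mk 1 := by
  obtain ⟨x, -, hxb, hxc⟩ := hst.exists_central (Q := zpowers s)
    (T.2.to_le (zpowers_le.2 (hsc.1 hs))) (b := b) fun q hq =>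
      mem_stabilizer_iff.1 ((zpowers_le.2 (show s ∈ stabilizer G b from hb)) hq)
  have hxH : x ∈ H := hC s hs hs1
    (mem_centralizer_singleton_iff.2 (hxc s (mem_zpowers s)).symm)
  exact ((hxb _).1 (StrongEmbed.smul_mk_one_iff.2 hxH)).symm

/-- Aschbacher's theorem on strongly closed 2-subgroups with proper local overgroups, from the
criterion. -/
theorem overgroup_row (hcore : Act.Core.{u}) (hS : S ≠ ⊥) :
    Cfsg.IsStronglyEmbedded
        ((H ⊓ normalClosure (S : Set G)).subgroupOf (normalClosure (S : Set G))) ∧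
      (S = (T : Subgroup G) ⊓ normalClosure (S : Set G) ∨
        S = Cfsg.omegaOne 2 ((T : Subgroup G) ⊓ normalClosure (S : Set G))) ∧
      (Cfsg.PRankLE 2 1 ↥S → S = (T : Subgroup G) ⊓ normalClosure (S : Set G)) := by
  classical
  haveI : Fact (Nat.Prime 2) := ⟨Nat.prime_two⟩
  obtain ⟨z, hzS, hz, hzT⟩ := exists_central_invol T hS hsc
  have hzz : z * z = 1 := Invol.mul_self_eq_one hz
  have hst := setting hsc hH hC hN hzS hz hzT
  set a : G ⧸ H := QuotientGroup.mk 1 with ha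
  set X := normalClosure (S : Set G) with hX
  have hSX : S ≤ X := subset_normalClosure (s := (S : Set G))
  have hTH : (T : Subgroup G) ≤ H := fun t ht =>
    hC z hzS (Invol.ne_one hz) (mem_centralizer_singleton_iff.2 (hzT t ht))
  have hone : ∀ s ∈ S, s ≠ 1 → ∀ b : G ⧸ H, s • b = b → b = a := fun s hs hs1 b hb =>
    fix_one hsc hH hC hN hst hs hs1 hb
  have hse : (∀ x ∈ (T : Subgroup G) ⊓ X, x * x = 1 → x ∈ S) →
      Cfsg.IsStronglyEmbedded ((H ⊓ X).subgroupOf X) := by
    intro hinv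
    refine ⟨fun e => ?_, even_iff_two_dvd.2 ?_, fun g hg => Nat.not_even_iff_odd.1 fun he => ?_⟩
    · haveI : IsPretransitive ↥(normalClosure ({z} : Set G)) (G ⧸ H) :=
        hst.pretransitive_normalClosure
      obtain ⟨b, hb⟩ := hst.moved
      obtain ⟨⟨k, hk⟩, rfl⟩ := MulAction.exists_smul_eq (normalClosure ({z} : Set G)) a b
      exact hb (StrongEmbed.smul_mk_one_iff.2
        (show k ∈ H ⊓ X from subgroupOf_eq_top.1 e
          (normalClosure_le_normal (Set.singleton_subset_iff.2 (hSX hzS)) hk)).1)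
    · have hm : (⟨z, hSX hzS⟩ : X) ∈ (H ⊓ X).subgroupOf X := ⟨hTH (hsc.1 hzS), hSX hzS⟩
      have := Subgroup.orderOf_dvd_natCard _ hm
      rwa [Subgroup.orderOf_mk, hz] at this
    · obtain ⟨⟨w, hwH, y, hy, hwy⟩, hw⟩ :=
        exists_prime_orderOf_dvd_card' 2 (even_iff_two_dvd.1 he)
      rw [← Subgroup.orderOf_coe, ← Subgroup.orderOf_coe] at hw
      change orderOf (w : G) = 2 at hw
      have hwy' : (g : G) * y * (g : G)⁻¹ = (w : G) := congrArg Subtype.val hwy
      obtain ⟨c, hc⟩ := QuatClosed.exists_into T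
        (Act.isPGroup_zpowers_two (Invol.mul_self_eq_one hw))
      have hs : c * (w : G) * c⁻¹ ∈ S := hinv _
        ⟨hc _ (mem_zpowers _), normalClosure_normal.conj_mem _ w.2 c⟩
        (Act.conj_invol (Invol.mul_self_eq_one hw) c)
      have key : ∀ b : G ⧸ H, (w : G) • b = b → c • b = a := fun b hb =>
        hone _ hs (fun e => Invol.ne_one hw (conj_eq_one_iff.1 e)) _
          (by rw [mul_smul, mul_smul, inv_smul_smul, hb])
      have h1 : (w : G) • a = a := StrongEmbed.smul_mk_one_iff.2 (mem_inf.1 hwH).1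
      have h2 : (w : G) • (g : G) • a = (g : G) • a := by
        rw [← hwy', mul_smul, mul_smul, inv_smul_smul,
          show (y : G) • a = a from StrongEmbed.smul_mk_one_iff.2 (mem_inf.1 hy).1]
      exact hg ⟨StrongEmbed.smul_mk_one_iff.1
        (smul_left_cancel c ((key _ h2).trans (key _ h1).symm)), g.2⟩
  by_cases hu : ∀ x ∈ S, x * x = 1 → x = 1 ∨ x = z
  · have he := QuatClosed.inf_normalClosure_eq T hsc
      (S := S) (z := z) ⟨hzS, Invol.ne_one hz, hzz, hu⟩
    exact ⟨hse fun x hx _ => he.le hx, Or.inl he.symm, fun _ => he.symm⟩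
  push Not at hu
  obtain ⟨u, hu, hu2, hu1, huz⟩ := hu
  have huz' : z * u = u * z := (hzT u (hsc.1 hu)).symm
  have hrank : ¬ Cfsg.PRankLE 2 1 ↥S := by
    intro hle
    set z' : S := ⟨z, hzS⟩
    set u' : S := ⟨u, hu⟩
    set A := closure ({z', u'} : Set S)
    have hA : IsMulCommutative A := isMulCommutative_closure (by
      rintro x (rfl | rfl) y (rfl | rfl) <;>
        first
          | rfl
          | exact Subtype.ext huz'
          | exact Subtype.ext huz'.symm)
    have hA2 : ∀ x ∈ A, x ^ 2 = 1 := by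
      intro x hx
      have hcomm := hA.is_comm.comm
      induction hx using closure_induction with
      | mem x hx =>
        rcases hx with rfl | rfl
        · exact Subtype.ext (by rw [Subgroup.coe_pow, sq]; exact hzz)
        · exact Subtype.ext (by rw [Subgroup.coe_pow, sq]; exact hu2)
      | one => exact one_pow 2
      | mul x y hx hy ihx ihy =>
        rw [(show Commute x y from congrArg Subtype.val (hcomm ⟨x, hx⟩ ⟨y, hy⟩)).mul_pow, ihx, ihy,
          one_mul]
      | inv x _ ihx => rw [inv_pow, ihx, inv_one]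
    have h := hle A hA hA2
    haveI := Fintype.ofFinite A
    rw [Nat.card_eq_fintype_card] at h
    have h3 : 2 < Fintype.card A := Fintype.two_lt_card_iff.2
      ⟨1, ⟨z', subset_closure (Or.inl rfl)⟩, ⟨u', subset_closure (Or.inr rfl)⟩,
        fun e => Invol.ne_one hz (congrArg (fun w : A => ((w : S) : G)) e.symm),
        fun e => hu1 (congrArg (fun w : A => ((w : S) : G)) e.symm),
        fun e => huz (congrArg (fun w : A => ((w : S) : G)) e.symm)⟩
    norm_num at h
    omega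
  -- the permutation group
  let P := (MulAction.toPermHom G (G ⧸ H)).range
  let f : G →* P := (MulAction.toPermHom G (G ⧸ H)).rangeRestrict
  have hfs : Function.Surjective f := MonoidHom.rangeRestrict_surjective _
  have hact : ∀ (g : G) (b : G ⧸ H), f g • b = g • b := fun _ _ => rfl
  haveI : IsPretransitive P (G ⧸ H) := ⟨fun b c => by
    obtain ⟨g, hg⟩ := exists_smul_eq G b c
    exact ⟨f g, hg⟩⟩
  haveI : FaithfulSMul P (G ⧸ H) := ⟨fun {g g'} he => Subtype.ext (Equiv.ext he)⟩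
  have hstP : Setting P (G ⧸ H) a (f z) := hst.image
  have hconcl : Concl P (G ⧸ H) (f z) :=
    Act.concl_of_core hcore (Nat.card P + 1) P (G ⧸ H) (Nat.lt_succ_self _) a (f z) hstP
  obtain ⟨b₀, hb₀⟩ := hst.moved
  have hinj : ∀ s ∈ S, f s = 1 → s = 1 := fun s hs h => by_contra fun hs1 =>
    hb₀ (hone s hs hs1 b₀ (by rw [← hact, h, one_smul]))
  have hord : ∀ s ∈ S, s * s = 1 → s ≠ 1 → orderOf (f s) = 2 := fun s hs h1 h2 =>
    Invol.orderOf_eq_two (by rw [← map_mul, h1, map_one]) fun e => h2 (hinj s hs e)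
  have himg : ImageHyp a (f z) (T.mapSurjective hfs) (S.map f) := by
    refine ⟨hstP, hconcl, ?_, ?_, mem_map_of_mem f hzS, ?_, f z, mem_map_of_mem f hzS, f u,
      mem_map_of_mem f hu, hord z hzS hzz (Invol.ne_one hz), hord u hu hu2 hu1, fun e => huz ?_, ?_⟩
    · rw [Sylow.coe_mapSurjective]
      rintro _ ⟨t, ht, rfl⟩
      rw [hact]
      exact StrongEmbed.smul_mk_one_iff.2 (hTH ht)
    · rw [Sylow.coe_mapSurjective]
      exact stronglyClosed_map_surj hsc f hfs
    · rintro _ ⟨s, hs, rfl⟩ hs1 b hb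
      exact hone s hs (fun e => hs1 (by rw [e, map_one])) b (by rwa [hact] at hb)
    · exact (inv_mul_eq_one.1 (hinj _ (mul_mem (inv_mem hzS) hu)
        (by rw [map_mul, map_inv, e, inv_mul_cancel]))).symm
    · rw [← map_mul, ← map_mul, huz']
  obtain ⟨hXK, h3, hclass, hcases⟩ := himg.main
  have hXf : X.map f = normalClosure ({f z} : Set P) := by
    rw [hX, map_normalClosure _ f hfs, ← coe_map]
    exact hXK
  rw [Sylow.coe_mapSurjective] at hcases
  have hdata : ImageData f T S := by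
    rcases hcases with heq | ⟨hel, -, hcomm⟩
    · refine Or.inl fun t ht htX => ?_
      have hft : f t ∈ S.map f := heq ▸ mem_inf.2 ⟨mem_map_of_mem f ht, hXf ▸ htX⟩
      obtain ⟨s, hs, hse'⟩ := hft
      exact ⟨s, hs, hse'.symm⟩
    · have hel' : ∀ s ∈ S, s * s = 1 := fun s hs =>
        hinj _ (mul_mem hs hs) (by rw [map_mul]; exact hel _ (mem_map_of_mem f hs))
      refine Or.inr ⟨hel', fun t ht htX s hs =>
        hcomm _ (mem_inf.2 ⟨mem_map_of_mem f ht, hXf ▸ htX⟩) _ (mem_map_of_mem f hs), ?_,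
        ⟨z, hzS, u, hu, Invol.ne_one hz, hu1, Ne.symm huz⟩, ?_⟩
      · intro p hp hp2 hp1 s hs hs1
        obtain ⟨x', hx', hxp⟩ := hclass p (hXf ▸ hp) hp2 hp1 (f s) (mem_map_of_mem f hs)
          (hord s hs (hel' s hs) hs1)
        rw [← hXf] at hx'
        obtain ⟨x, hx, rfl⟩ := hx'
        exact ⟨x, hx, by rw [map_mul, map_mul, map_inv]; exact hxp⟩
      · exact h3.congr (MulEquiv.subgroupCongr hXf)
  have hlift : ∀ x ∈ (T : Subgroup G) ⊓ X, f x ∈ S.map f → x ∈ S := by
    rintro x hx ⟨s, hs, hsx⟩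
    have := eq_one_of_mem_ker f T hsc hinj hdata (t := s⁻¹ * x)
      (mul_mem (inv_mem (hsc.1 hs)) hx.1) (mul_mem (inv_mem (hSX hs)) hx.2)
      (by rw [map_mul, map_inv, hsx, inv_mul_cancel])
    rwa [← inv_mul_eq_one.1 this]
  rcases hcases with heq | ⟨hel, hinvK, -⟩
  · have he : S = (T : Subgroup G) ⊓ X := le_antisymm (le_inf hsc.1 hSX) fun x hx =>
      hlift x hx (heq ▸ mem_inf.2 ⟨mem_map_of_mem f hx.1, hXf ▸ mem_map_of_mem f hx.2⟩)
    exact ⟨hse fun x hx _ => he.ge hx, Or.inl he, fun h => absurd h hrank⟩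
  · have hinv : ∀ x ∈ (T : Subgroup G) ⊓ X, x * x = 1 → x ∈ S := fun x hx h2 =>
      hlift x hx (hinvK _ (mem_inf.2 ⟨mem_map_of_mem f hx.1, hXf ▸ mem_map_of_mem f hx.2⟩)
        (by rw [← map_mul, h2, map_one]))
    have hsq : ∀ s ∈ S, s ^ 2 = 1 := fun s hs =>
      hinj _ (pow_mem hs 2) (by rw [map_pow, sq]; exact hel _ (mem_map_of_mem f hs))
    refine ⟨hse hinv, Or.inr (le_antisymm ?_ ?_), fun h => absurd h hrank⟩
    · intro s hs
      exact subset_closure (show s ∈ {x : G | x ∈ (T : Subgroup G) ⊓ X ∧ x ^ 2 = 1} from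
        ⟨⟨hsc.1 hs, hSX hs⟩, hsq s hs⟩)
    · refine (closure_le _).2 fun x hx => hinv x hx.1 ?_
      rw [← sq]
      exact hx.2

end CfsgLib.Criterion.ClosedOvergroup
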