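import Cfsg.Agent.Criterion.Action.Setting
import Cfsg.Agent.Criterion.Setting
import Mathlib.GroupTheory.GroupAction.ConjAct

/-!
Facts about the faithful setting with local data: products of conjugates of `z` at different points
have odd order, an involution commutes with a swapper, and the translates of a bad involution by the
conjugates of `z` commuting with it are bad.
-/

set_option autoImplicit false
set_option linter.unusedSectionVars false
set_option linter.style.haveILetI false

namespace CfsgLib.Criterion.Act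

open Subgroup MulAction

/-- The local data at every involution fixing two points. -/
def Loc (G Ω : Type*) [Group G] [MulAction G Ω] (z : G) : Prop :=
  ∀ t : G, orderOf t = 2 → (∃ b c : Ω, b ≠ c ∧ t • b = b ∧ t • c = c) → LocalConcl G Ω z t

section General

variable {G : Type*} [Group G]

theorem commute_centralizer {t g : G} (h : g ∈ centralizer ({t} : Set G)) : g * t = t * g :=
  mem_centralizer_singleton_iff.1 h

/-- Two involutions whose product has odd order are conjugate by a power of the product. -/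
theorem conj_of_odd [Finite G] {x y : G} (hx : x * x = 1) (hy : y * y = 1) (ho : Odd (orderOf (x * y))) :
    ∃ g ∈ zpowers (x * y), g * y * g⁻¹ = x := by
  obtain ⟨k, hk⟩ := ho
  have hxi : x⁻¹ = x := inv_eq_of_mul_eq_one_right hx
  have hyi : y⁻¹ = y := inv_eq_of_mul_eq_one_right hy
  set r := x * y with hr
  have hyr : ∀ j : ℕ, y * r ^ j * y⁻¹ = (r ^ j)⁻¹ := fun j => by
    rw [← conj_pow, ← inv_pow]
    congr 1
    rw [hr, mul_inv_rev, hxi, hyi]
    rw [mul_assoc, mul_assoc, hy, mul_one]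
  refine ⟨r ^ (k + 1), pow_mem (mem_zpowers r) _, ?_⟩
  have h1 : y * (r ^ (k + 1))⁻¹ = r ^ (k + 1) * y := by
    have h := hyr (k + 1)
    rw [← h]
    simp only [hyi]
    rw [← mul_assoc, ← mul_assoc, hy, one_mul]
  rw [mul_assoc, h1, ← mul_assoc, ← pow_add,
    show k + 1 + (k + 1) = orderOf r + 1 by omega, pow_succ, pow_orderOf_eq_one, one_mul, hr,
    mul_assoc, hy, mul_one]

/-- In a dihedral group generated by two conjugates of an involution all translates of the first
by powers of the product are again conjugates. -/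
theorem isConj_mul_pow {z x y : G} (hx : IsConj z x) (hy : IsConj z y) (hx2 : x * x = 1)
    (hy2 : y * y = 1) (j : ℕ) : IsConj z (x * (x * y) ^ j) := by
  have hxi : x⁻¹ = x := inv_eq_of_mul_eq_one_right hx2
  have hyi : y⁻¹ = y := inv_eq_of_mul_eq_one_right hy2
  induction j using Nat.strong_induction_on with
  | _ j ih =>
    match j with
    | 0 => simpa using hx
    | 1 => rw [pow_one, ← mul_assoc, hx2, one_mul]; exact hy
    | j + 2 =>
      refine (ih j (by omega)).trans (isConj_iff.2 ⟨(x * y)⁻¹, ?_⟩)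
      calc (x * y)⁻¹ * (x * (x * y) ^ j) * ((x * y)⁻¹)⁻¹
          = (x * y)⁻¹ * x * ((x * y) ^ j * (x * y)) := by group
        _ = y⁻¹ * (x⁻¹ * x) * ((x * y) ^ j * (x * y)) := by group
        _ = x * (x * y) * ((x * y) ^ j * (x * y)) := by
            rw [inv_mul_cancel, mul_one, hyi, ← mul_assoc x x y, hx2, one_mul]
        _ = x * (x * y) ^ (j + 2) := by rw [← pow_succ, mul_assoc, ← pow_succ']

/-- The central involution of a dihedral group of twice even order. -/
theorem dihedral_central [Finite G] {x y : G} (hx : x * x = 1) (hy : y * y = 1)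
    (he : Even (orderOf (x * y))) :
    ∃ m : ℕ, 2 * m = orderOf (x * y) ∧ orderOf ((x * y) ^ m) = 2 ∧
      (x * y) ^ m * x = x * (x * y) ^ m ∧ (x * y) ^ m * y = y * (x * y) ^ m := by
  obtain ⟨m, hm⟩ := he
  set r := x * y with hr
  have hpos := orderOf_pos r
  have h2 : r ^ m * r ^ m = 1 := by rw [← pow_add, ← hm, pow_orderOf_eq_one]
  have hne : r ^ m ≠ 1 := fun e => by
    have := Nat.le_of_dvd (by omega) (orderOf_dvd_of_pow_eq_one e)
    omega
  have hxi : x⁻¹ = x := inv_eq_of_mul_eq_one_right hx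
  have hyi : y⁻¹ = y := inv_eq_of_mul_eq_one_right hy
  have hinv : (r ^ m)⁻¹ = r ^ m := inv_eq_of_mul_eq_one_right h2
  have hcx : r ^ m * x = x * r ^ m := by
    have h : x * r ^ m * x⁻¹ = r ^ m := by
      rw [← conj_pow, ← hinv, ← inv_pow]
      congr 1
      rw [hr, mul_inv_rev, hxi, hyi, ← mul_assoc, hx, one_mul]
    exact (mul_inv_eq_iff_eq_mul.1 h).symm
  refine ⟨m, by omega, orderOf_eq_prime (by rw [sq]; exact h2) hne, hcx, ?_⟩
  have hy' : y = x * r := by rw [hr, ← mul_assoc, hx, one_mul]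
  rw [hy', ← mul_assoc, hcx, mul_assoc, ← pow_succ, pow_succ', ← mul_assoc]

end General

namespace Setting

variable {G Ω : Type*} [Group G] [Finite G] [MulAction G Ω] [Finite Ω] [IsPretransitive G Ω]
  [FaithfulSMul G Ω] {a : Ω} {z : G} (h : Setting G Ω a z)
include h

theorem point_unique {x : G} (hx : IsConj z x) {b c : Ω} (hb : x • b = b) (hc : x • c = c) :
    b = c := by
  obtain ⟨-, p, hp⟩ := h.conj_fix hx
  rw [(hp b).1 hb, (hp c).1 hc]

theorem ne_of_two_fix {x t : G} (hx : IsConj z x) {b c : Ω} (hbc : b ≠ c) (hb : t • b = b)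
    (hc : t • c = c) : x ≠ t := fun e => hbc (h.point_unique hx (e ▸ hb) (e ▸ hc))

omit [FaithfulSMul G Ω] in
/-- The local data at all involutions from the local data at those commuting with `z`. -/
theorem loc_of (hloc : ∀ t : G, orderOf t = 2 → t * z = z * t → (∃ b : Ω, b ≠ a ∧ t • b = b) →
    LocalConcl G Ω z t) : Loc G Ω z := by
  intro t ht ⟨b, c, hbc, htb, htc⟩
  have ht2 : t * t = 1 := by rw [← sq, ← ht, pow_orderOf_eq_one]
  obtain ⟨x, hx, hxb, hxt⟩ := h.exists_commuting ht2 htb
  obtain ⟨g, rfl⟩ := isConj_iff.1 hx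
  have hga : g • a = b := (hxb _).1 (by rw [mul_smul, mul_smul, inv_smul_smul, (h.fix a).2 rfl])
  set t' := g⁻¹ * t * g with ht'
  have hC := hloc t' ((orderOf_injective (MulAut.conj g⁻¹).toMonoidHom
      (MulAut.conj g⁻¹).injective t).symm.trans (by simp [ht']) |>.symm.trans ht) (by
      calc g⁻¹ * t * g * z = g⁻¹ * (t * (g * z * g⁻¹)) * g := by group
        _ = g⁻¹ * (g * z * g⁻¹ * t) * g := by rw [hxt]
        _ = z * (g⁻¹ * t * g) := by group)
    ⟨g⁻¹ • c, fun e => hbc (by rw [← hga, ← inv_smul_eq_iff.1 e]), by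
      rw [ht', mul_smul, mul_smul, smul_inv_smul, htc]⟩
  have hmap : ∀ y ∈ localGroup z t, g⁻¹ * y * g ∈ localGroup z t' := by
    intro y hy
    have hle : localGroup z t ≤ (localGroup z t').comap (MulAut.conj g⁻¹).toMonoidHom :=
      (closure_le _).2 fun w ⟨hw, hwt⟩ => subset_closure ⟨hw.trans (isConj_iff.2 ⟨g⁻¹, rfl⟩), by
        show g⁻¹ * w * g⁻¹⁻¹ * t' = t' * (g⁻¹ * w * g⁻¹⁻¹)
        rw [ht', inv_inv]
        calc g⁻¹ * w * g * (g⁻¹ * t * g) = g⁻¹ * (w * t) * g := by group
          _ = g⁻¹ * (t * w) * g := by rw [hwt]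
          _ = g⁻¹ * t * g * (g⁻¹ * w * g) := by group⟩
    simpa using hle hy
  intro y hy hsq ⟨e, hte, hye⟩ p q htp htq hyp hyq
  have hfix : ∀ d : Ω, t' • d = d → t • (g • d) = g • d := fun d hd => by
    rw [ht', mul_smul, mul_smul, inv_smul_eq_iff] at hd
    exact hd
  have hfix' : ∀ d : Ω, t • d = d → t' • (g⁻¹ • d) = g⁻¹ • d := fun d hd => by
    rw [ht', mul_smul, mul_smul, smul_inv_smul, hd]
  have := hC _ (hmap y hy) (fun d hd => by
      rw [show g⁻¹ * y * g * (g⁻¹ * y * g) = g⁻¹ * (y * y) * g by group, mul_smul, mul_smul,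
        hsq _ (hfix d hd), inv_smul_smul])
    ⟨g⁻¹ • e, hfix' e hte, by rw [mul_smul, mul_smul, smul_inv_smul]; exact fun he => hye (smul_left_cancel _ he)⟩
    (g⁻¹ • p) (g⁻¹ • q) (hfix' p htp) (hfix' q htq)
    (by rw [mul_smul, mul_smul, smul_inv_smul, hyp]) (by rw [mul_smul, mul_smul, smul_inv_smul, hyq])
  exact smul_left_cancel _ this

/-- Commuting conjugates of `z` agreeing on two points are equal. -/
theorem eq_of_agree {x y : G} (hx : IsConj z x) (hy : IsConj z y) (hxy : x * y = y * x) {b c : Ω}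
    (hbc : b ≠ c) (hb : x • b = y • b) (hc : x • c = y • c) : x = y := by
  by_contra hne
  have key : ∀ d : Ω, x • d = y • d → (x * y) • d = d := fun d hd => by
    rw [mul_smul, ← hd, ← mul_smul, (h.conj_fix hx).1, one_smul]
  exact hbc (h.pair x y hx hy hxy hne b c (key b hb) (key c hc))

/-- Conjugates of `z` agreeing on the fixed points of an involution have product of odd order. -/
theorem odd_of_agree {t x y : G} {b c : Ω} (hbc : b ≠ c) (htb : t • b = b) (htc : t • c = c)
    (hx : IsConj z x) (hy : IsConj z y) (hxy : ∀ d : Ω, t • d = d → x • d = y • d) :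
    Odd (orderOf (x * y)) := by
  obtain ⟨hx2, -⟩ := h.conj_fix hx
  obtain ⟨hy2, -⟩ := h.conj_fix hy
  refine Nat.not_even_iff_odd.1 fun he => ?_
  obtain ⟨m, hm, hw, hwx, -⟩ := dihedral_central hx2 hy2 he
  set r := x * y
  have hr : ∀ d : Ω, t • d = d → (x * y⁻¹) • d = x • x • d → r • d = d := fun d _ hd => by
    rw [show r = x * y⁻¹ by rw [inv_eq_of_mul_eq_one_right hy2], hd, ← mul_smul, hx2, one_smul]
  have hrd : ∀ d : Ω, t • d = d → r • d = d := fun d hd => by
    have h1 : y • d = x • d := (hxy d hd).symm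
    rw [show r = x * y from rfl, mul_smul, h1, ← mul_smul, hx2, one_smul]
  have hpow : ∀ (j : ℕ) (d : Ω), t • d = d → (r ^ j) • d = d := fun j d hd => by
    induction j with
    | zero => rw [pow_zero, one_smul]
    | succ j ih => rw [pow_succ, mul_smul, hrd d hd, ih]
  have hxx' : x * (x * r ^ m) = x * r ^ m * x := by rw [mul_assoc x (r ^ m) x, hwx]
  have := h.eq_of_agree hx (isConj_mul_pow hx hy hx2 hy2 m) hxx' hbc
    (by rw [mul_smul, hpow m b htb]) (by rw [mul_smul, hpow m c htc])
  rw [eq_comm, mul_eq_left] at this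
  rw [this, orderOf_one] at hw
  exact absurd hw (by decide)

variable (hL : Loc G Ω z)
include hL

/-- Conjugates of `z` fixing different points have product of odd order. -/
theorem odd_mul {x y : G} (hx : IsConj z x) (hy : IsConj z y) {p q : Ω} (hp : x • p = p)
    (hq : y • q = q) (hpq : p ≠ q) : Odd (orderOf (x * y)) := by
  obtain ⟨hx2, p', hp'⟩ := h.conj_fix hx
  obtain ⟨hy2, q', hq'⟩ := h.conj_fix hy
  rw [(hp' p).1 hp] at hpq hp
  rw [(hq' q).1 hq] at hpq hq
  refine Nat.not_even_iff_odd.1 fun he => ?_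
  obtain ⟨m, hm, hw2, hwx, hwy⟩ := dihedral_central hx2 hy2 he
  set w := (x * y) ^ m with hwdef
  have hwp : w • p' = p' := h.fix_of_commute hp' hwx
  have hwq : w • q' = q' := h.fix_of_commute hq' hwy
  set r := x * y with hr
  have hrw : r * w = w * r := (Commute.refl r).pow_right m
  have hrfix : ∀ d : Ω, w • d = d → w • (r • d) = r • d := fun d hd => by
    rw [← mul_smul, ← hrw, mul_smul, hd]
  have hrL : r ∈ localGroup z w :=
    mul_mem (subset_closure ⟨hx, hwx.symm⟩) (subset_closure ⟨hy, hwy.symm⟩)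
  -- the least even exponent acting trivially
  have hex : ∃ e, 0 < e ∧ ∀ d : Ω, w • d = d → (r ^ e) • d = d :=
    ⟨orderOf r, orderOf_pos r, fun d _ => by rw [pow_orderOf_eq_one, one_smul]⟩
  classical
  obtain ⟨he0, hetriv⟩ := Nat.find_spec hex
  set e := Nat.find hex
  rcases Nat.even_or_odd e with ⟨k, hk⟩ | hodd
  · set j := r ^ k with hj
    have hj2 : ∀ d : Ω, w • d = d → (j * j) • d = d := fun d hd => by
      rw [hj, ← pow_add, ← hk, hetriv d hd]
    have hjmv : ∃ d : Ω, w • d = d ∧ j • d ≠ d := by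
      by_contra hcon
      push Not at hcon
      exact Nat.find_min hex (show k < e by omega) ⟨by omega, hcon⟩
    -- `j` fixes both points
    have hfix : ∀ (u : G) (o : Ω), (∀ d, u • d = d ↔ d = o) → u * u = 1 → u * r * u⁻¹ = r⁻¹ →
        u * w = w * u → w • o = o → j • o = o := by
      intro u o ho hu2 hinv huw hwo
      refine (ho _).1 ?_
      have hju : u * j = j⁻¹ * u := by
        rw [← mul_inv_eq_iff_eq_mul, hj, ← conj_pow, hinv, inv_pow]
      rw [← mul_smul, hju, mul_smul, (ho o).2 rfl, inv_smul_eq_iff, ← mul_smul, hj2 o hwo]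
    have hxr : x * r * x⁻¹ = r⁻¹ := by
      rw [hr, mul_inv_rev, inv_eq_of_mul_eq_one_right hx2, inv_eq_of_mul_eq_one_right hy2,
        ← mul_assoc, hx2, one_mul]
    have hyr : y * r * y⁻¹ = r⁻¹ := by
      rw [hr, mul_inv_rev, inv_eq_of_mul_eq_one_right hx2, inv_eq_of_mul_eq_one_right hy2,
        mul_assoc, mul_assoc, hy2, mul_one]
    exact hpq (hL w hw2 ⟨p', q', hpq, hwp, hwq⟩ j (pow_mem hrL k) hj2 hjmv p' q' hwp hwq
      (hfix x p' hp' hx2 hxr hwx.symm hwp) (hfix y q' hq' hy2 hyr hwy.symm hwq))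
  · -- `x r^(e+1)` is a conjugate agreeing with `y`
    have hy' : y = x * r := by rw [hr, ← mul_assoc, hx2, one_mul]
    have hodd' := h.odd_of_agree (t := w) hpq hwp hwq hx (isConj_mul_pow hx hy hx2 hy2 e)
      fun d hd => by rw [mul_smul, hetriv d hd]
    rw [← mul_assoc, hx2, one_mul] at hodd'
    -- so the product has odd order
    have h1 : (r ^ e) ^ orderOf (r ^ e) = 1 := pow_orderOf_eq_one _
    rw [← pow_mul] at h1
    have := (hodd.mul hodd').of_dvd_nat (orderOf_dvd_of_pow_eq_one h1)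
    exact Nat.not_even_iff_odd.2 this he

/-- An involution moving a point commutes with a conjugate of `z` exchanging this point and its
image. -/
theorem exists_swap_commute {v : G} (hv : v * v = 1) {c : Ω} (hc : v • c ≠ c) :
    ∃ w, IsConj z w ∧ w • c = v • c ∧ w * v = v * w := by
  classical
  haveI := Fintype.ofFinite Ω
  haveI := Fintype.ofFinite G
  let Zs : Finset G := Finset.univ.filter fun x => IsConj z x
  let Zp : Ω → Finset G := fun p => Zs.filter fun x => x • p = p
  let X : Ω → Ω → Finset G := fun p q => Zs.filter fun x => x • p = q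
  have hm : ∀ p, (Zp p).card = (Zp a).card := fun p => by
    obtain ⟨g, rfl⟩ := exists_smul_eq G a p
    refine Finset.card_bij' (fun x _ => g⁻¹ * x * g) (fun x _ => g * x * g⁻¹) ?_ ?_ ?_ ?_
    · intro x hx
      simp only [Zp, Zs, Finset.mem_filter, Finset.mem_univ, true_and] at hx ⊢
      exact ⟨hx.1.trans (isConj_iff.2 ⟨g⁻¹, by group⟩), by
        rw [mul_smul, mul_smul, hx.2, inv_smul_smul]⟩
    · intro x hx
      simp only [Zp, Zs, Finset.mem_filter, Finset.mem_univ, true_and] at hx ⊢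
      exact ⟨hx.1.trans (isConj_iff.2 ⟨g, rfl⟩), by
        rw [mul_smul, mul_smul, inv_smul_smul, hx.2]⟩
    · intro x _; group
    · intro x _; group
  have hge : ∀ p q, p ≠ q → (Zp q).card ≤ (X p q).card := by
    intro p q hpq
    obtain ⟨s, hs, hsp, -⟩ := h.exists_central (Q := ⊥) IsPGroup.of_bot (b := p) (fun y hy => by
      rw [mem_bot.1 hy, one_smul])
    obtain ⟨hs2, -⟩ := h.conj_fix hs
    have hmid : ∀ y ∈ Zp q, ∃ w, IsConj z w ∧ w * s * w⁻¹ = y ∧ w • p = q := by
      intro y hy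
      simp only [Zp, Zs, Finset.mem_filter, Finset.mem_univ, true_and] at hy
      obtain ⟨hy2, q', hq'⟩ := h.conj_fix hy.1
      obtain ⟨g, hg, hgy⟩ := conj_of_odd hy2 hs2
        (h.odd_mul hL hy.1 hs hy.2 ((hsp p).2 rfl) (Ne.symm hpq))
      obtain ⟨j, rfl⟩ := mem_powers_iff_mem_zpowers.2 hg
      -- `g s` is the middle element
      have hgs : IsConj z ((y * s) ^ j * s) := by
        have hi : s * (y * s) * s⁻¹ = (y * s)⁻¹ := by
          rw [mul_inv_rev, inv_eq_of_mul_eq_one_right hs2, inv_eq_of_mul_eq_one_right hy2,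
            mul_assoc, mul_assoc, hs2, mul_one]
        have e : (y * s) ^ j * s = s * (s * y) ^ (j * 1) := by
          rw [mul_one]
          have h1 : s * (y * s) ^ j * s⁻¹ = ((y * s) ^ j)⁻¹ := by rw [← conj_pow, hi, inv_pow]
          have h2 : (s * y) = (y * s)⁻¹ := by
            rw [mul_inv_rev, inv_eq_of_mul_eq_one_right hs2, inv_eq_of_mul_eq_one_right hy2]
          rw [h2, inv_pow, ← h1, inv_eq_of_mul_eq_one_right hs2, ← mul_assoc, ← mul_assoc, hs2, one_mul]
        rw [e]
        exact isConj_mul_pow hs hy.1 hs2 hy2 _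
      refine ⟨(y * s) ^ j * s, hgs, ?_, ?_⟩
      · calc (y * s) ^ j * s * s * ((y * s) ^ j * s)⁻¹ = (y * s) ^ j * s * ((y * s) ^ j)⁻¹ := by group
          _ = y := hgy
      · rw [mul_smul, (hsp p).2 rfl]
        have hgy' : (y * s) ^ j * s * ((y * s) ^ j)⁻¹ = y := hgy
        refine ((hq' _).1 ?_).trans ((hq' q).1 hy.2).symm
        calc y • ((y * s) ^ j • p) = ((y * s) ^ j * s * ((y * s) ^ j)⁻¹) • ((y * s) ^ j • p) := by
              rw [hgy']
          _ = (y * s) ^ j • p := by rw [mul_smul, mul_smul, inv_smul_smul, (hsp p).2 rfl]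
    choose f hf using hmid
    refine Finset.card_le_card_of_injOn (fun y => if hy : y ∈ Zp q then f y hy else 1) ?_ ?_
    · intro y hy
      simp only [Finset.mem_coe] at hy ⊢
      rw [dif_pos hy]
      simp only [X, Zs, Finset.mem_filter, Finset.mem_univ, true_and]
      exact ⟨(hf y hy).1, (hf y hy).2.2⟩
    · intro y hy y' hy' e
      simp only [Finset.mem_coe] at hy hy'
      simp only [dif_pos hy, dif_pos hy'] at e
      rw [← (hf y hy).2.1, ← (hf y' hy').2.1, e]
  -- the count
  have hpart : ∀ p, Zs.card = ∑ q, (X p q).card := fun p =>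
    Finset.card_eq_sum_card_fiberwise fun x _ => Finset.mem_univ (x • p)
  have hn : Zs.card = Fintype.card Ω * (Zp a).card := by
    have e : Zs.card = ∑ p, (Zp p).card := by
      rw [← Finset.card_biUnion]
      · congr 1
        ext x
        simp only [Zp, Zs, Finset.mem_biUnion, Finset.mem_filter, Finset.mem_univ, true_and]
        refine ⟨fun hx => ?_, fun ⟨_, hx, _⟩ => hx⟩
        obtain ⟨-, p, hp⟩ := h.conj_fix hx
        exact ⟨p, hx, (hp p).2 rfl⟩
      · intro p _ q _ hpq
        refine Finset.disjoint_left.2 fun x hxp hxq => hpq ?_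
        simp only [Zp, Zs, Finset.mem_filter, Finset.mem_univ, true_and] at hxp hxq
        exact h.point_unique hxp.1 hxp.2 hxq.2
    rw [e, Finset.sum_congr rfl fun p _ => hm p, Finset.sum_const, Finset.card_univ, smul_eq_mul]
  have hXeq : (X c (v • c)).card = (Zp a).card := by
    have hle : ∀ q ∈ (Finset.univ : Finset Ω), (Zp a).card ≤ (X c q).card := fun q _ => by
      by_cases hq : c = q
      · subst hq; exact (hm c).symm.le
      · exact (hm q).symm.le.trans (hge c q hq)
    have hsum : ∑ _q : Ω, (Zp a).card = ∑ q, (X c q).card := by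
      rw [← hpart c, hn, Finset.sum_const, Finset.card_univ, smul_eq_mul]
    exact ((Finset.sum_eq_sum_iff_of_le hle).1 hsum (v • c) (Finset.mem_univ _)).symm
  have hoddZ : Odd Zs.card := by
    haveI : Fact (Nat.Prime 2) := ⟨Nat.prime_two⟩
    obtain ⟨S, -, hS⟩ := h.central
    have e : Zs.card = (centralizer ({z} : Set G)).index := by
      have e1 : (centralizer ({z} : Set G)).index = Nat.card (orbit (ConjAct G) z) := by
        have e2 : (stabilizer (ConjAct G) z).index = (centralizer ({z} : Set G)).index := by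
          rw [ConjAct.stabilizer_eq_centralizer]; rfl
        rw [← e2, Nat.card_coe_set_eq, index_stabilizer]
      rw [e1, Nat.card_coe_set_eq, Set.ncard_eq_toFinset_card']
      congr 1
      ext x
      simp only [Zs, Finset.mem_filter, Finset.mem_univ, true_and, Set.mem_toFinset,
        ConjAct.mem_orbit_conjAct]
      exact isConj_comm
    rw [e]
    exact Nat.odd_iff.2 (Nat.two_dvd_ne_zero.1 fun hd => S.not_dvd_index
      (hd.trans (index_dvd_of_le fun s hs => mem_centralizer_singleton_iff.2 (hS s hs))))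
  have hoddm : Odd (Zp a).card := (Nat.odd_mul.1 (hn ▸ hoddZ)).2
  have hvi : v⁻¹ = v := inv_eq_of_mul_eq_one_right hv
  let σ : X c (v • c) → X c (v • c) := fun x => ⟨v * x.1 * v⁻¹, by
    have hx := x.2
    simp only [X, Zs, Finset.mem_filter, Finset.mem_univ, true_and] at hx ⊢
    refine ⟨hx.1.trans (isConj_iff.2 ⟨v, rfl⟩), ?_⟩
    calc (v * x.1 * v⁻¹) • c = v • x.1 • v • c := by rw [hvi, mul_smul, mul_smul]
      _ = v • x.1 • x.1 • c := by rw [hx.2]
      _ = v • c := by rw [← mul_smul x.1 x.1, (h.conj_fix hx.1).1, one_smul]⟩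
  obtain ⟨⟨w, hw⟩, hfw⟩ := exists_fixed (by
    rw [Nat.card_eq_fintype_card, Fintype.card_coe, hXeq]; exact hoddm) σ fun x => Subtype.ext (by
      show v * (v * x.1 * v⁻¹) * v⁻¹ = x.1
      rw [hvi, ← mul_assoc, ← mul_assoc, hv, one_mul, mul_assoc, hv, mul_one])
  simp only [X, Zs, Finset.mem_filter, Finset.mem_univ, true_and] at hw
  exact ⟨w, hw.1, hw.2, (mul_inv_eq_iff_eq_mul.1 (congrArg Subtype.val hfw)).symm⟩

/-- Conjugates of `z` commuting with a bad involution are conjugate in its centralizer. -/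
theorem exists_conj_commuting {v : G} (hv : v * v = 1) {b c : Ω} (hbc : b ≠ c) (hb : v • b = b)
    (hc : v • c = c) {x y : G} (hx : IsConj z x) (hy : IsConj z y) (hxv : x * v = v * x)
    (hyv : y * v = v * y) : ∃ g, g ∈ localGroup z v ∧ g * v = v * g ∧ g * x * g⁻¹ = y := by
  have key : ∀ x y : G, IsConj z x → IsConj z y → x * v = v * x → y * v = v * y →
      (∀ p : Ω, x • p = p → y • p ≠ p) →
      ∃ g, g ∈ localGroup z v ∧ g * x * g⁻¹ = y := by
    intro x y hx hy hxv hyv hne
    obtain ⟨hx2, p, hp⟩ := h.conj_fix hx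
    obtain ⟨hy2, q, hq⟩ := h.conj_fix hy
    obtain ⟨g, hg, hgx⟩ := conj_of_odd hy2 hx2 (h.odd_mul hL hy hx ((hq q).2 rfl) ((hp p).2 rfl)
      fun e => hne p ((hp p).2 rfl) ((hq p).2 e.symm))
    exact ⟨g, (zpowers_le.2 (mul_mem (show y ∈ localGroup z v from subset_closure ⟨hy, hyv⟩)
      (show x ∈ localGroup z v from subset_closure ⟨hx, hxv⟩))) hg, hgx⟩
  suffices ∃ g, g ∈ localGroup z v ∧ g * x * g⁻¹ = y by
    obtain ⟨g, hg, hgx⟩ := this
    exact ⟨g, hg, commute_centralizer (localGroup_le' z v hg), hgx⟩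
  by_cases hsame : ∀ p : Ω, x • p = p → y • p ≠ p
  · exact key x y hx hy hxv hyv hsame
  push Not at hsame
  obtain ⟨p, hxp, hyp⟩ := hsame
  obtain ⟨q, hqp, hvq⟩ : ∃ q, q ≠ p ∧ v • q = q := by
    by_cases hpb : p = b
    · exact ⟨c, hpb ▸ hbc.symm, hc⟩
    · exact ⟨b, Ne.symm hpb, hb⟩
  obtain ⟨w, hw, hwq, hwv⟩ := h.exists_commuting hv hvq
  have hwp : w • p ≠ p := fun e => hqp ((hwq p).1 e).symm
  obtain ⟨g, hg, hgx⟩ := key x w hx hw hxv hwv fun o ho => by
    rw [h.point_unique hx ho hxp]; exact hwp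
  obtain ⟨g', hg', hgy⟩ := key w y hw hy hwv hyv fun o ho => by
    intro hyo
    exact hwp ((h.point_unique hy hyo hyp) ▸ ho)
  exact ⟨g' * g, mul_mem hg' hg, by rw [← hgy, ← hgx]; group⟩
where
  localGroup_le' (z t : G) : localGroup z t ≤ centralizer ({t} : Set G) :=
    (closure_le _).2 fun _ hx => mem_centralizer_singleton_iff.2 hx.2

/-- Translates of a bad involution by commuting conjugates of `z` are bad. -/
theorem mul_not_oneFix {v : G} (hv : v * v = 1) (hv1 : v ≠ 1) {b c : Ω} (hbc : b ≠ c)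
    (hb : v • b = b) (hc : v • c = c) {x : G} (hx : IsConj z x) (hxv : x * v = v * x) :
    ¬ OneFix Ω (v * x) := by
  obtain ⟨d, hd⟩ : ∃ d : Ω, v • d ≠ d := by
    by_contra hcon
    push Not at hcon
    exact hv1 (eq_of_smul_eq_smul fun e : Ω => (hcon e).trans (one_smul G e).symm)
  obtain ⟨w, hw, hwd, hwv⟩ := h.exists_swap_commute hL hv hd
  obtain ⟨g, -, hgv, hgx⟩ := h.exists_conj_commuting hL hv hbc hb hc hw hx hwv hxv
  obtain ⟨hw2, e, he⟩ := h.conj_fix hw
  intro hone
  have hve : v • e = e := h.fix_of_commute he hwv.symm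
  have h1 : (v * x) • (g • d) = g • d := by
    rw [← hgx, ← mul_smul, show v * (g * w * g⁻¹) * g = g * (v * w) by
      rw [← mul_assoc, ← mul_assoc, ← hgv]; group]
    rw [mul_smul, mul_smul, hwd, ← mul_smul v v, hv, one_smul]
  have h2 : (v * x) • (g • e) = g • e := by
    rw [← hgx, ← mul_smul, show v * (g * w * g⁻¹) * g = g * (v * w) by
      rw [← mul_assoc, ← mul_assoc, ← hgv]; group]
    rw [mul_smul, mul_smul, (he e).2 rfl, hve]
  exact hd ((smul_left_cancel g (hone _ _ h1 h2)).symm ▸ hve)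

end Setting

end CfsgLib.Criterion.Act
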