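import Cfsg.Agent.Invol.IsolatedApps
import Cfsg.Agent.InvChar.UniqueInvolution
import Cfsg.Agent.GWApps.Tools
import Cfsg.Agent.LocalB.ClosedComplement
import Cfsg.Agent.LocalB.Embedded
import Cfsg.Prelude.Def_TwoFusion
import Mathlib.GroupTheory.SchurZassenhaus

/-!
Strongly closed 2-subgroups with one involution: the elementary facts and the normalizer of an axis.
-/

set_option autoImplicit false
set_option linter.unusedSectionVars false
set_option linter.style.haveILetI false

namespace CfsgLib.Criterion.QuatClosed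

open Subgroup

universe u

variable {G : Type u} [Group G]

/-- `z` is the only involution of `S`. -/
structure One (S : Subgroup G) (z : G) : Prop where
  mem : z ∈ S
  ne : z ≠ 1
  sq : z * z = 1
  uniq : ∀ x ∈ S, x * x = 1 → x = 1 ∨ x = z

/-- `x` maps the cyclic group of `a` onto the one of `b`. -/
def Mv (x a b : G) : Prop := x * a * x⁻¹ = b ∨ x * a * x⁻¹ = b⁻¹

theorem Mv.trans {x y a b c : G} (h₁ : Mv x a b) (h₂ : Mv y b c) : Mv (y * x) a c := by
  have e : y * x * a * (y * x)⁻¹ = y * (x * a * x⁻¹) * y⁻¹ := by group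
  rcases h₁ with h₁ | h₁ <;> rcases h₂ with h₂ | h₂
  · exact Or.inl (by rw [e, h₁, h₂])
  · exact Or.inr (by rw [e, h₁, h₂])
  · exact Or.inr (by rw [e, h₁, show y * b⁻¹ * y⁻¹ = (y * b * y⁻¹)⁻¹ by group, h₂])
  · exact Or.inl (by rw [e, h₁, show y * b⁻¹ * y⁻¹ = (y * b * y⁻¹)⁻¹ by group, h₂, inv_inv])

theorem Mv.symm {x a b : G} (h : Mv x a b) : Mv x⁻¹ b a := by
  rcases h with h | h
  · exact Or.inl (by rw [← h]; group)
  · exact Or.inr (by rw [← inv_inv b, ← h]; group)

theorem Mv.pow {x a : G} (h : Mv x a a) : ∀ n : ℕ, Mv (x ^ n) a a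
  | 0 => Or.inl (by simp)
  | n + 1 => by rw [pow_succ]; exact h.trans (Mv.pow h n)

theorem Mv.one (a : G) : Mv 1 a a := Or.inl (by simp)

theorem Mv.inv_iff {x a b : G} : Mv x a b ↔ Mv x a b⁻¹ := by
  unfold Mv; rw [inv_inv]; exact or_comm

/-- The elements mapping the cyclic group of `a` to itself. -/
def fixAxis (a : G) : Subgroup G where
  carrier := {x | Mv x a a}
  one_mem' := Mv.one a
  mul_mem' hx hy := Mv.trans hy hx
  inv_mem' h := Mv.symm h

theorem mem_fixAxis {a x : G} : x ∈ fixAxis a ↔ Mv x a a := Iff.rfl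

/-- An element of odd order fixing an axis centralizes it. -/
theorem comm_of_odd_mv {k a : G} (hk : Odd (orderOf k)) (h : Mv k a a) : k * a = a * k := by
  rcases h with h | h
  · exact mul_inv_eq_iff_eq_mul.1 h
  · have h2 : Mv k a a := Or.inr h
    have h4 : ∀ n : ℕ, k ^ (2 * n) * a * (k ^ (2 * n))⁻¹ = a ∧
        k ^ (2 * n + 1) * a * (k ^ (2 * n + 1))⁻¹ = a⁻¹ := by
      intro n
      induction n with
      | zero => simpa using h
      | succ n ih =>
        have e1 : k ^ (2 * (n + 1)) * a * (k ^ (2 * (n + 1)))⁻¹ = a := by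
          rw [show 2 * (n + 1) = 2 * n + 1 + 1 by ring, pow_succ' k (2 * n + 1),
            show k * k ^ (2 * n + 1) * a * (k * k ^ (2 * n + 1))⁻¹ =
              k * (k ^ (2 * n + 1) * a * (k ^ (2 * n + 1))⁻¹) * k⁻¹ by group, ih.2,
            show k * a⁻¹ * k⁻¹ = (k * a * k⁻¹)⁻¹ by group, h, inv_inv]
        refine ⟨e1, ?_⟩
        rw [pow_succ' k (2 * (n + 1)),
            show k * k ^ (2 * (n + 1)) * a * (k * k ^ (2 * (n + 1)))⁻¹ =
              k * (k ^ (2 * (n + 1)) * a * (k ^ (2 * (n + 1)))⁻¹) * k⁻¹ by group, e1, h]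
    obtain ⟨m, hm⟩ := hk
    have := (h4 m).2
    rw [← hm, pow_orderOf_eq_one] at this
    simp only [one_mul, inv_one, mul_one] at this
    rw [← this] at h
    exact mul_inv_eq_iff_eq_mul.1 h

namespace One

variable {S : Subgroup G} {z : G} (hS : One S z)
include hS

theorem inv_z : z⁻¹ = z := inv_eq_of_mul_eq_one_right hS.sq

theorem inv_four {a : G} (haa : a * a = z) : a⁻¹ = a * z := by
  refine inv_eq_of_mul_eq_one_right ?_
  rw [← mul_assoc, haa, hS.sq]

/-- Commuting elements with the same square differ at most by inversion. -/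
theorem eq_or_inv {a b : G} (ha : a ∈ S) (hb : b ∈ S) (haa : a * a = z) (hbb : b * b = z)
    (hc : a * b = b * a) : b = a ∨ b = a⁻¹ := by
  have h : a⁻¹ * b * (a⁻¹ * b) = 1 := by
    have h1 : b * a⁻¹ = a⁻¹ * b := (Commute.inv_left (show Commute a b from hc)).eq.symm
    rw [show a⁻¹ * b * (a⁻¹ * b) = a⁻¹ * (b * a⁻¹) * b by group, h1,
      show a⁻¹ * (a⁻¹ * b) * b = (a * a)⁻¹ * (b * b) by group, haa, hbb, inv_mul_cancel]
  rcases hS.uniq _ (mul_mem (inv_mem ha) hb) h with h | h
  · exact Or.inl (inv_mul_eq_one.1 h).symm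
  · exact Or.inr (by rw [inv_mul_eq_iff_eq_mul.1 h, ← hS.inv_four haa])

variable [Finite G] (hp : IsPGroup 2 S)
include hp

/-- A nontrivial element other than the involution powers to an element squaring to it. -/
theorem exists_four {x : G} (hx : x ∈ S) (h1 : x ≠ 1) (hz : x ≠ z) :
    ∃ m : ℕ, x ^ m * x ^ m = z := by
  haveI : Fact (Nat.Prime 2) := ⟨Nat.prime_two⟩
  obtain ⟨k, hk⟩ := IsPGroup.iff_orderOf.1 hp ⟨x, hx⟩
  rw [Subgroup.orderOf_mk] at hk
  match k, hk with
  | 0, hk => exact absurd (orderOf_eq_one_iff.1 (by simpa using hk)) h1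
  | 1, hk =>
    have : x * x = 1 := by
      have := pow_orderOf_eq_one x
      rwa [hk, pow_one, _root_.sq] at this
    exact absurd this fun h => (hS.uniq x hx h).elim h1 hz
  | j + 2, hk =>
    refine ⟨2 ^ j, ?_⟩
    rw [← pow_add, ← two_mul, ← pow_succ']
    refine (hS.uniq _ (pow_mem hx _) ?_).resolve_left fun h => ?_
    · rw [← pow_add, ← two_mul, ← pow_succ', ← hk, pow_orderOf_eq_one]
    · have := orderOf_dvd_of_pow_eq_one h
      rw [hk, Nat.pow_dvd_pow_iff_le_right (by norm_num)] at this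
      omega

/-- An element commuting with two axes is trivial up to the involution. -/
theorem eq_of_comm_axes {a b w : G} (ha : a ∈ S) (hb : b ∈ S) (haa : a * a = z) (hbb : b * b = z)
    (hab : a * b ≠ b * a) (hw : w ∈ S) (hwa : w * a = a * w) (hwb : w * b = b * w) :
    w = 1 ∨ w = z := by
  by_contra hne
  push Not at hne
  obtain ⟨m, hm⟩ := hS.exists_four hp hw hne.1 hne.2
  have hca : a * w ^ m = w ^ m * a := ((show Commute a w from hwa.symm).pow_right m).eq
  have hcb : b * w ^ m = w ^ m * b := ((show Commute b w from hwb.symm).pow_right m).eq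
  rcases hS.eq_or_inv ha (pow_mem hw m) haa hm hca with h | h
  · rw [h] at hcb; exact hab hcb.symm
  · rw [h] at hcb
    exact hab (Commute.inv_right_iff.1 (show Commute b a⁻¹ from hcb)).eq.symm

/-- An element moving an axis inverts it and squares to the involution. -/
theorem sq_of_not_comm {a s : G} (ha : a ∈ S) (haa : a * a = z) (hs : s ∈ S) (hm : Mv s a a)
    (hne : s * a ≠ a * s) : s * a * s⁻¹ = a⁻¹ ∧ s * s = z := by
  have hinv : s * a * s⁻¹ = a⁻¹ :=
    hm.resolve_left fun h => hne (mul_inv_eq_iff_eq_mul.1 h)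
  refine ⟨hinv, ?_⟩
  by_contra hss
  have hs1 : s * s ≠ 1 := fun h => by
    rcases hS.uniq s hs h with e | e
    · exact hne (by rw [e, one_mul, mul_one])
    · apply hne
      rw [e, ← haa, mul_assoc]
  obtain ⟨m, hm'⟩ := hS.exists_four hp (mul_mem hs hs) hs1 hss
  have hca : a * (s * s) = s * s * a := by
    have e : s * s * a * (s * s)⁻¹ = a := by
      rw [show s * s * a * (s * s)⁻¹ = s * (s * a * s⁻¹) * s⁻¹ by group, hinv,
        show s * a⁻¹ * s⁻¹ = (s * a * s⁻¹)⁻¹ by group, hinv, inv_inv]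
    exact (mul_inv_eq_iff_eq_mul.1 e).symm
  have hcs : Commute s ((s * s) ^ m) := ((Commute.refl s).mul_right (Commute.refl s)).pow_right m
  rcases hS.eq_or_inv ha (pow_mem (mul_mem hs hs) m) haa hm'
      ((show Commute a (s * s) from hca).pow_right m).eq with h | h
  · exact hne (by rw [← h]; exact hcs.eq)
  · exact hne (Commute.inv_right_iff.1 (h ▸ hcs)).eq

/-- Subgroups with a central element squaring to the involution are commutative. -/
theorem comm_of_central {a : G} (ha : a ∈ S) (haa : a * a = z) (hca : ∀ s ∈ S, s * a = a * s) :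
    ∀ x ∈ S, ∀ y ∈ S, x * y = y * x := by
  haveI : Fact (Nat.Prime 2) := ⟨Nat.prime_two⟩
  have hu : ∀ x y : S, orderOf x = 2 → orderOf y = 2 → y ∈ zpowers x := by
    intro x y hx hy
    have hinv : ∀ w : S, orderOf w = 2 → (w : G) = z := fun w hw => by
      have h2 : w * w = 1 := by rw [← _root_.sq, ← hw, pow_orderOf_eq_one]
      refine (hS.uniq _ w.2 (congrArg Subtype.val h2)).resolve_left fun e => ?_
      rw [show w = 1 from Subtype.ext e, orderOf_one] at hw
      exact absurd hw (by decide)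
    rw [show y = x from Subtype.ext ((hinv y hy).trans (hinv x hx).symm)]
    exact mem_zpowers x
  rcases CfsgLib.UniqueInvol.cyclic_or_quaternion hp hu with hc | ⟨-, n, hn, ⟨e⟩⟩
  · intro x hx y hy
    letI := hc.commGroup
    exact congrArg Subtype.val (mul_comm (⟨x, hx⟩ : S) ⟨y, hy⟩)
  · exfalso
    set g := e ⟨a, ha⟩ with hg
    have hcen : ∀ w, w * g = g * w := fun w => by
      obtain ⟨s, rfl⟩ := e.surjective w
      rw [hg, ← map_mul, ← map_mul, show s * ⟨a, ha⟩ = ⟨a, ha⟩ * s from Subtype.ext (hca s s.2)]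
    have hgg : g * g ≠ 1 := fun h => by
      have h2 : (⟨a, ha⟩ : S) * ⟨a, ha⟩ = 1 := e.injective (by rw [map_mul, map_one, ← hg, h])
      exact hS.ne (haa ▸ congrArg Subtype.val h2)
    haveI : NeZero (2 ^ n) := ⟨by positivity⟩
    have h2n : 2 ≤ 2 ^ n := by
      calc 2 = 2 ^ 1 := rfl
        _ ≤ 2 ^ n := Nat.pow_le_pow_right (by norm_num) hn
    revert hgg hcen
    generalize g = w
    intro hcen hgg
    cases w with
    | a i =>
      have h := hcen (QuaternionGroup.xa 0)
      rw [QuaternionGroup.xa_mul_a, QuaternionGroup.a_mul_xa] at h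
      simp only [QuaternionGroup.xa.injEq, zero_add, zero_sub] at h
      refine hgg ?_
      rw [QuaternionGroup.a_mul_a, QuaternionGroup.one_def]
      congr 1
      exact eq_neg_iff_add_eq_zero.1 h
    | xa i =>
      have h := hcen (QuaternionGroup.a 1)
      rw [QuaternionGroup.a_mul_xa, QuaternionGroup.xa_mul_a] at h
      simp only [QuaternionGroup.xa.injEq] at h
      have h2 : (1 + 1 : ZMod (2 * 2 ^ n)) = 0 := by linear_combination -h
      haveI : Fact (2 < 2 * 2 ^ n) := ⟨by omega⟩
      have h3 : ((2 : ℕ) : ZMod (2 * 2 ^ n)) = 0 := by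
        rw [← h2]; norm_num
      rw [CharP.cast_eq_zero_iff (ZMod (2 * 2 ^ n)) (2 * 2 ^ n)] at h3
      have := Nat.le_of_dvd (by norm_num) h3
      omega

/-- An element of odd order acting on an abelian subgroup with one involution centralizes it. -/
theorem comm_of_odd {A : Subgroup G} (hA : A ≤ S) (hab : ∀ x ∈ A, ∀ y ∈ A, x * y = y * x)
    {k : G} (hk : Odd (orderOf k)) (hkA : ∀ x ∈ A, k * x * k⁻¹ ∈ A) (hkz : k * z = z * k) :
    ∀ x ∈ A, k * x = x * k := by
  haveI : Fact (Nat.Prime 2) := ⟨Nat.prime_two⟩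
  suffices ∀ (j : ℕ) (x : G), x ∈ A → x ^ 2 ^ j = 1 → k * x = x * k by
    intro x hx
    obtain ⟨j, hj⟩ := hp ⟨x, hA hx⟩
    exact this j x hx (congrArg Subtype.val hj)
  intro j
  induction j with
  | zero =>
    intro x _ hx
    rw [pow_zero, pow_one] at hx
    rw [hx, mul_one, one_mul]
  | succ j ih =>
    intro x hx hxp
    have h2 : k * (x * x) = x * x * k := ih _ (mul_mem hx hx) (by
      rw [← _root_.sq, ← pow_mul, ← pow_succ']; exact hxp)
    set v := x⁻¹ * (k * x * k⁻¹) with hv
    have hvA : v ∈ A := mul_mem (inv_mem hx) (hkA x hx)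
    have hvv : v * v = 1 := by
      have hc : k * x * k⁻¹ * x⁻¹ = x⁻¹ * (k * x * k⁻¹) := hab _ (hkA x hx) _ (inv_mem hx)
      calc v * v = x⁻¹ * (k * x * k⁻¹ * x⁻¹) * (k * x * k⁻¹) := by rw [hv]; group
        _ = (x * x)⁻¹ * (k * (x * x) * k⁻¹) := by rw [hc]; group
        _ = 1 := by rw [h2]; group
    rcases hS.uniq v (hA hvA) hvv with h | h
    · rw [hv, inv_mul_eq_one] at h
      exact mul_inv_eq_iff_eq_mul.1 h.symm
    · exfalso
      have e : k * x * k⁻¹ = x * z := inv_mul_eq_iff_eq_mul.1 h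
      have hpow : ∀ i : ℕ, k ^ i * x * (k ^ i)⁻¹ = x * z ^ i := by
        intro i
        induction i with
        | zero => simp
        | succ i hi =>
          have hzk : k * z ^ i * k⁻¹ = z ^ i := by
            rw [((show Commute k z from hkz).pow_right i).eq, mul_inv_cancel_right]
          calc k ^ (i + 1) * x * (k ^ (i + 1))⁻¹ = k * (k ^ i * x * (k ^ i)⁻¹) * k⁻¹ := by
                rw [pow_succ']; group
            _ = k * x * k⁻¹ * (k * z ^ i * k⁻¹) := by rw [hi]; group
            _ = x * z ^ (i + 1) := by rw [hzk, e, mul_assoc, ← pow_succ']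
      obtain ⟨m, hm⟩ := hk
      have := hpow (orderOf k)
      rw [pow_orderOf_eq_one, hm, pow_succ, pow_mul, _root_.sq, hS.sq, one_pow, one_mul] at this
      simp only [one_mul, inv_one, mul_one] at this
      exact hS.ne (mul_eq_left.1 this.symm)

end One

/-! ### Quotients -/

/-- A normal 2-subgroup centralized by all elements of odd order does not create an odd core. -/
theorem oddCore_quotient_two [Finite G] (A : Subgroup G) [A.Normal] (hA : IsPGroup 2 A)
    (hO : Cfsg.oddCore G = ⊥)
    (hc : ∀ k : G, Odd (orderOf k) → ∀ a ∈ A, k * a = a * k) :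
    Cfsg.oddCore (G ⧸ A) = ⊥ := by
  haveI : Fact (Nat.Prime 2) := ⟨Nat.prime_two⟩
  set f := QuotientGroup.mk' A
  set K := (Cfsg.oddCore (G ⧸ A)).comap f
  haveI : K.Normal := (Solvable.pPrimeCore_normal (G := G ⧸ A) 2).comap f
  have hAK : A ≤ K := fun a ha => by
    show f a ∈ Cfsg.oddCore (G ⧸ A)
    rw [show f a = 1 from (QuotientGroup.eq_one_iff a).2 ha]; exact one_mem _
  have hidx : Odd (A.subgroupOf K).index := by
    have h := relIndex_ker K f
    rw [map_comap_eq_self_of_surjective (QuotientGroup.mk'_surjective A),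
      show f.ker = A from QuotientGroup.ker_mk' A] at h
    rw [show (A.subgroupOf K).index = A.relIndex K from rfl, h]
    exact LocalB.odd_card_oddCore
  have hAp : IsPGroup 2 (A.subgroupOf K) := hA.comap_subtype
  obtain ⟨i, hi⟩ := IsPGroup.iff_card.1 hAp
  obtain ⟨D, hD⟩ := exists_right_complement'_of_coprime (N := A.subgroupOf K)
    (by rw [hi]; exact (Nat.coprime_two_left.2 hidx).pow_left i)
  have hDodd : Odd (Nat.card D) := by rw [← hD.symm.index_eq_card]; exact hidx
  have hDo : ∀ d : D, Odd (orderOf ((d : K) : G)) := fun d => by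
    rw [Subgroup.orderOf_coe, Subgroup.orderOf_coe]
    exact hDodd.of_dvd_nat (_root_.orderOf_dvd_natCard d)
  have hmem : ∀ x : K, Odd (orderOf (x : G)) → x ∈ D := by
    intro x hx
    obtain ⟨⟨⟨b, hb⟩, d⟩, hbd⟩ := hD.2 x
    have hbd' : (b : G) * ((d : K) : G) = x := congrArg Subtype.val hbd
    have hcm : Commute (b : G) ((d : K) : G) := (hc _ (hDo d) _ hb).symm
    obtain ⟨j, hj⟩ := hA ⟨b, hb⟩
    have hb1 : (b : G) = 1 := by
      have h1 : (b : G) ^ (orderOf (x : G) * orderOf ((d : K) : G)) = 1 := by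
        have h : (x : G) ^ (orderOf (x : G) * orderOf ((d : K) : G)) = 1 := by
          rw [pow_mul, pow_orderOf_eq_one, one_pow]
        rwa [← hbd', hcm.mul_pow,
          mul_comm (orderOf ((b : G) * _)) (orderOf ((d : K) : G)), pow_mul ((d : K) : G),
          pow_orderOf_eq_one, one_pow, mul_one, mul_comm (orderOf ((d : K) : G)), hbd'] at h
      refine orderOf_eq_one_iff.1 (Nat.eq_one_of_dvd_coprimes ?_
        (orderOf_dvd_of_pow_eq_one h1) (orderOf_dvd_of_pow_eq_one
          (show (b : G) ^ 2 ^ j = 1 from congrArg Subtype.val hj)))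
      exact Nat.Coprime.pow_right _ (Nat.coprime_two_right.2 (hx.mul (hDo d)))
    have : x = (d : K) := Subtype.ext (by rw [← hbd', hb1, one_mul])
    rw [this]; exact d.2
  have hn : (D.map K.subtype).Normal := ⟨by
    rintro _ ⟨x, hx, rfl⟩ g
    refine ⟨⟨g * x * g⁻¹, ‹K.Normal›.conj_mem x x.2 g⟩, hmem _ ?_, rfl⟩
    show Odd (orderOf (MulAut.conj g (x : G)))
    rw [MulEquiv.orderOf_eq]
    exact hDo ⟨x, hx⟩⟩
  have hbot : D.map K.subtype ≤ Cfsg.oddCore G := Solvable.le_pPrimeCore 2 hn
    (Nat.coprime_two_right.2 (by rw [card_map_of_injective K.subtype_injective]; exact hDodd))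
  rw [hO, le_bot_iff, map_eq_bot_iff_of_injective _ K.subtype_injective] at hbot
  rw [eq_bot_iff]
  intro q hq
  obtain ⟨x, rfl⟩ := QuotientGroup.mk'_surjective A q
  obtain ⟨⟨⟨b, hb⟩, ⟨d, hd⟩⟩, hbd⟩ := hD.2 (⟨x, hq⟩ : K)
  rw [hbot, SetLike.mem_coe, mem_bot] at hd
  subst hd
  have hbd' : (b : G) * 1 = x := congrArg Subtype.val hbd
  rw [mul_one] at hbd'
  exact mem_bot.2 ((QuotientGroup.eq_one_iff x).2 (hbd' ▸ (mem_subgroupOf.1 hb)))

/-- The odd core of a normal subgroup of a group without odd core is trivial. -/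
theorem oddCore_normal [Finite G] (N : Subgroup G) [N.Normal] (hO : Cfsg.oddCore G = ⊥) :
    Cfsg.oddCore ↥N = ⊥ := by
  haveI := Solvable.pPrimeCore_normal (G := ↥N) 2
  haveI : (Cfsg.oddCore ↥N).Characteristic := by
    refine characteristic_iff_map_le.2 fun φ => Solvable.le_pPrimeCore 2
      (Normal.map inferInstance _ φ.surjective) ?_
    rw [card_map_of_injective φ.injective]
    exact Solvable.coprime_card_pPrimeCore 2
  have h : ((Cfsg.oddCore ↥N).map N.subtype).Normal := ConjAct.normal_of_characteristic_of_normal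
  have h1 : (Cfsg.oddCore ↥N).map N.subtype ≤ Cfsg.oddCore G := Solvable.le_pPrimeCore 2 h
    (by rw [card_map_of_injective N.subtype_injective]; exact Solvable.coprime_card_pPrimeCore 2)
  rw [hO, le_bot_iff, map_eq_bot_iff_of_injective _ N.subtype_injective] at h1
  exact h1

/-! ### Strongly closed subgroups -/

/-- A strongly closed subgroup with a central involution as its only involution. -/
structure Quat (T : Sylow 2 G) (S : Subgroup G) (z : G) : Prop where
  one : One S z
  closed : Cfsg.IsStronglyClosed S (T : Subgroup G)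
  central : ∀ g : G, g * z = z * g

theorem conj_z [Finite G] {T : Sylow 2 G} {S : Subgroup G} {z : G} (h : Quat T S z) (g : G) :
    g * z * g⁻¹ = z := by rw [h.central, mul_inv_cancel_right]

/-- The distinguished involution of a strongly closed subgroup with one involution is isolated. -/
theorem isolated [Finite G] (T : Sylow 2 G) {S : Subgroup G} {z : G}
    (hcl : Cfsg.IsStronglyClosed S (T : Subgroup G)) (hS : One S z) :
    Cfsg.IsIsolatedInvolution z := by
  haveI : Fact (Nat.Prime 2) := ⟨Nat.prime_two⟩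
  have hz : orderOf z = 2 := orderOf_eq_prime (by rw [_root_.sq]; exact hS.sq) hS.ne
  refine Invol.isolated_of_sylow T hz fun g hg => ?_
  have h2 : g * z * g⁻¹ * (g * z * g⁻¹) = 1 := by
    rw [show g * z * g⁻¹ * (g * z * g⁻¹) = g * (z * z) * g⁻¹ by group, hS.sq]; group
  refine (hS.uniq _ (hcl.2 z hS.mem g hg) h2).resolve_left fun h => hS.ne ?_
  calc z = g⁻¹ * (g * z * g⁻¹) * g := by group
    _ = 1 := by rw [h]; group

theorem central_of_oddCore [Finite G] {T : Sylow 2 G} {S : Subgroup G} {z : G}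
    (hcl : Cfsg.IsStronglyClosed S (T : Subgroup G)) (hS : One S z) (hO : Cfsg.oddCore G = ⊥) :
    Quat T S z :=
  ⟨hS, hcl, fun g => by
    have h := IsoApps.comm_mem_oddCore (isolated T hcl hS) g
    rw [hO, mem_bot, mul_inv_eq_one, mul_inv_eq_iff_eq_mul] at h
    exact h.symm⟩

/-- An abelian strongly closed subgroup with one involution is normal without an odd core. -/
theorem normal_of_abelian : ∀ (n : ℕ) (G : Type u) [Group G] [Finite G], Nat.card G < n →
    Cfsg.oddCore G = ⊥ → ∀ (T : Sylow 2 G) (S : Subgroup G) (z : G),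
    Cfsg.IsStronglyClosed S (T : Subgroup G) → One S z →
    (∀ x ∈ S, ∀ y ∈ S, x * y = y * x) → S.Normal := by
  intro n
  induction n with
  | zero => exact fun G _ _ h => absurd h (Nat.not_lt_zero _)
  | succ n ih =>
    intro G _ _ hn hO T S z hcl hS hab
    haveI : Fact (Nat.Prime 2) := ⟨Nat.prime_two⟩
    have hQ := central_of_oddCore hcl hS hO
    by_cases htriv : ∀ x ∈ S, x = 1 ∨ x = z
    · refine ⟨fun x hx g => ?_⟩
      rcases htriv x hx with rfl | rfl
      · simp
      · rw [conj_z hQ]; exact hx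
    push Not at htriv
    obtain ⟨x, hx, hx1, hxz⟩ := htriv
    have hp : IsPGroup 2 S := T.2.to_le hcl.1
    obtain ⟨m, hc⟩ := hS.exists_four hp hx hx1 hxz
    set Zp := zpowers z
    haveI : Zp.Normal := ⟨fun w hw g => by
      obtain ⟨i, rfl⟩ := mem_zpowers_iff.1 hw
      rw [((show Commute g z from hQ.central g).zpow_right i).eq, mul_inv_cancel_right]
      exact zpow_mem (mem_zpowers z) i⟩
    have hker : ∀ w ∈ Zp, w = 1 ∨ w = z := fun w hw =>
      hS.uniq w (zpowers_le.2 hS.mem hw) (by
        obtain ⟨i, rfl⟩ := mem_zpowers_iff.1 hw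
        rw [← (Commute.refl z).mul_zpow i, hS.sq, one_zpow])
    set f := QuotientGroup.mk' Zp
    have hf : Function.Surjective f := QuotientGroup.mk'_surjective _
    have hz2 : orderOf z = 2 := orderOf_eq_prime (by rw [_root_.sq]; exact hS.sq) hS.ne
    have hO' := GWApps.oddCore_quotient_central (Z := Zp) (by rw [Nat.card_zpowers, hz2]) hO
    have hlt : Nat.card (G ⧸ Zp) < n := by
      have : Nat.card (G ⧸ Zp) < Nat.card G := Solvable.card_quotient_lt fun h =>
        hS.ne (mem_bot.1 (h ▸ mem_zpowers z : z ∈ (⊥ : Subgroup G)))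
      omega
    have hone : One (S.map f) (f (x ^ m)) := by
      refine ⟨mem_map_of_mem _ (pow_mem hx m), fun h => ?_, ?_, ?_⟩
      · rcases hker _ ((QuotientGroup.eq_one_iff _).1 h) with e | e
        · rw [e, one_mul] at hc; exact hS.ne hc.symm
        · rw [e, hS.sq] at hc; exact hS.ne hc.symm
      · rw [← map_mul, hc]; exact (QuotientGroup.eq_one_iff z).2 (mem_zpowers z)
      · rintro _ ⟨y, hy, rfl⟩ hyy
        rw [← map_mul] at hyy
        rcases hker _ ((QuotientGroup.eq_one_iff _).1 hyy) with e | e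
        · rcases hS.uniq y hy e with rfl | rfl
          · exact Or.inl (map_one f)
          · exact Or.inl ((QuotientGroup.eq_one_iff _).2 (mem_zpowers _))
        · refine Or.inr ?_
          rcases hS.eq_or_inv (pow_mem hx m) hy hc e (hab _ (pow_mem hx m) _ hy) with h | h
          · rw [h]
          · rw [h, hS.inv_four hc, map_mul,
              show f z = 1 from (QuotientGroup.eq_one_iff z).2 (mem_zpowers z), mul_one]
    have hn' : (S.map f).Normal := ih (G ⧸ Zp) hlt hO' (T.mapSurjective hf) (S.map f) _ (by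
      rw [Sylow.coe_mapSurjective]; exact ClosedComplement.stronglyClosed_map T S hcl Zp) hone (by
      rintro _ ⟨a, ha, rfl⟩ _ ⟨b, hb, rfl⟩
      rw [← map_mul, ← map_mul, hab a ha b hb])
    have hS' : S = (S.map f).comap f := by
      rw [comap_map_eq, QuotientGroup.ker_mk', sup_eq_left.2 (zpowers_le.2 hS.mem)]
    rw [hS']
    exact hn'.comap f

end CfsgLib.Criterion.QuatClosed
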