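import Cfsg.Agent.Criterion.Action.QuatAxis
import Mathlib.Algebra.Group.Pointwise.Set.Basic

/-!
Strongly closed 2-subgroups with one involution: local invariance gives invariance under fusion.
-/

set_option autoImplicit false
set_option linter.unusedSectionVars false
set_option linter.style.haveILetI false

namespace CfsgLib.Criterion.QuatClosed

open Subgroup
open scoped Pointwise

universe u

variable {G : Type u} [Group G] [Finite G]

/-- Invariance of a property of the elements of the Sylow subgroup in the two kinds of local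
subgroups. -/
structure LocInv (T : Sylow 2 G) (S : Subgroup G) (z c : G) (P : G → Prop) : Prop where
  axis : ∀ y l : G, y ∈ T → l ∈ fixAxis c → l * y * l⁻¹ ∈ T → (P y ↔ P (l * y * l⁻¹))
  mulz : ∀ y : G, y ∈ T → (P (y * z) ↔ P y)
  cent : ∀ y y' : G, y ∈ T → y' ∈ T → (∀ s ∈ S, s * y = y * s) → (∀ s ∈ S, s * y' = y' * s) →
    (P y ↔ P y')
  split : ∀ e ∈ S, e * e = z → c * e ≠ e * c → ∀ w ∈ S, ∀ w' ∈ S, ∀ y y' : G, y ∈ T → y' ∈ T →
    y * c = c * y → y * e = e * y → y' * c = c * y' → y' * e = e * y' →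
    (P y ↔ P y') → ((w = 1 ∨ w = z) ↔ (w' = 1 ∨ w' = z)) → (P (w * y) ↔ P (w' * y'))

/-- Two 2-elements congruent modulo an odd subgroup they normalize are conjugate under it. -/
theorem exists_conj_odd (O : Subgroup G) (hO : Odd (Nat.card O)) {v y : G}
    (hn : ∀ o ∈ O, y * o * y⁻¹ ∈ O) (hy : ∃ k : ℕ, y ^ 2 ^ k = 1) (hv : ∃ k : ℕ, v ^ 2 ^ k = 1)
    (h : v * y⁻¹ ∈ O) : ∃ o ∈ O, o * v * o⁻¹ = y := by
  haveI : Fact (Nat.Prime 2) := ⟨Nat.prime_two⟩
  have hyN : zpowers y ≤ normalizer (O : Set G) :=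
    zpowers_le.2 (LocalB.mem_normalizer_of_conj_le hn)
  set J := zpowers y ⊔ O
  have hcoe : (J : Set G) = (zpowers y : Set G) * (O : Set G) :=
    coe_mul_of_left_le_normalizer_right _ _ hyN
  have hyp : IsPGroup 2 (zpowers y) := by
    obtain ⟨k, hk⟩ := hy
    rintro ⟨w, hw⟩
    obtain ⟨i, rfl⟩ := mem_zpowers_iff.1 hw
    exact ⟨k, Subtype.ext (show (y ^ i) ^ 2 ^ k = 1 by
      rw [← zpow_natCast, zpow_comm, zpow_natCast, hk, one_zpow])⟩
  set f : J → G ⧸ O := fun x => QuotientGroup.mk (x : G)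
  have hidx : ¬ 2 ∣ ((zpowers y).subgroupOf J).index := by
    intro hd
    let φ : O → J ⧸ (zpowers y).subgroupOf J := fun o =>
      QuotientGroup.mk (⟨(o : G), mem_sup_right o.2⟩⁻¹ : J)
    have hφ : Function.Bijective φ := by
      constructor
      · intro o o' he
        have h1 := QuotientGroup.eq.1 he
        rw [mem_subgroupOf] at h1
        have h2 : (o : G) * (o' : G)⁻¹ ∈ zpowers y := by simpa using h1
        obtain ⟨k, hk⟩ := hyp ⟨_, h2⟩
        have h3 : Odd (orderOf ((o : G) * (o' : G)⁻¹)) :=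
          hO.of_dvd_nat (Subgroup.orderOf_dvd_natCard _ (mul_mem o.2 (inv_mem o'.2)))
        have h4 : (o : G) * (o' : G)⁻¹ = 1 := orderOf_eq_one_iff.1 (Nat.eq_one_of_dvd_coprimes
          ((Nat.coprime_two_right.2 h3).pow_right k) dvd_rfl
          (orderOf_dvd_of_pow_eq_one (congrArg Subtype.val hk)))
        exact Subtype.ext (mul_inv_eq_one.1 h4)
      · intro q
        obtain ⟨⟨x, hx⟩, rfl⟩ := QuotientGroup.mk_surjective q
        have hx' : x⁻¹ ∈ (J : Set G) := inv_mem hx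
        rw [hcoe] at hx'
        obtain ⟨a, ha, o, ho, hao⟩ := hx'
        refine ⟨⟨o, ho⟩, QuotientGroup.eq.2 (mem_subgroupOf.2 ?_)⟩
        show (o⁻¹)⁻¹ * x ∈ zpowers y
        rw [inv_inv, show o * x = a⁻¹ by
          rw [← inv_inv x, ← hao]; group]
        exact inv_mem ha
    rw [index_eq_card, ← Nat.card_congr (Equiv.ofBijective φ hφ)] at hd
    exact Nat.not_even_iff_odd.2 hO (even_iff_two_dvd.2 hd)
  set Y : Sylow 2 J := (hyp.comap_subtype (K := J)).toSylow hidx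
  have hvJ : v ∈ J := by
    rw [← inv_mul_cancel_right v y]
    exact mul_mem (mem_sup_right h) (mem_sup_left (mem_zpowers y))
  have hvp : IsPGroup 2 (zpowers (⟨v, hvJ⟩ : J)) := by
    obtain ⟨k, hk⟩ := hv
    rintro ⟨w, hw⟩
    obtain ⟨i, rfl⟩ := mem_zpowers_iff.1 hw
    exact ⟨k, Subtype.ext (Subtype.ext (show (v ^ i) ^ 2 ^ k = 1 by
      rw [← zpow_natCast, zpow_comm, zpow_natCast, hk, one_zpow]))⟩
  obtain ⟨R, hR⟩ := hvp.exists_le_sylow
  obtain ⟨⟨j, hj⟩, hjR⟩ := MulAction.exists_smul_eq J R Y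
  have hjv : j * v * j⁻¹ ∈ zpowers y := by
    have h1 : MulAut.conj (⟨j, hj⟩ : J) • (⟨v, hvJ⟩ : J) ∈ (Y : Subgroup J) := by
      rw [← hjR, Sylow.coe_subgroup_smul]
      exact smul_mem_pointwise_smul _ _ _ (hR (mem_zpowers _))
    simpa [Y, IsPGroup.toSylow, mem_subgroupOf] using h1
  have hj' : j ∈ (J : Set G) := hj
  rw [hcoe] at hj'
  obtain ⟨a, ha, o, ho, hao⟩ := hj'
  have hov : o * v * o⁻¹ ∈ zpowers y := by
    have h1 := mul_mem (mul_mem (inv_mem (show a ∈ zpowers y from ha)) hjv)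
      (show a ∈ zpowers y from ha)
    convert h1 using 1
    rw [← hao]; group
  refine ⟨o, ho, ?_⟩
  have hd : o * v * o⁻¹ * y⁻¹ ∈ O := by
    rw [show o * v * o⁻¹ * y⁻¹ = o * (v * y⁻¹) * (y * o⁻¹ * y⁻¹) by group]
    exact mul_mem (mul_mem ho h) (hn _ (inv_mem ho))
  obtain ⟨k, hk⟩ := hyp ⟨_, mul_mem hov (inv_mem (mem_zpowers y))⟩
  have h4 : o * v * o⁻¹ * y⁻¹ = 1 := orderOf_eq_one_iff.1 (Nat.eq_one_of_dvd_coprimes
    ((Nat.coprime_two_right.2 (hO.of_dvd_nat (Subgroup.orderOf_dvd_natCard _ hd))).pow_right k)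
    dvd_rfl (orderOf_dvd_of_pow_eq_one (congrArg Subtype.val hk)))
  exact mul_inv_eq_one.1 h4

/-- A power of odd order congruent to one modulo three. -/
theorem exists_odd_pow (p : G) : ∃ i : ℕ, Odd (orderOf (p ^ (3 * i + 1))) := by
  obtain ⟨j, m, hm, he⟩ := Nat.exists_eq_two_pow_mul_odd (orderOf_pos p).ne'
  have h4 : 4 ^ j % 3 = 1 := by simp [Nat.pow_mod]
  refine ⟨4 ^ j / 3, ?_⟩
  rw [show 3 * (4 ^ j / 3) + 1 = 4 ^ j by omega]
  refine hm.of_dvd_nat (orderOf_dvd_of_pow_eq_one ?_)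
  rw [← pow_mul, show (4 : ℕ) ^ j * m = 2 ^ j * (2 ^ j * m) by
    rw [show (4 : ℕ) = 2 * 2 from rfl, mul_pow]; ring, ← he, mul_comm, pow_mul, pow_orderOf_eq_one,
    one_pow]

/-- The odd core of the range of a homomorphism killing the odd core and a central involution. -/
theorem oddCore_range {X : Type*} [Group X] [Finite X] {Y : Type*} [Group Y] (f : X →* Y) {z : X}
    (hz : ∀ x : X, x * z = z * x) (hzz : z * z = 1) (hzO : z ∉ Cfsg.oddCore X)
    (hker : ∀ x : X, f x = 1 ↔ x ∈ Cfsg.oddCore X ∨ x * z ∈ Cfsg.oddCore X) :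
    Cfsg.oddCore f.range = ⊥ := by
  haveI : Finite f.range := Finite.of_surjective f.rangeRestrict f.rangeRestrict_surjective
  haveI : (Cfsg.oddCore X).Normal := Solvable.pPrimeCore_normal 2
  set f₀ := QuotientGroup.mk' (Cfsg.oddCore X)
  set Zb := zpowers (f₀ z)
  haveI : Zb.Normal := ⟨fun w hw q => by
    obtain ⟨g, rfl⟩ := QuotientGroup.mk'_surjective (Cfsg.oddCore X) q
    obtain ⟨i, rfl⟩ := mem_zpowers_iff.1 hw
    have hc : Commute (f₀ g) (f₀ z) := (show Commute g z from hz g).map f₀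
    rw [(hc.zpow_right i).eq, mul_inv_cancel_right]
    exact zpow_mem (mem_zpowers _) i⟩
  have hz2 : orderOf (f₀ z) = 2 := orderOf_eq_prime (hp := ⟨Nat.prime_two⟩)
    (by rw [← map_pow, sq, hzz, map_one]) fun h => hzO ((QuotientGroup.eq_one_iff z).1 h)
  set g := (QuotientGroup.mk' Zb).comp f₀
  have hg : Function.Surjective g :=
    (QuotientGroup.mk'_surjective _).comp (QuotientGroup.mk'_surjective _)
  have hgk : g.ker = f.ker := by
    ext x
    rw [MonoidHom.mem_ker, MonoidHom.mem_ker, hker]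
    show QuotientGroup.mk' Zb (f₀ x) = 1 ↔ _
    rw [← MonoidHom.mem_ker, QuotientGroup.ker_mk']
    constructor
    · intro h
      obtain ⟨i, hi⟩ := mem_zpowers_iff.1 h
      rcases Int.even_or_odd i with ⟨m, rfl⟩ | ⟨m, rfl⟩
      · refine Or.inl ((QuotientGroup.eq_one_iff x).1 ?_)
        show f₀ x = 1
        rw [← hi, ← map_zpow, ← two_mul, zpow_mul, zpow_two, hzz, one_zpow, map_one]
      · refine Or.inr ((QuotientGroup.eq_one_iff (x * z)).1 ?_)
        show f₀ (x * z) = 1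
        rw [map_mul, ← hi, ← map_zpow, zpow_add, zpow_mul, zpow_two, hzz, one_zpow, one_mul,
          zpow_one, ← map_mul, hzz, map_one]
    · rintro (h | h)
      · rw [show f₀ x = 1 from (QuotientGroup.eq_one_iff x).2 h]; exact one_mem _
      · rw [show f₀ x = f₀ (x * z) * f₀ z by rw [← map_mul, mul_assoc, hzz, mul_one],
          show f₀ (x * z) = 1 from (QuotientGroup.eq_one_iff _).2 h, one_mul]
        exact mem_zpowers _
  let e : f.range ≃* (X ⧸ Cfsg.oddCore X) ⧸ Zb :=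
    (QuotientGroup.quotientKerEquivRange f).symm.trans
      ((QuotientGroup.quotientMulEquivOfEq hgk.symm).trans
        (QuotientGroup.quotientKerEquivOfSurjective g hg))
  have hO' := GWApps.oddCore_quotient_central (Z := Zb) (by rw [Nat.card_zpowers, hz2])
    LocalB.oddCore_quotient
  have h1 : (Cfsg.oddCore f.range).map e.toMonoidHom ≤ Cfsg.oddCore _ := Solvable.le_pPrimeCore 2
    (Normal.map (Solvable.pPrimeCore_normal 2) _ e.surjective)
    (by rw [card_map_of_injective e.injective]; exact Solvable.coprime_card_pPrimeCore 2)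
  rw [hO', le_bot_iff, map_eq_bot_iff_of_injective _ e.injective] at h1
  exact h1

namespace Quat

variable {T : Sylow 2 G} {S : Subgroup G} {z c : G} (hQ : Quat T S z)
include hQ

theorem conj_one_or {x g : G} : (g * x * g⁻¹ = 1 ∨ g * x * g⁻¹ = z) ↔ (x = 1 ∨ x = z) := by
  have hz := conj_z hQ g
  constructor <;> rintro (h | h)
  · refine Or.inl ?_; rw [mul_inv_eq_one, mul_eq_left] at h; exact h
  · refine Or.inr ?_; rw [← hz] at h; exact mul_left_cancel (mul_right_cancel h)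
  · refine Or.inl ?_; rw [h, mul_one, mul_inv_cancel]
  · exact Or.inr (h ▸ hz)

/-- The four elements meeting the sign patterns on two axes. -/
theorem decomp {e y : G} (hc : Axis T S z c) (heS : e ∈ S) (hee : e * e = z)
    (hne : c * e ≠ e * c) (hyc : Mv y c c) (hye : Mv y e e) (hec : Mv e c c) (hce : Mv c e e) :
    ∃ w, (w = 1 ∨ w = c ∨ w = e ∨ w = c * e) ∧ w⁻¹ * y * c = c * (w⁻¹ * y) ∧
      w⁻¹ * y * e = e * (w⁻¹ * y) := by
  have he1 : e * c * e⁻¹ = c⁻¹ :=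
    (hQ.one.sq_of_not_comm hQ.pgroup hc.mem hc.sq heS hec hne.symm).1
  have hc1 : c * e * c⁻¹ = e⁻¹ :=
    (hQ.one.sq_of_not_comm hQ.pgroup heS hee hc.mem hce hne).1
  have key : ∀ w a : G, w * a * w⁻¹ = y * a * y⁻¹ → w⁻¹ * y * a = a * (w⁻¹ * y) := by
    intro w a h
    calc w⁻¹ * y * a = w⁻¹ * (y * a * y⁻¹) * y := by group
      _ = w⁻¹ * (w * a * w⁻¹) * y := by rw [h]
      _ = _ := by group
  rcases hyc with h1 | h1 <;> rcases hye with h2 | h2
  · exact ⟨1, Or.inl rfl, key _ _ (by rw [h1]; group), key _ _ (by rw [h2]; group)⟩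
  · exact ⟨c, Or.inr (Or.inl rfl), key _ _ (by rw [h1]; group), key _ _ (by rw [h2, hc1])⟩
  · exact ⟨e, Or.inr (Or.inr (Or.inl rfl)), key _ _ (by rw [h1, he1]), key _ _ (by rw [h2]; group)⟩
  · refine ⟨c * e, Or.inr (Or.inr (Or.inr rfl)), key _ _ ?_, key _ _ ?_⟩
    · rw [h1, show c * e * c * (c * e)⁻¹ = c * (e * c * e⁻¹) * c⁻¹ by group, he1]; group
    · rw [h2, show c * e * e * (c * e)⁻¹ = c * e * c⁻¹ by group, hc1]

variable {P : G → Prop}

/-- The normalizer of a 2-subgroup containing the axis. -/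
theorem core_mem (hc : Axis T S z c) (hP : LocInv T S z c P) {R : Subgroup G}
    (hRT : R ≤ (T : Subgroup G)) (hcR : c ∈ R) {n : G} (hn : n ∈ normalizer (R : Set G))
    {y : G} (hy : y ∈ R) : P y ↔ P (n * y * n⁻¹) := by
  haveI : Fact (Nat.Prime 2) := ⟨Nat.prime_two⟩
  have hnR : ∀ r ∈ R, n * r * n⁻¹ ∈ R := fun r hr => (mem_normalizer_iff.1 hn r).1 hr
  have hnR' : ∀ r ∈ R, n⁻¹ * r * n ∈ R := fun r hr => by
    simpa using (mem_normalizer_iff.1 (inv_mem hn) r).1 hr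
  have hzR : z ∈ R := hc.sq ▸ R.mul_mem hcR hcR
  by_cases hncc : Mv n c c
  · exact hP.axis y n (hRT hy) hncc (hRT (hnR y hy))
  set e := n * c * n⁻¹ with he
  have heR : e ∈ R := hnR c hcR
  have heS : e ∈ S := hQ.land hc.mem (hRT heR)
  have hee : e * e = z := by
    rw [he, show n * c * n⁻¹ * (n * c * n⁻¹) = n * (c * c) * n⁻¹ by group, hc.sq, conj_z hQ]
  have hne : c * e ≠ e * c := fun h => hncc (hQ.one.eq_or_inv hc.mem heS hc.sq hee h)
  have hnce : Mv n c e := Or.inl he.symm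
  have hrc : ∀ r ∈ R, Mv r c c := fun r hr => hc.fix r (hRT hr)
  have hre : ∀ r ∈ R, Mv r e e := fun r hr => by
    have := (hnce.symm.trans (hc.fix _ (hRT (hnR' r hr)))).trans hnce
    simpa [mul_assoc] using this
  have hdec : ∀ x : G, Mv x c c → Mv x e e → ∃ w, (w = 1 ∨ w = c ∨ w = e ∨ w = c * e) ∧
      w⁻¹ * x * c = c * (w⁻¹ * x) ∧ w⁻¹ * x * e = e * (w⁻¹ * x) := fun x hx hx' =>
    hQ.decomp hc heS hee hne hx hx' (hrc e heR) (hre c hcR)
  have hw4 : ∀ w : G, (w = 1 ∨ w = c ∨ w = e ∨ w = c * e) → w ∈ R ⊓ S := by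
    rintro w (rfl | rfl | rfl | rfl)
    exacts [one_mem _, ⟨hcR, hc.mem⟩, ⟨heR, heS⟩, ⟨R.mul_mem hcR heR, S.mul_mem hc.mem heS⟩]
  set W := R ⊓ S with hW
  have hWform : ∀ m ∈ W, ∃ w, (w = 1 ∨ w = c ∨ w = e ∨ w = c * e) ∧ (m = w ∨ m = w * z) := by
    intro m hm
    obtain ⟨w, hw, hwc, hwe⟩ := hdec m (hrc m hm.1) (hre m hm.1)
    refine ⟨w, hw, ?_⟩
    rcases hQ.one.eq_of_comm_axes hQ.pgroup hc.mem heS hc.sq hee hne
      (S.mul_mem (S.inv_mem (hw4 w hw).2) hm.2) hwc hwe with h | h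
    · exact Or.inl (inv_mul_eq_one.1 h).symm
    · exact Or.inr (inv_mul_eq_iff_eq_mul.1 h)
  have hWcomm : ∀ u : G, u * c = c * u → u * e = e * u → ∀ m ∈ W, m * u = u * m := by
    intro u huc hue m hm
    obtain ⟨w, hw, h⟩ := hWform m hm
    have hwu : Commute w u := by
      rcases hw with rfl | rfl | rfl | rfl
      exacts [Commute.one_left u, (show Commute u _ from huc).symm, (show Commute u _ from hue).symm,
        ((show Commute u _ from huc).symm).mul_left (show Commute u _ from hue).symm]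
    rcases h with rfl | rfl
    · exact hwu.eq
    · exact (hwu.mul_left (show Commute z u from (hQ.central u).symm)).eq
  obtain ⟨w, hw, hwc, hwe⟩ := hdec y (hrc y hy) (hre y hy)
  set y₀ := w⁻¹ * y with hy₀
  have hy₀R : y₀ ∈ R := R.mul_mem (R.inv_mem (hw4 w hw).1) hy
  set y₁ := n * y₀ * n⁻¹ with hy₁
  have hy₁R : y₁ ∈ R := hnR _ hy₀R
  have hw'R : n * w * n⁻¹ ∈ R := hnR _ (hw4 w hw).1
  have hw'S : n * w * n⁻¹ ∈ S := hQ.land (hw4 w hw).2 (hRT hw'R)
  have hnW : ∀ m ∈ W, n * m * n⁻¹ ∈ W := fun m hm => ⟨hnR m hm.1, hQ.land hm.2 (hRT (hnR m hm.1))⟩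
  have hy₁W : ∀ m ∈ W, m * y₁ = y₁ * m := by
    intro m hm
    have hm' : n⁻¹ * m * n ∈ W := ⟨hnR' m hm.1, by
      have := hQ.land (g := n⁻¹) hm.2 (by rw [inv_inv]; exact hRT (hnR' m hm.1))
      rwa [inv_inv] at this⟩
    have h := hWcomm y₀ hwc hwe _ hm'
    calc m * y₁ = n * (n⁻¹ * m * n * y₀) * n⁻¹ := by rw [hy₁]; group
      _ = n * (y₀ * (n⁻¹ * m * n)) * n⁻¹ := by rw [h]
      _ = _ := by rw [hy₁]; group
  have hy₁c : y₁ * c = c * y₁ := (hy₁W c ⟨hcR, hc.mem⟩).symm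
  have hy₁e : y₁ * e = e * y₁ := (hy₁W e ⟨heR, heS⟩).symm
  rw [show y = w * y₀ by rw [hy₀, mul_inv_cancel_left],
    show n * (w * y₀) * n⁻¹ = n * w * n⁻¹ * y₁ by rw [hy₁]; group]
  refine hP.split e heS hee hne w (hw4 w hw).2 _ hw'S y₀ y₁ (hRT hy₀R) (hRT hy₁R) hwc hwe hy₁c
    hy₁e ?_ hQ.conj_one_or.symm
  by_cases hSW : S ≤ W
  · exact hP.cent y₀ y₁ (hRT hy₀R) (hRT hy₁R) (fun s hs => hWcomm y₀ hwc hwe s (hSW hs))
      (fun s hs => hy₁W s (hSW hs))
  obtain ⟨a, haS, haN, haW⟩ := LocalB.exists_mem_normalizer_not_mem (U := S) (V := W) hQ.pgroup inf_le_right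
    fun h => hSW h.ge
  set N := normalizer (W : Set G) with hN
  have hWN : ∀ x ∈ N, ∀ m ∈ W, x * m * x⁻¹ ∈ W := fun x hx m hm => (mem_normalizer_iff.1 hx m).1 hm
  have hnN : n ∈ N := LocalB.mem_normalizer_of_conj_le hnW
  set f := c * e with hf
  have hfW : f ∈ W := hw4 f (Or.inr (Or.inr (Or.inr rfl)))
  have hff : f * f = z := by
    have hc1 := (hQ.one.sq_of_not_comm hQ.pgroup hc.mem hc.sq heS (hrc e heR) hne.symm).1
    rw [hf, show c * e * (c * e) = c * (e * c * e⁻¹) * (e * e) by group, hc1, hee, mul_inv_cancel,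
      one_mul]
  have hcW : c ∈ W := ⟨hcR, hc.mem⟩
  have heW : e ∈ W := ⟨heR, heS⟩
  have hfour : ∀ m ∈ W, m * m = z →
      (m = c ∨ m = c⁻¹) ∨ (m = e ∨ m = e⁻¹) ∨ (m = f ∨ m = f⁻¹) := by
    intro m hm hmm
    obtain ⟨v, hv, h⟩ := hWform m hm
    have hz' : ∀ x : G, x * x = z → (m = x ∨ m = x * z) → m = x ∨ m = x⁻¹ := fun x hx h =>
      h.imp id fun h' => by rw [h', hQ.one.inv_four hx]
    rcases hv with rfl | rfl | rfl | rfl
    · exfalso
      rcases h with rfl | rfl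
      · exact hQ.one.ne (by rw [← hmm, mul_one])
      · rw [one_mul, hQ.one.sq] at hmm; exact hQ.one.ne hmm.symm
    · exact Or.inl (hz' _ hc.sq h)
    · exact Or.inr (Or.inl (hz' _ hee h))
    · exact Or.inr (Or.inr (hz' _ hff h))
  -- moving axes in `N`
  have hmv : ∀ x ∈ N, ∀ m ∈ W, m * m = z → Mv x m c ∨ Mv x m e ∨ Mv x m f := by
    intro x hx m hm hmm
    rcases hfour _ (hWN x hx m hm) (by
      rw [show x * m * x⁻¹ * (x * m * x⁻¹) = x * (m * m) * x⁻¹ by group, hmm, conj_z hQ]) with h | h | h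
    exacts [Or.inl h, Or.inr (Or.inl h), Or.inr (Or.inr h)]
  have hdet : ∀ x m m' d : G, m * m' ≠ m' * m → Mv x m d → Mv x m' d → False := by
    intro x m m' d hmm' h h'
    have h2 : Mv 1 m m' := by have := h.trans h'.symm; simpa using this
    rcases h2 with h2 | h2 <;> rw [one_mul, inv_one, mul_one] at h2 <;> subst h2
    · exact hmm' rfl
    · exact hmm' (Commute.refl m').inv_left.eq
  have hnec : e * c ≠ c * e := hne.symm
  have hncf : c * f ≠ f * c := fun h => hne (by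
    rw [hf] at h; exact mul_left_cancel (a := c) (by rw [h]; group))
  have hnef : e * f ≠ f * e := fun h => hne (by
    rw [hf] at h
    exact (mul_right_cancel (b := e) (by rw [mul_assoc e c e]; exact h.symm)))
  have hac : Mv a c c := hc.fix a (hQ.le haS)
  have hae : ¬ Mv a e e := by
    intro h
    obtain ⟨v, hv, hvc, hve⟩ := hdec a hac h
    have hv' := hw4 v hv
    rcases hQ.one.eq_of_comm_axes hQ.pgroup hc.mem heS hc.sq hee hne
      (S.mul_mem (S.inv_mem hv'.2) haS) hvc hve with h1 | h1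
    · exact haW ((inv_mul_eq_one.1 h1) ▸ hv')
    · exact haW (inv_mul_eq_iff_eq_mul.1 h1 ▸ W.mul_mem hv' ⟨hzR, hQ.one.mem⟩)
  have haef : Mv a e f := by
    rcases hmv a haN e heW hee with h | h | h
    · exact (hdet a e c c hnec h hac).elim
    · exact (hae h).elim
    · exact h
  have hafe : Mv a f e := by
    rcases hmv a haN f hfW hff with h | h | h
    · exact (hdet a c f c hncf hac h).elim
    · exact h
    · exact (hdet a e f f hnef haef h).elim
  set b := n * a * n⁻¹ with hb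
  have hbN : b ∈ N := N.mul_mem (N.mul_mem hnN haN) (N.inv_mem hnN)
  have hbe : Mv b e e := by
    have := (hnce.symm.trans hac).trans hnce
    simpa [hb, mul_assoc] using this
  have hbc : ¬ Mv b c c := by
    intro h
    obtain ⟨v, hv, hvc, hve⟩ := hdec b h hbe
    set e₂ := n * e * n⁻¹ with he₂
    have hne₂ : e₂ ∈ W := hWN n hnN e heW
    have h2 : Mv n e e₂ := Or.inl rfl
    have hve₂ : Mv v e₂ e₂ := by
      have h3 := (h2.symm.trans (hre _ (hnR' v (hw4 v hv).1))).trans h2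
      simpa [mul_assoc] using h3
    have e1 : b * e₂ * b⁻¹ = v * e₂ * v⁻¹ := by
      have := hWcomm (v⁻¹ * b) hvc hve e₂ hne₂
      calc b * e₂ * b⁻¹ = v * (v⁻¹ * b * e₂) * b⁻¹ := by group
        _ = v * (e₂ * (v⁻¹ * b)) * b⁻¹ := by rw [← this]
        _ = _ := by group
    have hbe₂ : Mv b e₂ e₂ := hve₂.imp (fun h' => e1.trans h') fun h' => e1.trans h'
    have h1 : Mv a e e := by
      have := (h2.trans hbe₂).trans h2.symm
      simpa [hb, mul_assoc] using this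
    exact hae h1
  have hbcf : Mv b c f := by
    rcases hmv b hbN c hcW hc.sq with h | h | h
    · exact (hbc h).elim
    · exact (hdet b c e e hne h hbe).elim
    · exact h
  have hbfc : Mv b f c := by
    rcases hmv b hbN f hfW hff with h | h | h
    · exact h
    · exact (hdet b e f e hnef hbe h).elim
    · exact (hdet b c f f hncf hbcf h).elim
  set p := a * b with hp
  have hpc : Mv p c e := hbcf.trans hafe
  have hpe : Mv p e f := hbe.trans haef
  have hpf : Mv p f c := hbfc.trans hac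
  obtain ⟨i, hi⟩ := exists_odd_pow p
  set k := p ^ (3 * i + 1) with hk
  have hkce : Mv k c e := by
    have h3 : Mv (p ^ 3) e e := by
      have := (hpe.trans hpf).trans hpc
      rwa [show p * (p * p) = p ^ 3 by simp [pow_succ, mul_assoc]] at this
    have := hpc.trans (Mv.pow h3 i)
    rwa [← pow_mul, ← pow_succ] at this
  -- the centralizer of `W`
  set C₀ := centralizer ({c, e} : Set G) with hC₀
  have hC₀mem : ∀ u, u ∈ C₀ ↔ u * c = c * u ∧ u * e = e * u := fun u => by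
    rw [hC₀, mem_centralizer_iff]
    simp only [Set.mem_insert_iff, Set.mem_singleton_iff, forall_eq_or_imp, forall_eq]
    exact ⟨fun h => ⟨h.1.symm, h.2.symm⟩, fun h => ⟨h.1.symm, h.2.symm⟩⟩
  set O := CommClosed.core C₀ with hO
  have hOC : O ≤ C₀ := CommClosed.core_le _
  have hC₀N : ∀ x ∈ N, ∀ u ∈ C₀, x * u * x⁻¹ ∈ C₀ := by
    intro x hx u hu
    obtain ⟨hu1, hu2⟩ := (hC₀mem u).1 hu
    refine (hC₀mem _).2 ⟨?_, ?_⟩
    · have h := hWcomm u hu1 hu2 _ (by simpa using hWN x⁻¹ (N.inv_mem hx) c hcW : x⁻¹ * c * x ∈ W)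
      calc x * u * x⁻¹ * c = x * (u * (x⁻¹ * c * x)) * x⁻¹ := by group
        _ = x * ((x⁻¹ * c * x) * u) * x⁻¹ := by rw [h]
        _ = _ := by group
    · have h := hWcomm u hu1 hu2 _ (by simpa using hWN x⁻¹ (N.inv_mem hx) e heW : x⁻¹ * e * x ∈ W)
      calc x * u * x⁻¹ * e = x * (u * (x⁻¹ * e * x)) * x⁻¹ := by group
        _ = x * ((x⁻¹ * e * x) * u) * x⁻¹ := by rw [h]
        _ = _ := by group
  have hON : ∀ x ∈ N, ∀ o ∈ O, x * o * x⁻¹ ∈ O := by
    intro x hx o ho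
    have hle : O.map (MulAut.conj x).toMonoidHom ≤ O := by
      refine CommClosed.le_core ?_ ?_ ?_
      · rintro _ ⟨u, hu, rfl⟩; exact hC₀N x hx u (hOC hu)
      · rw [card_map_of_injective (MulAut.conj x).injective]; exact CommClosed.odd_core _
      · rintro h hh _ ⟨u, hu, rfl⟩
        refine ⟨(x⁻¹ * h * x) * u * (x⁻¹ * h * x)⁻¹,
          CommClosed.core_normalized C₀ _ (by simpa using hC₀N x⁻¹ (N.inv_mem hx) h hh) u hu, ?_⟩
        simp [mul_assoc]
    exact hle ⟨o, ho, rfl⟩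
  have hC₀N' : C₀ ≤ N := fun u hu => LocalB.mem_normalizer_of_conj_le fun m hm => by
    rw [(hWcomm u ((hC₀mem u).1 hu).1 ((hC₀mem u).1 hu).2 m hm).symm, mul_inv_cancel_right]
    exact hm
  have hzN : z ∈ N := hC₀N' ((hC₀mem z).2 ⟨(hQ.central c).symm, (hQ.central e).symm⟩)
  have hzO : z ∉ O := fun h => hQ.one.ne (eq_one_of_two_odd T (hQ.le hQ.one.mem)
    (CommClosed.odd_of_mem (CommClosed.odd_core _) h))
  have hWsq : ∀ m ∈ O, (m * z) * z = m := fun m _ => by rw [mul_assoc, hQ.one.sq, mul_one]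
  let M : Subgroup G :=
    { carrier := {v | v ∈ O ∨ v * z ∈ O}
      one_mem' := Or.inl O.one_mem
      mul_mem' := by
        rintro u v (hu | hu) (hv | hv)
        · exact Or.inl (mul_mem hu hv)
        · exact Or.inr (by rw [mul_assoc]; exact mul_mem hu hv)
        · refine Or.inr ?_
          rw [mul_assoc, hQ.central v, ← mul_assoc]
          exact mul_mem hu hv
        · refine Or.inl ?_
          have := mul_mem hu hv
          rwa [show u * z * (v * z) = u * (z * (v * z)) by group, ← hQ.central (v * z), mul_assoc v,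
            hQ.one.sq, mul_one] at this
      inv_mem' := by
        rintro u (hu | hu)
        · exact Or.inl (inv_mem hu)
        · refine Or.inr ?_
          have := inv_mem hu
          rwa [mul_inv_rev, hQ.one.inv_z, ← hQ.central] at this }
  have hMN : ∀ x ∈ N, ∀ v ∈ M, x * v * x⁻¹ ∈ M := by
    rintro x hx v (hv | hv)
    · exact Or.inl (hON x hx v hv)
    · refine Or.inr ?_
      have := hON x hx _ hv
      rwa [show x * (v * z) * x⁻¹ = x * v * x⁻¹ * (x * z * x⁻¹) by group, conj_z hQ] at this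
  have hMC : M ≤ C₀ := by
    rintro v (hv | hv)
    · exact hOC hv
    · rw [show v = v * z * z by rw [mul_assoc, hQ.one.sq, mul_one]]
      exact mul_mem (hOC hv) ((hC₀mem z).2 ⟨(hQ.central c).symm, (hQ.central e).symm⟩)
  -- the elements centralizing `C₀` modulo `M`
  haveI hMn : (M.subgroupOf N).Normal := ⟨fun v hv x => hMN x x.2 v hv⟩
  set π := QuotientGroup.mk' (M.subgroupOf N)
  set H : Subgroup (↥N ⧸ M.subgroupOf N) := (C₀.subgroupOf N).map π with hH
  haveI : (C₀.subgroupOf N).Normal := ⟨fun v hv x => hC₀N x x.2 v hv⟩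
  haveI : H.Normal := Normal.map inferInstance π (QuotientGroup.mk'_surjective _)
  set K₀ := (centralizer (H : Set (↥N ⧸ M.subgroupOf N))).comap π
  haveI : K₀.Normal := (inferInstance : (centralizer (H : Set _)).Normal).comap π
  have haK : (⟨a, haN⟩ : N) ∈ K₀ := by
    have hSN : IsPGroup 2 ((S ⊓ N).subgroupOf N) := (hQ.pgroup.to_le inf_le_left).comap_subtype
    obtain ⟨Q, hQ'⟩ := hSN.exists_le_sylow
    obtain ⟨g, hg⟩ := exists_into T (Q.2.map N.subtype)
    let A : Subgroup N := (Q : Subgroup N) ⊓ (S.comap ((MulAut.conj g).toMonoidHom.comp N.subtype))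
    have hA : ∀ x : N, x ∈ A ↔ x ∈ Q ∧ g * (x : G) * g⁻¹ ∈ S := fun x => Iff.rfl
    have hSA : ∀ x : N, (x : G) ∈ S → x ∈ A := fun x hx =>
      (hA x).2 ⟨hQ' ⟨hx, x.2⟩, hQ.land hx (hg _ ⟨x, hQ' ⟨hx, x.2⟩, rfl⟩)⟩
    have hAcl : Cfsg.IsStronglyClosed A (Q : Subgroup N) := ⟨inf_le_left, fun x hx m hm =>
      (hA _).2 ⟨hm, by
        have h1 := hQ.land (g := g * (m : G) * g⁻¹) ((hA x).1 hx).2 (by
          rw [show g * (m : G) * g⁻¹ * (g * (x : G) * g⁻¹) * (g * (m : G) * g⁻¹)⁻¹ =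
            g * ((m : G) * x * (m : G)⁻¹) * g⁻¹ by group]
          exact hg _ ⟨_, hm, rfl⟩)
        rwa [show g * (m : G) * g⁻¹ * (g * (x : G) * g⁻¹) * (g * (m : G) * g⁻¹)⁻¹ =
            g * ((m : G) * x * (m : G)⁻¹) * g⁻¹ by group] at h1⟩⟩
    have hcl' : Cfsg.IsStronglyClosed (A.map π) ((Q.mapSurjective
        (QuotientGroup.mk'_surjective (M.subgroupOf N)) : Sylow 2 _) : Subgroup _) := by
      rw [Sylow.coe_mapSurjective]; exact ClosedComplement.stronglyClosed_map Q A hAcl _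
    have hdisj : A.map π ⊓ H = ⊥ := by
      rw [eq_bot_iff]
      rintro q ⟨⟨x, hx, rfl⟩, u, hu, hux⟩
      have hxC : (x : G) ∈ C₀ := by
        have h1 := (QuotientGroup.eq (s := M.subgroupOf N)).1 hux
        have h2 : (u : G) * ((u : G)⁻¹ * x) ∈ C₀ := mul_mem hu (hMC h1)
        rwa [mul_inv_cancel_left] at h2
      obtain ⟨hxc, hxe⟩ := (hC₀mem _).1 hxC
      have hcA := ((hA ⟨c, le_normalizer hcW⟩).1 (hSA _ hc.mem)).2
      have heA := ((hA ⟨e, le_normalizer heW⟩).1 (hSA _ heS)).2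
      have hsqz : ∀ s : G, s * s = z → g * s * g⁻¹ * (g * s * g⁻¹) = z := fun s hs => by
        rw [show g * s * g⁻¹ * (g * s * g⁻¹) = g * (s * s) * g⁻¹ by group, hs, conj_z hQ]
      have hcomm : ∀ s : G, (x : G) * s = s * x →
          g * (x : G) * g⁻¹ * (g * s * g⁻¹) = g * s * g⁻¹ * (g * (x : G) * g⁻¹) := fun s hs => by
        rw [show g * (x : G) * g⁻¹ * (g * s * g⁻¹) = g * ((x : G) * s) * g⁻¹ by group, hs]; group
      have h := hQ.one.eq_of_comm_axes hQ.pgroup hcA heA (hsqz c hc.sq) (hsqz e hee)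
        (fun h => hne (mul_left_cancel (mul_right_cancel (show g * (c * e) * g⁻¹ = g * (e * c) * g⁻¹ by
          calc g * (c * e) * g⁻¹ = g * c * g⁻¹ * (g * e * g⁻¹) := by group
            _ = g * e * g⁻¹ * (g * c * g⁻¹) := h
            _ = _ := by group))))
        ((hA x).1 hx).2 (hcomm c hxc) (hcomm e hxe)
      refine mem_bot.2 ((QuotientGroup.eq_one_iff x).2 ?_)
      rcases hQ.conj_one_or.1 h with h' | h'
      · exact Or.inl (show (x : G) ∈ O by rw [h']; exact O.one_mem)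
      · exact Or.inr (show (x : G) * z ∈ O by rw [h', hQ.one.sq]; exact O.one_mem)
    have hOH : Cfsg.oddCore H = ⊥ := by
      set φ : ↥C₀ →* ↥N ⧸ M.subgroupOf N := π.comp (Subgroup.inclusion hC₀N')
      have hr : φ.range = H := by
        ext q
        constructor
        · rintro ⟨u, rfl⟩; exact ⟨_, u.2, rfl⟩
        · rintro ⟨u, hu, rfl⟩; exact ⟨⟨(u : G), hu⟩, rfl⟩
      rw [← hr]
      refine oddCore_range φ (z := ⟨z, (hC₀mem z).2 ⟨(hQ.central c).symm, (hQ.central e).symm⟩⟩)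
        (fun u => Subtype.ext (hQ.central u)) (Subtype.ext hQ.one.sq)
        (fun h => hzO ⟨_, h, rfl⟩) fun u => ?_
      show π (Subgroup.inclusion hC₀N' u) = 1 ↔ _
      rw [show π (Subgroup.inclusion hC₀N' u) = 1 ↔ _ from QuotientGroup.eq_one_iff _]
      constructor
      · rintro (⟨v, hv, hvu⟩ | ⟨v, hv, hvu⟩)
        · exact Or.inl (by rwa [show u = v from Subtype.ext hvu.symm])
        · exact Or.inr (by
            show u * _ ∈ _
            rwa [show u * ⟨z, _⟩ = v from Subtype.ext hvu.symm])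
      · rintro (h | h)
        · exact Or.inl ⟨u, h, rfl⟩
        · exact Or.inr ⟨_, h, rfl⟩
    have := IsoApps.stronglyClosed_centralizes (Q.mapSurjective
      (QuotientGroup.mk'_surjective (M.subgroupOf N))) hcl'
      (fun q _ => LocalB.mem_normalizer_of_conj_le fun x hx =>
        (inferInstance : H.Normal).conj_mem x hx q) hOH hdisj
    exact this (mem_map_of_mem π (hSA ⟨a, haN⟩ haS))
  have hbK : (⟨b, hbN⟩ : N) ∈ K₀ := (inferInstance : K₀.Normal).conj_mem _ haK ⟨n, hnN⟩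
  have hpN : p ∈ N := N.mul_mem haN hbN
  have hkN : k ∈ N := N.pow_mem hpN _
  have hkK : (⟨k, hkN⟩ : N) ∈ K₀ := by
    have := K₀.pow_mem (K₀.mul_mem haK hbK) (3 * i + 1)
    rwa [show ((⟨a, haN⟩ : N) * ⟨b, hbN⟩) ^ (3 * i + 1) = ⟨k, hkN⟩ from Subtype.ext (by
      rw [SubmonoidClass.coe_pow, Subgroup.coe_mul])] at this
  -- the conjugating element
  set l := k⁻¹ * n with hl
  have hlfix : Mv l c c := hnce.trans hkce.symm
  have hy₁C : y₁ ∈ C₀ := (hC₀mem _).2 ⟨hy₁c, hy₁e⟩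
  set v := k⁻¹ * y₁ * k with hv
  have hμ : v * y₁⁻¹ ∈ M := by
    have h1 : π ⟨k, hkN⟩⁻¹ * π ⟨y₁, hC₀N' hy₁C⟩ = π ⟨y₁, hC₀N' hy₁C⟩ * π ⟨k, hkN⟩⁻¹ :=
      (mem_centralizer_iff.1 ((centralizer (H : Set (↥N ⧸ M.subgroupOf N))).inv_mem hkK) _
        (mem_map_of_mem π (show (⟨y₁, hC₀N' hy₁C⟩ : N) ∈ C₀.subgroupOf N from hy₁C))).symm
    rw [← map_mul, ← map_mul] at h1
    have h2 := (QuotientGroup.eq (s := M.subgroupOf N)).1 h1.symm
    have h3 : ((y₁ * k⁻¹)⁻¹ * (k⁻¹ * y₁)) ∈ M := h2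
    have h4 := hMN (y₁ * k⁻¹) (N.mul_mem (hC₀N' hy₁C) (N.inv_mem hkN)) _ h3
    have h5 : k⁻¹ * y₁ * (y₁ * k⁻¹)⁻¹ ∈ M := by
      convert h4 using 1
      group
    rw [hv]
    convert h5 using 1
    group
  have hμO : v * y₁⁻¹ ∈ O := by
    rcases hμ with h | h
    · exact h
    exfalso
    -- otherwise `k` would have even order
    have hkz : ∀ j : ℕ, (k⁻¹) ^ j * y₁ * ((k⁻¹) ^ j)⁻¹ * y₁⁻¹ * z ^ j ∈ O := by
      intro j
      induction j with
      | zero => simp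
      | succ j ih =>
        have h1 := hON _ (N.inv_mem hkN) _ ih
        have h2 := O.mul_mem h1 h
        convert h2 using 1
        have hz1 : Commute (k⁻¹) (z ^ j) := ((show Commute k⁻¹ z from hQ.central _)).pow_right j
        have hz2 : ∀ x : G, z ^ j * x = x * z ^ j := fun x =>
          (((show Commute x z from hQ.central x)).pow_right j).symm.eq
        rw [hv, pow_succ z, pow_succ' k⁻¹, inv_inv]
        calc k⁻¹ * k⁻¹ ^ j * y₁ * (k⁻¹ * k⁻¹ ^ j)⁻¹ * y₁⁻¹ * (z ^ j * z)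
            = k⁻¹ * (k⁻¹ ^ j * y₁ * (k⁻¹ ^ j)⁻¹ * y₁⁻¹) * k * (k⁻¹ * y₁ * k * y₁⁻¹ * z ^ j) * z := by
              group
          _ = k⁻¹ * (k⁻¹ ^ j * y₁ * (k⁻¹ ^ j)⁻¹ * y₁⁻¹) * k * (z ^ j * (k⁻¹ * y₁ * k * y₁⁻¹)) * z := by
              rw [hz2 (k⁻¹ * y₁ * k * y₁⁻¹)]
          _ = k⁻¹ * (k⁻¹ ^ j * y₁ * (k⁻¹ ^ j)⁻¹ * y₁⁻¹) * (k * z ^ j) * (k⁻¹ * y₁ * k * y₁⁻¹ * z) := by
              group
          _ = k⁻¹ * (k⁻¹ ^ j * y₁ * (k⁻¹ ^ j)⁻¹ * y₁⁻¹) * (z ^ j * k) * (k⁻¹ * y₁ * k * y₁⁻¹ * z) := by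
              rw [hz2 k]
          _ = _ := by group
    have h1 := hkz (orderOf k)
    rw [inv_pow, pow_orderOf_eq_one, inv_one, inv_one, one_mul, mul_one, mul_inv_cancel, one_mul] at h1
    obtain ⟨m, hm⟩ := hi
    rw [hm, pow_succ, pow_mul, sq, hQ.one.sq, one_pow, one_mul] at h1
    exact hzO h1
  obtain ⟨jy, hjy⟩ : ∃ j : ℕ, y₁ ^ 2 ^ j = 1 := by
    obtain ⟨j, hj⟩ := T.2 ⟨y₁, hRT hy₁R⟩
    exact ⟨j, congrArg Subtype.val hj⟩
  obtain ⟨o, ho, hov⟩ := exists_conj_odd O (CommClosed.odd_core _)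
    (fun o ho => CommClosed.core_normalized C₀ y₁ hy₁C o ho) ⟨jy, hjy⟩
    ⟨jy, by rw [hv, show k⁻¹ * y₁ * k = k⁻¹ * y₁ * k⁻¹⁻¹ by rw [inv_inv], conj_pow, hjy]; group⟩ hμO
  have hol : o * l ∈ fixAxis c := (fixAxis c).mul_mem (Or.inl (by
    rw [((hC₀mem o).1 (hOC ho)).1, mul_inv_cancel_right])) hlfix
  have heq : o * l * y₀ * (o * l)⁻¹ = y₁ := by rw [← hov, hv, hy₁, hl]; group
  have := hP.axis y₀ (o * l) (hRT hy₀R) hol (heq ▸ hRT hy₁R)
  rwa [heq] at this

/-- **Fusion invariance.** -/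
theorem fusion (hc : Axis T S z c) (hP : LocInv T S z c P) : ∀ (d : ℕ) (g y : G),
    Nat.card (T : Subgroup G) - Nat.card ↥((T : Subgroup G) ⊓ (T : Subgroup G).comap
      (MulAut.conj g).toMonoidHom) = d →
    y ∈ T → g * y * g⁻¹ ∈ T → (P y ↔ P (g * y * g⁻¹)) := by
  haveI : Fact (Nat.Prime 2) := ⟨Nat.prime_two⟩
  intro d
  induction d using Nat.strong_induction_on with
  | _ d ih =>
  intro g y hd hy hgy
  set R := (T : Subgroup G) ⊓ (T : Subgroup G).comap (MulAut.conj g).toMonoidHom with hR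
  have hRT : R ≤ (T : Subgroup G) := inf_le_left
  have hgR : ∀ r ∈ R, g * r * g⁻¹ ∈ T := fun r hr => hr.2
  have hyR : y ∈ R := ⟨hy, hgy⟩
  by_cases hfull : R = (T : Subgroup G)
  · have hgN : g ∈ normalizer ((T : Subgroup G) : Set G) :=
      LocalB.mem_normalizer_of_conj_le fun x hx => hgR x (hfull.ge hx)
    exact hQ.core_mem hc hP le_rfl (hQ.le hc.mem) hgN hy
  have hlt : Nat.card R < Nat.card (T : Subgroup G) :=
    lt_of_le_of_ne (card_le_of_le hRT) fun e => hfull (eq_of_le_of_card_ge hRT e.ge)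
  have IH : ∀ (h x : G) (U : Subgroup G), U ≤ (T : Subgroup G) → (∀ u ∈ U, h * u * h⁻¹ ∈ T) →
      Nat.card R < Nat.card U → x ∈ T → h * x * h⁻¹ ∈ T → (P x ↔ P (h * x * h⁻¹)) := by
    intro h x U hU hU' hcard hx hx'
    have h1 : Nat.card U ≤ Nat.card ↥((T : Subgroup G) ⊓ (T : Subgroup G).comap
        (MulAut.conj h).toMonoidHom) := card_le_of_le fun u hu => ⟨hU hu, hU' u hu⟩
    exact ih _ (by omega) h x rfl hx hx'
  have hzR : z ∈ R := ⟨hQ.le hQ.one.mem, by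
    show g * z * g⁻¹ ∈ T
    rw [conj_z hQ]; exact hQ.le hQ.one.mem⟩
  set N := normalizer (R : Set G)
  -- the normalizer step
  have hcore : ∀ n ∈ N, ∀ x ∈ R, (P x ↔ P (n * x * n⁻¹)) := by
    by_cases hcR : c ∈ R
    · exact fun n hn x hx => hQ.core_mem hc hP hRT hcR hn hx
    have hzz' : ∀ w ∈ zpowers z, w = 1 ∨ w = z := fun w hw =>
      hQ.one.uniq w (zpowers_le.2 hQ.one.mem hw) (by
        obtain ⟨i, rfl⟩ := mem_zpowers_iff.1 hw
        rw [← (Commute.refl z).mul_zpow i, hQ.one.sq, one_zpow])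
    have hNR : ∀ n ∈ N, ∀ r ∈ R, n * r * n⁻¹ ∈ R := fun n hn r hr => (mem_normalizer_iff.1 hn r).1 hr
    let Ms : Subgroup G :=
      { carrier := {x | x ∈ N ∧ ∀ r ∈ R, x * r * x⁻¹ = r ∨ x * r * x⁻¹ = r * z}
        one_mem' := ⟨N.one_mem, fun r _ => Or.inl (by group)⟩
        mul_mem' := by
          rintro x x' ⟨hx, hx1⟩ ⟨hx', hx'1⟩
          refine ⟨N.mul_mem hx hx', fun r hr => ?_⟩
          have e1 : x * x' * r * (x * x')⁻¹ = x * (x' * r * x'⁻¹) * x⁻¹ := by group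
          rcases hx'1 r hr with h | h <;> rw [e1, h]
          · exact hx1 r hr
          · rw [show x * (r * z) * x⁻¹ = x * r * x⁻¹ * (x * z * x⁻¹) by group, conj_z hQ]
            rcases hx1 r hr with h' | h' <;> rw [h']
            · exact Or.inr rfl
            · exact Or.inl (by rw [mul_assoc, hQ.one.sq, mul_one])
        inv_mem' := by
          rintro x ⟨hx, hx1⟩
          refine ⟨N.inv_mem hx, fun r hr => ?_⟩
          rcases hx1 r hr with h | h
          · exact Or.inl (by rw [inv_inv]; nth_rw 1 [← h]; group)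
          · refine Or.inr ?_
            rw [inv_inv]
            calc x⁻¹ * r * x = x⁻¹ * (r * z * z) * x := by rw [mul_assoc r, hQ.one.sq, mul_one]
              _ = x⁻¹ * (x * r * x⁻¹ * z) * x := by rw [h]
              _ = r * (x⁻¹ * (z * x)) := by group
              _ = r * z := by rw [← hQ.central x, inv_mul_cancel_left] }
    have hcMs : c ∈ Ms := by
      have hcom : ∀ r ∈ R, c * r * c⁻¹ = r ∨ c * r * c⁻¹ = r * z := by
        intro r hr
        rcases hc.fix r (hRT hr) with h | h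
        · refine Or.inl ?_
          rw [← (mul_inv_eq_iff_eq_mul.1 h), mul_inv_cancel_right]
        · refine Or.inr ?_
          calc c * r * c⁻¹ = c * (r * c⁻¹ * r⁻¹) * r := by group
            _ = c * c * r := by rw [show r * c⁻¹ * r⁻¹ = (r * c * r⁻¹)⁻¹ by group, h, inv_inv]
            _ = r * z := by rw [hc.sq, hQ.central]
      refine ⟨LocalB.mem_normalizer_of_conj_le fun r hr => ?_, hcom⟩
      rcases hcom r hr with h | h <;> rw [h]
      · exact hr
      · exact R.mul_mem hr hzR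
    set K := Ms ⊔ R with hK
    have hKN : K ≤ N := sup_le (fun x hx => hx.1) le_normalizer
    have hKn : ∀ n ∈ N, ∀ m ∈ K, n * m * n⁻¹ ∈ K := by
      intro n hn m hm
      have hle : K ≤ K.comap (MulAut.conj n).toMonoidHom := by
        refine sup_le (fun x hx => mem_sup_left ⟨N.mul_mem (N.mul_mem hn hx.1) (N.inv_mem hn),
          fun r hr => ?_⟩) fun r hr => mem_sup_right (hNR n hn r hr)
        rcases hx.2 (n⁻¹ * r * n) (by simpa using hNR n⁻¹ (N.inv_mem hn) r hr) with h | h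
        · refine Or.inl ?_
          show n * x * n⁻¹ * r * (n * x * n⁻¹)⁻¹ = r
          rw [show n * x * n⁻¹ * r * (n * x * n⁻¹)⁻¹ = n * (x * (n⁻¹ * r * n) * x⁻¹) * n⁻¹ by group, h]
          group
        · refine Or.inr ?_
          show n * x * n⁻¹ * r * (n * x * n⁻¹)⁻¹ = r * z
          rw [show n * x * n⁻¹ * r * (n * x * n⁻¹)⁻¹ = n * (x * (n⁻¹ * r * n) * x⁻¹) * n⁻¹ by group, h,
            show n * (n⁻¹ * r * n * z) * n⁻¹ = r * (n * z * n⁻¹) by group, conj_z hQ]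
      exact hle hm
    have hstep : ∀ m ∈ K, ∀ x ∈ R, (P x ↔ P (m * x * m⁻¹)) := by
      intro m hm
      let U : Subgroup G :=
        { carrier := {m | m ∈ N ∧ ∀ x ∈ R, (P x ↔ P (m * x * m⁻¹))}
          one_mem' := ⟨N.one_mem, fun x _ => by simp⟩
          mul_mem' := by
            rintro u u' ⟨hu, hu1⟩ ⟨hu', hu'1⟩
            refine ⟨N.mul_mem hu hu', fun x hx => ?_⟩
            rw [hu'1 x hx, hu1 _ (hNR u' hu' x hx)]
            simp [mul_assoc]
          inv_mem' := by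
            rintro u ⟨hu, hu1⟩
            refine ⟨N.inv_mem hu, fun x hx => ?_⟩
            rw [hu1 _ (hNR u⁻¹ (N.inv_mem hu) x hx)]
            simp [mul_assoc] }
      have hle : K ≤ U := by
        refine sup_le (fun x hx => ⟨hx.1, fun r hr => ?_⟩) fun r hr => ⟨le_normalizer hr, fun x hx =>
          hP.axis x r (hRT hx) (hc.fix r (hRT hr)) (hRT (hNR r (le_normalizer hr) x hx))⟩
        rcases hx.2 r hr with h | h <;> rw [h]
        exact (hP.mulz r (hRT hr)).symm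
      exact (hle hm).2
    set J := R ⊔ zpowers c
    have hJT : J ≤ (T : Subgroup G) := sup_le hRT (zpowers_le.2 (hQ.le hc.mem))
    have hJK : J ≤ K := sup_le le_sup_right (zpowers_le.2 (mem_sup_left hcMs))
    have hJlt : Nat.card R < Nat.card J :=
      lt_of_le_of_ne (card_le_of_le le_sup_left) fun e => hcR
        ((eq_of_le_of_card_ge (le_sup_left : R ≤ J) e.ge).symm ▸ mem_sup_right (mem_zpowers c))
    obtain ⟨Pk, hPk⟩ := ((T.2.to_le hJT).comap_subtype (K := K)).exists_le_sylow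
    set PG := (Pk : Subgroup K).map K.subtype
    have hJP : J ≤ PG := fun x hx => ⟨⟨x, hJK hx⟩, hPk hx, rfl⟩
    obtain ⟨h', hh'⟩ := exists_into T (Pk.2.map K.subtype)
    intro n hn x hx
    haveI : (K.subgroupOf N).Normal := ⟨fun v hv w => hKn w w.2 v hv⟩
    -- Frattini
    let σ : K ≃* K :=
      { toFun := fun v => ⟨n * v * n⁻¹, hKn n hn v v.2⟩
        invFun := fun v => ⟨n⁻¹ * v * n, by simpa using hKn n⁻¹ (N.inv_mem hn) v v.2⟩
        left_inv := fun v => Subtype.ext (show n⁻¹ * (n * (v : G) * n⁻¹) * n = v by group)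
        right_inv := fun v => Subtype.ext (show n * (n⁻¹ * (v : G) * n) * n⁻¹ = v by group)
        map_mul' := fun v w => Subtype.ext
          (show n * ((v : G) * w) * n⁻¹ = n * v * n⁻¹ * (n * w * n⁻¹) by group) }
    obtain ⟨m, hm⟩ := MulAction.exists_smul_eq K Pk (Pk.mapSurjective (f := σ.toMonoidHom) σ.surjective)
    set n₁ := (m : G)⁻¹ * n with hn₁
    have hn₁N : n₁ ∈ N := N.mul_mem (N.inv_mem (hKN m.2)) hn
    have hn₁P : ∀ q ∈ PG, n₁ * q * n₁⁻¹ ∈ PG := by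
      rintro _ ⟨q, hq, rfl⟩
      have h1 : σ q ∈ ((Pk.mapSurjective (f := σ.toMonoidHom) σ.surjective : Sylow 2 K) : Subgroup K) := by
        exact mem_map_of_mem σ.toMonoidHom hq
      rw [← hm, Sylow.coe_subgroup_smul] at h1
      obtain ⟨q', hq', hqq⟩ := h1
      refine ⟨q', hq', ?_⟩
      have e : (m : G) * q' * (m : G)⁻¹ = n * q * n⁻¹ := congrArg Subtype.val hqq
      show (q' : G) = n₁ * q * n₁⁻¹
      rw [hn₁, show (m : G)⁻¹ * n * q * ((m : G)⁻¹ * n)⁻¹ = (m : G)⁻¹ * (n * q * n⁻¹) * m by group, ← e]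
      group
    have hxP : x ∈ PG := hJP (mem_sup_left hx)
    have hx₁ : n₁ * x * n₁⁻¹ ∈ R := hNR n₁ hn₁N x hx
    have hPT : ∀ u ∈ J, h' * u * h'⁻¹ ∈ T := fun u hu => hh' u (hJP hu)
    have e1 : P x ↔ P (h' * x * h'⁻¹) := IH h' x J hJT hPT hJlt (hRT hx) (hPT x (mem_sup_left hx))
    have e2 : P (n₁ * x * n₁⁻¹) ↔ P (h' * (n₁ * x * n₁⁻¹) * h'⁻¹) :=
      IH h' _ J hJT hPT hJlt (hRT hx₁) (hPT _ (mem_sup_left hx₁))
    have e3 : P (h' * x * h'⁻¹) ↔ P (h' * (n₁ * x * n₁⁻¹) * h'⁻¹) := by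
      have h1 : h' * n₁ * h'⁻¹ * (h' * x * h'⁻¹) * (h' * n₁ * h'⁻¹)⁻¹ =
          h' * (n₁ * x * n₁⁻¹) * h'⁻¹ := by group
      have h2 := IH (h' * n₁ * h'⁻¹) (h' * x * h'⁻¹) (PG.map (MulAut.conj h').toMonoidHom)
        (by rintro _ ⟨q, hq, rfl⟩; exact hh' q hq)
        (by
          rintro _ ⟨q, hq, rfl⟩
          show h' * n₁ * h'⁻¹ * (h' * q * h'⁻¹) * (h' * n₁ * h'⁻¹)⁻¹ ∈ T
          rw [show h' * n₁ * h'⁻¹ * (h' * q * h'⁻¹) * (h' * n₁ * h'⁻¹)⁻¹ =
            h' * (n₁ * q * n₁⁻¹) * h'⁻¹ by group]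
          exact hh' _ (hn₁P q hq))
        (by
          rw [card_map_of_injective (MulAut.conj h').injective]
          exact lt_of_lt_of_le hJlt (card_le_of_le hJP))
        (hPT x (mem_sup_left hx)) (by rw [h1]; exact hPT _ (mem_sup_left hx₁))
      rwa [h1] at h2
    rw [e1, e3, ← e2, hstep _ m.2 _ hx₁,
      show (m : G) * (n₁ * x * n₁⁻¹) * (m : G)⁻¹ = n * x * n⁻¹ by rw [hn₁]; group]
  -- Sylow subgroups of the normalizer
  have hRg : R ≤ ((g⁻¹ • T : Sylow 2 G) : Subgroup G) := fun r hr => by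
    rw [Sylow.coe_subgroup_smul]
    exact ⟨g * r * g⁻¹, hgR r hr, by simp [mul_assoc]⟩
  obtain ⟨t₁, ht₁, ht₁N, ht₁R⟩ := LocalB.exists_mem_normalizer_not_mem (V := R) T.2 hRT hfull
  obtain ⟨t₂, ht₂, ht₂N, ht₂R⟩ := LocalB.exists_mem_normalizer_not_mem (V := R)
    (g⁻¹ • T : Sylow 2 G).2 hRg (fun e => hfull (eq_of_le_of_card_ge hRT (le_of_eq (by
      rw [e, Sylow.coe_subgroup_smul]
      exact Nat.card_congr (equivSMul (MulAut.conj g⁻¹) (T : Subgroup G)).toEquiv))))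
  set U₁ := R ⊔ zpowers t₁
  set U₂ := R ⊔ zpowers t₂
  have hU₁T : U₁ ≤ (T : Subgroup G) := sup_le hRT (zpowers_le.2 ht₁)
  have hU₂T : U₂ ≤ ((g⁻¹ • T : Sylow 2 G) : Subgroup G) := sup_le hRg (zpowers_le.2 ht₂)
  have hlt₁ : Nat.card R < Nat.card U₁ := lt_of_le_of_ne (card_le_of_le le_sup_left) fun e =>
    ht₁R ((eq_of_le_of_card_ge (le_sup_left : R ≤ U₁) e.ge).symm ▸ mem_sup_right (mem_zpowers t₁))
  have hlt₂ : Nat.card R < Nat.card U₂ := lt_of_le_of_ne (card_le_of_le le_sup_left) fun e =>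
    ht₂R ((eq_of_le_of_card_ge (le_sup_left : R ≤ U₂) e.ge).symm ▸ mem_sup_right (mem_zpowers t₂))
  obtain ⟨P₁, hP₁⟩ := ((T.2.to_le hU₁T).comap_subtype (K := N)).exists_le_sylow
  obtain ⟨P₂, hP₂⟩ := (((g⁻¹ • T : Sylow 2 G).2.to_le hU₂T).comap_subtype (K := N)).exists_le_sylow
  obtain ⟨⟨n, hn⟩, hn'⟩ := MulAction.exists_smul_eq N P₂ P₁
  obtain ⟨h, hh⟩ := exists_into T (P₁.2.map N.subtype)
  have hU₁N : U₁ ≤ N := sup_le le_normalizer (zpowers_le.2 ht₁N)
  have hU₂N : U₂ ≤ N := sup_le le_normalizer (zpowers_le.2 ht₂N)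
  have hhU₁ : ∀ u ∈ U₁, h * u * h⁻¹ ∈ T := fun u hu => hh u ⟨⟨u, hU₁N hu⟩, hP₁ hu, rfl⟩
  have hnU₂ : ∀ u ∈ U₂, h * (n * u * n⁻¹) * h⁻¹ ∈ T := fun u hu => hh _ (by
    refine ⟨⟨n, hn⟩ * ⟨u, hU₂N hu⟩ * ⟨n, hn⟩⁻¹, ?_, rfl⟩
    rw [← hn', Sylow.coe_subgroup_smul]
    exact ⟨⟨u, hU₂N hu⟩, hP₂ hu, rfl⟩)
  have hxR : n * y * n⁻¹ ∈ R := (mem_normalizer_iff.1 hn y).1 hyR
  have e1 : P y ↔ P (n * y * n⁻¹) := hcore n hn y hyR
  have e2 := IH h (n * y * n⁻¹) U₁ hU₁T hhU₁ hlt₁ (hRT hxR) (hhU₁ _ (mem_sup_left hxR))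
  set g' := g * n⁻¹ * h⁻¹ with hg'
  have hgu : ∀ u : G, g' * (h * (n * u * n⁻¹) * h⁻¹) * g'⁻¹ = g * u * g⁻¹ := fun u => by
    rw [hg']; group
  have e3 := IH g' (h * (n * y * n⁻¹) * h⁻¹) (U₂.map (MulAut.conj (h * n)).toMonoidHom)
    (by
      rintro _ ⟨u, hu, rfl⟩
      show h * n * u * (h * n)⁻¹ ∈ T
      rw [show h * n * u * (h * n)⁻¹ = h * (n * u * n⁻¹) * h⁻¹ by group]
      exact hnU₂ u hu)
    (by
      rintro _ ⟨u, hu, rfl⟩
      show g' * (h * n * u * (h * n)⁻¹) * g'⁻¹ ∈ T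
      rw [show h * n * u * (h * n)⁻¹ = h * (n * u * n⁻¹) * h⁻¹ by group, hgu]
      have h1 := hU₂T hu
      rw [Sylow.coe_subgroup_smul] at h1
      obtain ⟨r, hr, rfl⟩ := h1
      simpa [mul_assoc] using hr)
    (by rw [card_map_of_injective (MulAut.conj (h * n)).injective]; exact hlt₂)
    (hnU₂ y (mem_sup_left hyR)) (by rw [hgu]; exact hgy)
  rw [hgu] at e3
  exact (e1.trans e2).trans e3

end Quat

end CfsgLib.Criterion.QuatClosed
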