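import Cfsg.Agent.Criterion.Action.Cover
import Cfsg.Agent.Recog.RankOneSuzuki.Model
import Cfsg.Agent.U3Type.Syl

/-!
Strongly closed subgroups containing the involutions of a Sylow 2-subgroup of one of the three
simple groups with a strongly embedded subgroup.
-/

set_option autoImplicit false
set_option linter.unusedSectionVars false
set_option linter.style.haveILetI false

namespace CfsgLib.Criterion.ClosedOvergroup

open Subgroup
open scoped Pointwise

/-- What is used about the Sylow 2-subgroup `P`. -/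
structure TwoFacts {L : Type*} [Group L] (P : Subgroup L) : Prop where
  irr : ∀ R : Subgroup L, R ≤ P → (∀ x ∈ R, ∀ g : L, g * x * g⁻¹ ∈ P → g * x * g⁻¹ ∈ R) →
    (∀ x ∈ P, x * x = 1 → x ∈ R) → R = P ∨ ∀ x ∈ R, x * x = 1
  sq : ∀ x ∈ P, x * x * (x * x) = 1
  central : ∀ x ∈ P, x * x = 1 → ∀ y ∈ P, x * y = y * x

/-- The facts only depend on the isomorphism type of the pair. -/
theorem TwoFacts.congr {L M : Type*} [Group L] [Group M] (e : L ≃* M) {P : Subgroup L}
    {P' : Subgroup M} (hmem : ∀ x : L, x ∈ P ↔ e x ∈ P') (h : TwoFacts P') : TwoFacts P := by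
  refine ⟨fun R hR hcl hinv => ?_, fun x hx => e.injective ?_, fun x hx h2 y hy => e.injective ?_⟩
  · have h1 : ∀ x : L, e x ∈ R.map e.toMonoidHom ↔ x ∈ R := fun x =>
      mem_map_iff_mem e.injective
    have hle : R.map e.toMonoidHom ≤ P' := by
      rintro _ ⟨x, hx, rfl⟩
      exact (hmem x).1 (hR hx)
    rcases h.irr _ hle (fun x hx g hg => by
        obtain ⟨x, rfl⟩ := e.surjective x
        obtain ⟨g, rfl⟩ := e.surjective g
        rw [← map_inv, ← map_mul, ← map_mul] at hg ⊢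
        exact (h1 _).2 (hcl x ((h1 x).1 hx) g ((hmem _).2 hg)))
      (fun x hx h2 => by
        obtain ⟨x, rfl⟩ := e.surjective x
        exact (h1 x).2 (hinv x ((hmem x).2 hx) (e.injective (by rw [map_mul, h2, map_one])))) with
      he | he
    · exact Or.inl (le_antisymm hR fun x hx => (h1 x).1 (he ▸ (hmem x).1 hx))
    · exact Or.inr fun x hx => e.injective (by rw [map_mul, map_one]; exact he _ ((h1 x).2 hx))
  · rw [map_mul, map_mul, map_one]; exact h.sq _ ((hmem x).1 hx)
  · rw [map_mul, map_mul]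
    exact h.central _ ((hmem x).1 hx) (by rw [← map_mul, h2, map_one]) _ ((hmem y).1 hy)

/-- The facts pass from one Sylow subgroup to all of them and along isomorphisms. -/
theorem TwoFacts.sylow {L M : Type*} [Group L] [Finite L] [Group M] [Finite M] (e : L ≃* M)
    {P₀ : Sylow 2 M} (h : TwoFacts (P₀ : Subgroup M)) (P : Sylow 2 L) :
    TwoFacts (P : Subgroup L) := by
  haveI : Fact (Nat.Prime 2) := ⟨Nat.prime_two⟩
  obtain ⟨g, hg⟩ := MulAction.exists_smul_eq M (P.mapSurjective (f := e.toMonoidHom) e.surjective) P₀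
  refine TwoFacts.congr (e.trans (MulAut.conj g)) (P' := (P₀ : Subgroup M)) (fun x => ?_) h
  show x ∈ (P : Subgroup L) ↔ g * e x * g⁻¹ ∈ (P₀ : Subgroup M)
  rw [← hg, Sylow.coe_subgroup_smul]
  show _ ↔ _ ∈ MulAut.conj g • (P : Subgroup L).map e.toMonoidHom
  constructor
  · exact fun hx => ⟨e x, ⟨x, hx, rfl⟩, rfl⟩
  · rintro ⟨y, ⟨w, hw, rfl⟩, hy⟩
    have : e w = e x := mul_left_cancel (mul_right_cancel (show g * e w * g⁻¹ = g * e x * g⁻¹ from hy))
    rwa [← e.injective this]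

/-- The linear case: the 2-subgroups are of exponent two. -/
theorem twoFacts_psl {F : Type} [Field F] [Fintype F] {n : ℕ} (hn : 1 ≤ n)
    (hc : Fintype.card F = 2 ^ n)
    (P : Sylow 2 (Matrix.ProjectiveSpecialLinearGroup (Fin 2) F)) :
    TwoFacts (P : Subgroup (Matrix.ProjectiveSpecialLinearGroup (Fin 2) F)) := by
  have h1 : ∀ x ∈ (P : Subgroup (Matrix.ProjectiveSpecialLinearGroup (Fin 2) F)), x * x = 1 := by
    intro x hx
    obtain ⟨i, hi⟩ := P.2 ⟨x, hx⟩
    have hi' : x ^ 2 ^ i = 1 := congrArg Subtype.val hi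
    have hp : Even (2 ^ n) := even_two.pow_of_ne_zero (by omega)
    rcases CITGraph.spectrum_psl hn hc x with h | h | h
    · rw [← sq]; exact orderOf_dvd_iff_pow_eq_one.1 h
    · rw [Bender.Consumers.eq_one_of_two_of_odd
        ((Nat.Even.sub_odd Nat.one_le_two_pow hp odd_one).of_dvd_nat h) hi', mul_one]
    · rw [Bender.Consumers.eq_one_of_two_of_odd (hp.add_one.of_dvd_nat h) hi', mul_one]
  refine ⟨fun R hR _ _ => Or.inr fun x hx => h1 x (hR hx), fun x hx => by rw [h1 x hx, one_mul],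
    fun x hx _ y hy => ?_⟩
  have h := h1 _ (mul_mem hx hy)
  have hxi : x⁻¹ = x := inv_eq_of_mul_eq_one_right (h1 x hx)
  have hyi : y⁻¹ = y := inv_eq_of_mul_eq_one_right (h1 y hy)
  calc x * y = (x * y)⁻¹ := (inv_eq_of_mul_eq_one_right h).symm
    _ = y * x := by rw [mul_inv_rev, hxi, hyi]

/-- The Suzuki case. -/
theorem twoFacts_suzuki {F : Type*} [Field F] {m : ℕ} (hF : Suzuki.IsSzField F m) :
    TwoFacts (Suzuki.unipSylow hF : Subgroup (Suzuki.SzG F m)) := by
  haveI := hF.finite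
  rw [Suzuki.coe_unipSylow]
  have hz : ∀ a b : F, Suzuki.uE hF a b * Suzuki.uE hF a b = 1 → a = 0 := by
    intro a b h
    rw [Suzuki.uE_sq, Suzuki.uE_eq_one] at h
    rcases mul_eq_zero.1 h.2 with h | h
    · exact hF.sg_injective (by rw [h, Suzuki.sg_zero])
    · exact h
  refine ⟨fun R hR hcl hinv => ?_, fun x hx => ?_, fun x hx h2 y hy => ?_⟩
  · refine or_iff_not_imp_right.2 fun h => le_antisymm hR fun y hy => ?_
    push Not at h
    obtain ⟨x, hx, hxx⟩ := h
    obtain ⟨a, b, rfl⟩ := Suzuki.exists_uE hF (hR hx)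
    obtain ⟨c, d, rfl⟩ := Suzuki.exists_uE hF hy
    have ha : a ≠ 0 := fun e => hxx (by
      rw [Suzuki.uE_sq, e, mul_zero, Suzuki.uE_zero])
    have h0 : ∀ d' : F, Suzuki.uE hF 0 d' ∈ R := fun d' => hinv _ (Suzuki.uE_mem hF 0 d') (by
      rw [Suzuki.uE_sq, mul_zero, Suzuki.uE_zero])
    by_cases hc : c = 0
    · rw [hc]; exact h0 d
    obtain ⟨t, ht⟩ := hF.sg_bijective.2 (c / a)
    have ht0 : t ≠ 0 := fun e => div_ne_zero hc ha (by rw [← ht, e, Suzuki.sg_zero])
    have h1 := hcl _ hx (Suzuki.dE hF (Units.mk0 t ht0))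
      (by rw [Suzuki.dE_conj]; exact Suzuki.uE_mem hF _ _)
    rw [Suzuki.dE_conj, Units.val_mk0, ht, div_mul_cancel₀ c ha] at h1
    have h2 := mul_mem h1 (h0 (d - c / a * t ^ 2 * b))
    rw [Suzuki.uE_mul] at h2
    convert h2 using 2
    · rw [add_zero]
    · ring
  · obtain ⟨a, b, rfl⟩ := Suzuki.exists_uE hF hx
    rw [Suzuki.uE_sq, Suzuki.uE_sq, mul_zero, Suzuki.uE_zero]
  · obtain ⟨a, b, rfl⟩ := Suzuki.exists_uE hF hx
    obtain ⟨c, d, rfl⟩ := Suzuki.exists_uE hF hy
    rw [hz a b h2, Suzuki.uE_mul, Suzuki.uE_mul, Suzuki.sg_zero]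
    congr 1 <;> ring

open SU3Pres in
/-- The unitary case. -/
theorem twoFacts_psu {F : Type} [Field F] [Fintype F] {n : ℕ} (hn : 2 ≤ n)
    (hc : Fintype.card F = (2 ^ n) ^ 2) :
    ∃ P : Sylow 2 (Cfsg.PSU 3 F (2 ^ n)), TwoFacts (P : Subgroup (Cfsg.PSU 3 F (2 ^ n))) := by
  classical
  haveI : Fact (Nat.Prime 2) := ⟨Nat.prime_two⟩
  have hF : Nat.card F = (2 ^ n) ^ 2 := by rw [Nat.card_eq_fintype_card, hc]
  haveI : CharP F 2 := charP_of_card_eq_prime_pow (f := n * 2) (by rw [hc, pow_mul])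
  have hq4 : 4 ≤ 2 ^ n := by simpa using Nat.pow_le_pow_right (show 1 ≤ 2 by norm_num) hn
  obtain ⟨e⟩ := nonempty_equiv hF
  let π : HU F (2 ^ n) →* Cfsg.PSU 3 F (2 ^ n) :=
    (QuotientGroup.mk' (Subgroup.center (Cfsg.SU 3 F (2 ^ n)))).comp e.toMonoidHom
  have hzodd : Odd (Nat.card (Subgroup.center (Cfsg.SU 3 F (2 ^ n)))) := by
    rw [CfsgLib.Unitary.card_center_SU hF (by norm_num)]
    exact (by decide : Odd 3).of_dvd_nat (Nat.gcd_dvd_left _ _)
  set U := Recog.RankOneSuzuki.Model.unip (F := F) (q := 2 ^ n) hF with hU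
  have hUp : IsPGroup 2 U := IsPGroup.of_card (n := n * 3) (by
    rw [Recog.RankOneSuzuki.Model.card_unip, pow_mul])
  have hinj : ∀ u ∈ U, π u = 1 → u = 1 := by
    intro u hu h
    obtain ⟨i, hi⟩ := hUp ⟨u, hu⟩
    have hmem : e u ∈ Subgroup.center (Cfsg.SU 3 F (2 ^ n)) := (QuotientGroup.eq_one_iff _).1 h
    have h1 := hzodd.of_dvd_nat (Subgroup.orderOf_dvd_natCard _ hmem)
    rw [MulEquiv.orderOf_eq] at h1
    exact Bender.Consumers.eq_one_of_two_of_odd h1 (congrArg Subtype.val hi)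
  obtain ⟨P, hP⟩ := (hUp.map π).exists_le_sylow
  have hfacts := U3Type.facts_psu (n := n) (by omega) hF P
  have hPU : U.map π = (P : Subgroup (Cfsg.PSU 3 F (2 ^ n))) := by
    refine eq_of_le_of_card_ge hP (le_of_eq ?_)
    rw [hfacts.card, ← Recog.RankOneSuzuki.Model.card_unip hF]
    refine (Nat.card_congr (Equiv.ofBijective (fun u : U => (⟨π u, _, u.2, rfl⟩ : U.map π))
      ⟨fun u v huv => ?_, ?_⟩))
    · have h' : π u = π v := congrArg Subtype.val huv
      exact Subtype.ext (eq_of_inv_mul_eq_one (hinj _ (mul_mem (inv_mem u.2) v.2)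
        (by rw [map_mul, map_inv, h', inv_mul_cancel])))
    · rintro ⟨_, u, hu, rfl⟩
      exact ⟨⟨u, hu⟩, rfl⟩
  refine ⟨P, fun R hR hcl hinv => ?_, fun x hx => congrArg Subtype.val (hfacts.sq_sq ⟨x, hx⟩),
    fun x hx h2 y hy => congrArg Subtype.val (hfacts.central ⟨x, hx⟩ (Subtype.ext h2) ⟨y, hy⟩)⟩
  refine or_iff_not_imp_right.2 fun h => le_antisymm hR ?_
  push Not at h
  obtain ⟨x, hx, hxx⟩ := h
  let A : AddSubgroup F :=
    { carrier := {c | ∃ b, ∃ hv : Vld (2 ^ n) c b, π (uel hF c b hv) ∈ R}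
      zero_mem' := ⟨0, vld_zero hF, by rw [uel_zero, map_one]; exact one_mem _⟩
      add_mem' := by
        rintro c c' ⟨b, hv, h⟩ ⟨b', hv', h'⟩
        refine ⟨_, vld_mul hF hv hv', ?_⟩
        rw [← uel_mul hF hv hv', map_mul]
        exact mul_mem h h'
      neg_mem' := fun {c} hc => by rwa [CharTwo.neg_eq] }
  have hmem : ∀ y ∈ (P : Subgroup (Cfsg.PSU 3 F (2 ^ n))),
      ∃ c b, ∃ hv : Vld (2 ^ n) c b, π (uel hF c b hv) = y := by
    intro y hy
    rw [← hPU] at hy
    obtain ⟨_, ⟨⟨⟨c, b⟩, hv⟩, rfl⟩, rfl⟩ := hy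
    exact ⟨c, b, hv, rfl⟩
  have h0 : ∀ b, ∀ hv : Vld (2 ^ n) (0 : F) b, π (uel hF 0 b hv) ∈ R := by
    intro b hv
    refine hinv _ (hPU ▸ mem_map_of_mem π ⟨⟨(0, b), hv⟩, rfl⟩) ?_
    rw [← map_mul, uel_mul, ← map_one π, ← uel_zero hF]
    refine congrArg π (uel_congr hF _ _ (by rw [add_zero]) ?_)
    rw [zero_mul, sub_zero, CharTwo.add_self_eq_zero]
  obtain ⟨a, b, hv, rfl⟩ := hmem x (hR hx)
  have ha : a ≠ 0 := by
    rintro rfl
    refine hxx ?_
    rw [← map_mul, uel_mul, ← map_one π, ← uel_zero hF]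
    refine congrArg π (uel_congr hF _ _ (by rw [add_zero]) ?_)
    rw [zero_mul, sub_zero, CharTwo.add_self_eq_zero]
  have hlam : ∀ (k : Fˣ) (c : F), c ∈ A → lam (2 ^ n) (k : F) * c ∈ A := by
    rintro k c ⟨b', hv', h'⟩
    refine ⟨_, vld_conj hF k.ne_zero hv', ?_⟩
    rw [← tel_conj hF k hv', map_mul, map_mul, map_inv]
    refine hcl _ h' _ ?_
    rw [← map_inv, ← map_mul, ← map_mul, tel_conj hF k hv', ← hPU]
    exact mem_map_of_mem π ⟨⟨(_, _), vld_conj hF k.ne_zero hv'⟩, rfl⟩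
  let K : Subfield F :=
    { carrier := {m | ∀ c ∈ A, m * c ∈ A}
      one_mem' := fun c hc => by rwa [one_mul]
      mul_mem' := fun {m m'} hm hm' c hc => by rw [mul_assoc]; exact hm _ (hm' c hc)
      zero_mem' := fun c _ => by rw [zero_mul]; exact A.zero_mem
      add_mem' := fun {m m'} hm hm' c hc => by rw [add_mul]; exact A.add_mem (hm c hc) (hm' c hc)
      neg_mem' := fun {m} hm c hc => by rw [neg_mul]; exact A.neg_mem (hm c hc)
      inv_mem' := fun m hm c hc => by
        by_cases hm0 : m = 0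
        · rw [hm0, inv_zero, zero_mul]; exact A.zero_mem
        obtain ⟨c', hc'⟩ := (Finite.injective_iff_surjective
          (f := fun c : A => (⟨m * c, hm c c.2⟩ : A))).1
          (fun p q hpq => Subtype.ext (mul_left_cancel₀ hm0 (congrArg Subtype.val hpq))) ⟨c, hc⟩
        have e' : m * (c' : F) = c := congrArg Subtype.val hc'
        rw [← e', inv_mul_cancel_left₀ hm0]
        exact c'.2 }
  have hK : K = ⊤ := by
    by_contra hne
    -- the multipliers contain the image of the torus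
    let lm : Fˣ →* Fˣ :=
      { toFun := fun k => k * k / k ^ (2 ^ n)
        map_one' := by simp
        map_mul' := fun k l => by rw [mul_pow, mul_mul_mul_comm, mul_div_mul_comm] }
    have hval : ∀ k : Fˣ, ((lm k : Fˣ) : F) = lam (2 ^ n) (k : F) := fun k => by
      show ((k * k / k ^ (2 ^ n) : Fˣ) : F) = _
      simp [lam, Units.val_div_eq_div_val]
    have hker : Nat.card lm.ker ≤ 3 := by
      have hle : lm.ker ≤ (powMonoidHom 3 : Fˣ →* Fˣ).ker := fun k hk => by
        have hk1 : k * k = k ^ (2 ^ n) := div_eq_one.1 hk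
        have hkF : (k : F) * k = (k : F) ^ (2 ^ n) := by
          have := congrArg Units.val hk1
          simpa using this
        have h4 : (k : F) ^ 4 = k := by
          conv_rhs => rw [← CfsgLib.Forms.pow_q_q hF (k : F), ← hkF, mul_pow, ← hkF]
          ring
        have h3 : (k : F) ^ 3 = 1 := by
          refine mul_left_cancel₀ k.ne_zero ?_
          rw [mul_one, ← pow_succ']; exact h4
        exact Units.ext (by simpa using h3)
      refine (card_le_of_le hle).trans ?_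
      rw [IsCyclic.card_powMonoidHom_ker]
      exact Nat.le_of_dvd (by norm_num) (Nat.gcd_dvd_right _ _)
    have hrange : Nat.card lm.range ≤ Nat.card K - 1 := by
      let f : lm.range → {m : K // m ≠ 0} := fun u => ⟨⟨((u : Fˣ) : F), by
        obtain ⟨k, hk⟩ := u.2
        intro c hc
        rw [← hk, hval]
        exact hlam k c hc⟩, fun h => (u : Fˣ).ne_zero (congrArg Subtype.val h)⟩
      have hf : Function.Injective f := fun u v h =>
        Subtype.ext (Units.ext (congrArg (fun w : {m : K // m ≠ 0} => ((w : K) : F)) h))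
      refine (Nat.card_le_card_of_injective f hf).trans (le_of_eq ?_)
      rw [← Nat.card_units, Nat.card_congr unitsEquivNeZero.symm]
    have hKq : Nat.card K ≤ 2 ^ n := by
      have hc' := Module.natCard_eq_pow_finrank (K := K) (V := F)
      have hK1 : 1 < Nat.card K := Finite.one_lt_card
      have hr1 : Module.finrank K F ≠ 1 := fun h1 => hne (by
        rw [h1, pow_one] at hc'
        refine SetLike.ext' (Set.eq_univ_of_forall fun x => ?_) |>.trans rfl
        obtain ⟨y, hy⟩ := ((Nat.bijective_iff_injective_and_card (f := (Subtype.val : K → F))).2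
          ⟨Subtype.val_injective, hc'.symm⟩).2 x
        exact hy ▸ y.2)
      have hr0 : Module.finrank K F ≠ 0 := Module.finrank_pos.ne'
      have h2 : Nat.card K ^ 2 ≤ Nat.card K ^ Module.finrank K F :=
        Nat.pow_le_pow_right (by omega) (by omega)
      rw [← hc', hF] at h2
      exact (Nat.pow_le_pow_iff_left (by norm_num)).1 h2
    have hmul := Subgroup.card_mul_index lm.ker
    rw [index_ker, Nat.card_units, hF] at hmul
    have : Nat.card lm.ker * Nat.card lm.range ≤ 3 * (2 ^ n - 1) :=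
      Nat.mul_le_mul hker (hrange.trans (by omega))
    rw [hmul] at this
    generalize 2 ^ n = q at hq4 this
    have h16 : 4 * q ≤ q ^ 2 := by rw [sq]; exact Nat.mul_le_mul_right q hq4
    omega
  intro y hy
  obtain ⟨c, d, hv', rfl⟩ := hmem y hy
  have hcA : c ∈ A := by
    have h1 : c / a ∈ K := hK ▸ Subfield.mem_top _
    have h2 := h1 a ⟨b, hv, hx⟩
    rwa [div_mul_cancel₀ c ha] at h2
  obtain ⟨b', hv'', h'⟩ := hcA
  have h1 : π (uel hF c d hv') * π (uel hF c b' hv'') ∈ R := by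
    rw [← map_mul, uel_mul]
    have e0 : Vld (2 ^ n) (0 : F) (d + b' - c * c ^ (2 ^ n)) := by
      have := vld_mul hF hv' hv''
      rwa [CharTwo.add_self_eq_zero] at this
    rw [uel_congr hF _ e0 (CharTwo.add_self_eq_zero c) rfl]
    exact h0 _ e0
  exact (R.mul_mem_cancel_right h').1 h1

/-- The facts for the three simple groups. -/
theorem twoFacts_of_three {L : Type*} [Group L] [Finite L] (hL : Bender.Consumers.Three L)
    (P : Sylow 2 L) : TwoFacts (P : Subgroup L) := by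
  rcases hL with ⟨F, i1, i2, ⟨n, hn, hc⟩, ⟨e⟩⟩ | ⟨F, i1, i2, m, hm, hc, ⟨e⟩⟩ |
    ⟨F, i1, i2, n, hn, hc, ⟨e⟩⟩
  · obtain ⟨P₀⟩ : Nonempty (Sylow 2 (Matrix.ProjectiveSpecialLinearGroup (Fin 2) F)) := inferInstance
    exact (twoFacts_psl (by omega) hc P₀).sylow e P
  · have hF := Suzuki.isSzField_of_card hm hc
    haveI := hF.finite
    exact (twoFacts_suzuki hF).sylow (e.trans (Suzuki.lieEquiv hF).symm) P
  · obtain ⟨P₀, h⟩ := twoFacts_psu hn hc
    exact h.sylow e P

end CfsgLib.Criterion.ClosedOvergroup
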