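import Cfsg.Agent.Criterion.Action.Rows
import Cfsg.Agent.Criterion.Action.Cover
import Cfsg.Agent.Criterion.Types
import Cfsg.Agent.Bender.StructureMain
import Cfsg.Agent.ZStar.Final

/-!
Tightly embedded subgroups meeting other normalizers oddly: strong embedding in the normal closure.

With `K = L Q`, `L` the normal closure of a 2-central involution of `Q`, an involution of `K` fixing
two points is shown to lie in `Q`.
-/

set_option autoImplicit false
set_option linter.unusedSectionVars false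
set_option linter.style.haveILetI false

namespace CfsgLib.Criterion.Act.Tight

open Subgroup MulAction CfsgLib.Bender
open scoped commutatorElement

universe u

/-! ### General facts -/

/-- An element of odd order congruent to a 2-element is congruent to one. -/
theorem mem_of_odd_coset {X : Type*} [Group X] [Finite X] {R : Subgroup X} [R.Normal] {e t : X}
    (he : Odd (orderOf e)) {i : ℕ} (ht : t ^ 2 ^ i = 1) (h : t⁻¹ * e ∈ R) : e ∈ R := by
  refine (QuotientGroup.eq_one_iff e).1 (Consumers.eq_one_of_two_of_odd (i := i) ?_ ?_)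
  · exact he.of_dvd_nat (orderOf_map_dvd (QuotientGroup.mk' R) e)
  · rw [show (e : X ⧸ R) = t from (QuotientGroup.eq.2 h).symm, ← QuotientGroup.mk_pow, ht,
      QuotientGroup.mk_one]

/-- An element of prime order permuting a coset of a subgroup of coprime order centralizes one of
its members. -/
theorem exists_fixed_coset {X : Type*} [Group X] {T : Subgroup X} [Finite T] {k x : X} {p : ℕ}
    (hp : p.Prime) (hk : k ^ p = 1) (hnd : ¬ p ∣ Nat.card T) (hT : ∀ r ∈ T, k * r * k⁻¹ ∈ T)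
    (hx : k * x * k⁻¹ * x⁻¹ ∈ T) : ∃ r ∈ T, k * (r * x) = r * x * k := by
  haveI : Fact p.Prime := ⟨hp⟩
  haveI := Fintype.ofFinite T
  let f : T → T := fun r => ⟨k * r * k⁻¹ * (k * x * k⁻¹ * x⁻¹), mul_mem (hT r r.2) hx⟩
  have key : ∀ (j : ℕ) (r : T), (((f^[j]) r : T) : X) * x = k ^ j * ((r : X) * x) * (k ^ j)⁻¹ := by
    intro j
    induction j with
    | zero => intro r; simp
    | succ j ih =>
      intro r
      rw [Function.iterate_succ_apply']
      show k * (((f^[j]) r : T) : X) * k⁻¹ * (k * x * k⁻¹ * x⁻¹) * x = _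
      calc k * (((f^[j]) r : T) : X) * k⁻¹ * (k * x * k⁻¹ * x⁻¹) * x
          = k * ((((f^[j]) r : T) : X) * x) * k⁻¹ := by group
        _ = k * (k ^ j * ((r : X) * x) * (k ^ j)⁻¹) * k⁻¹ := by rw [ih]
        _ = k ^ (j + 1) * ((r : X) * x) * (k ^ (j + 1))⁻¹ := by rw [pow_succ']; group
  have hinj : Function.Injective f := fun r s h => Subtype.ext
    (mul_left_cancel (mul_right_cancel (mul_right_cancel (congrArg Subtype.val h))))
  let σ : Equiv.Perm T := Equiv.ofBijective f (Finite.injective_iff_bijective.1 hinj)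
  obtain ⟨r, hr⟩ := Equiv.Perm.exists_fixed_point_of_prime (p := p) (n := 1) (σ := σ)
    (by rwa [← Nat.card_eq_fintype_card]) (Equiv.ext fun r => Subtype.ext (mul_right_cancel (b := x) (by
      rw [pow_one, ← Equiv.Perm.iterate_eq_pow]
      show (((f^[p]) r : T) : X) * x = (r : X) * x
      rw [key, hk, inv_one, mul_one, one_mul])))
  refine ⟨r, r.2, ?_⟩
  have h1 := key 1 r
  rw [Function.iterate_one, show f r = r from hr, pow_one] at h1
  exact (eq_mul_inv_iff_mul_eq.1 h1).symm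

/-! ### The frame -/

/-- A subgroup `Q` at the point `a` of a transitive action, as a tightly embedded subgroup meeting
other normalizers oddly, with the criterion known at its 2-central involution `z`. -/
structure Frame (G Ω : Type u) [Group G] [MulAction G Ω] (a : Ω) (Q : Subgroup G) (z : G) : Prop where
  fix : ∀ q ∈ Q, q • a = a
  norm : ∀ g : G, g • a = a → ∀ q ∈ Q, g * q * g⁻¹ ∈ Q
  one : ∀ q ∈ Q, orderOf q = 2 → ∀ b : Ω, q • b = b → b = a
  free : ∀ q ∈ Q, (∀ b : Ω, q • b = b) → q = 1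
  mem : z ∈ Q
  ord : orderOf z = 2
  central : ∃ S : Sylow 2 G, ∀ s ∈ S, s * z = z * s
  moved : ∃ b : Ω, b ≠ a
  trans : ∀ b : Ω, ∃ l ∈ normalClosure ({z} : Set G), l • a = b
  concl : Concl G Ω z

namespace Frame

variable {G Ω : Type u} [Group G] [MulAction G Ω] {a : Ω} {Q : Subgroup G} {z : G}
  (F : Frame G Ω a Q z)
include F

theorem mul_self : z * z = 1 := Invol.mul_self_eq_one F.ord

/-- Elements acting trivially commute with `Q`. -/
theorem commute_trivial {y q : G} (hy : ∀ b : Ω, y • b = b) (hq : q ∈ Q) : Commute y q := by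
  refine mul_inv_eq_iff_eq_mul.1 (mul_inv_eq_one.1 (F.free _
    (mul_mem (F.norm y (hy a) q hq) (inv_mem hq)) fun b => ?_))
  rw [mul_smul, mul_smul, mul_smul, inv_smul_eq_iff.2 (hy (q⁻¹ • b)).symm, smul_inv_smul, hy]

/-- Elements acting trivially commute with `L`. -/
theorem commute_trivial' {y l : G} (hy : ∀ b : Ω, y • b = b)
    (hl : l ∈ normalClosure ({z} : Set G)) : Commute y l := by
  set Y := (MulAction.toPermHom G Ω).ker
  have hle : normalClosure ({z} : Set G) ≤ centralizer (Y : Set G) :=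
    normalClosure_le_normal (Set.singleton_subset_iff.2 (mem_centralizer_iff.2 fun y hy =>
      (F.commute_trivial (fun b => Equiv.congr_fun (MonoidHom.mem_ker.1 hy) b) F.mem).eq))
  exact mem_centralizer_iff.1 (hle hl) y (MonoidHom.mem_ker.2 (Equiv.ext hy))

/-- A conjugate of `z` fixing a point lies in the conjugate of `Q` there. -/
theorem mem_at {x g : G} (hx : IsConj z x) (hfix : x • g • a = g • a) : g⁻¹ * x * g ∈ Q := by
  obtain ⟨c, rfl⟩ := isConj_iff.1 hx
  have h1 : z • (c⁻¹ * g) • a = (c⁻¹ * g) • a := by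
    rw [mul_smul, mul_smul, ← eq_inv_smul_iff] at hfix
    rw [mul_smul]
    exact hfix
  have h2 := F.norm _ (inv_smul_eq_iff.2 (F.one z F.mem F.ord _ h1).symm :
    (c⁻¹ * g)⁻¹ • a = a) z F.mem
  rwa [show (c⁻¹ * g)⁻¹ * z * (c⁻¹ * g)⁻¹⁻¹ = g⁻¹ * (c * z * c⁻¹) * g by group] at h2

/-- A conjugate of `z` fixes a point. -/
theorem exists_fix {x : G} (hx : IsConj z x) : ∃ g : G, x • g • a = g • a := by
  obtain ⟨c, rfl⟩ := isConj_iff.1 hx
  exact ⟨c, by rw [mul_smul, mul_smul, inv_smul_smul, F.fix z F.mem]⟩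

/-- A conjugate of `z` fixes only one point. -/
theorem fix_unique {x : G} (hx : IsConj z x) {b c : Ω} (hb : x • b = b) (hc : x • c = c) :
    b = c := by
  obtain ⟨d, rfl⟩ := isConj_iff.1 hx
  rw [mul_smul, mul_smul, ← eq_inv_smul_iff] at hb hc
  exact smul_left_cancel d⁻¹ ((F.one z F.mem F.ord _ hb).trans (F.one z F.mem F.ord _ hc).symm)

/-- Elements of one conjugate of `Q` acting alike are equal. -/
theorem eq_of_act_at {x y g : G} (hx : g⁻¹ * x * g ∈ Q) (hy : g⁻¹ * y * g ∈ Q)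
    (h : ∀ b : Ω, x • b = y • b) : x = y := by
  have h1 := F.free _ (mul_mem (inv_mem hx) hy) fun b => by
    rw [mul_smul, inv_smul_eq_iff]
    simp only [mul_smul, h]
  exact mul_left_cancel (mul_right_cancel (inv_mul_eq_one.1 h1))

/-- Conjugates of `z` acting alike are equal. -/
theorem eq_of_act {x y : G} (hx : IsConj z x) (hy : IsConj z y) (h : ∀ b : Ω, x • b = y • b) :
    x = y := by
  obtain ⟨g, hg⟩ := F.exists_fix hx
  exact F.eq_of_act_at (F.mem_at hx hg) (F.mem_at hy (by rw [← h, hg])) h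

/-- Conjugates of `z` commuting on the points commute. -/
theorem commute_of_act {x y : G} (hy : IsConj z y)
    (h : ∀ b : Ω, (x * y) • b = (y * x) • b) : Commute x y := by
  refine mul_inv_eq_iff_eq_mul.1 (F.eq_of_act (hy.trans (isConj_iff.2 ⟨x, rfl⟩)) hy fun b => ?_)
  rw [mul_smul, h, ← mul_smul, mul_inv_cancel_right]

/-- The product of two commuting conjugates lies in the conjugate of `Q` at their fixed point. -/
theorem mul_mem_at {x y g : G} (hx : IsConj z x) (hy : IsConj z y) (hc : Commute x y)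
    (hg : x • g • a = g • a) : g⁻¹ * (x * y) * g ∈ Q := by
  have hyg : y • g • a = g • a := F.fix_unique hx (by rw [← mul_smul, hc.eq, mul_smul, hg]) hg
  have := mul_mem (F.mem_at hx hg) (F.mem_at hy hyg)
  rwa [show g⁻¹ * x * g * (g⁻¹ * y * g) = g⁻¹ * (x * y) * g by group] at this

/-- The permutation action of `L`. -/
def act (_ : Frame G Ω a Q z) : ↥(normalClosure ({z} : Set G)) →* Equiv.Perm Ω :=
  (MulAction.toPermHom G Ω).comp (normalClosure ({z} : Set G)).subtype

theorem smul_eq (l : ↥(normalClosure ({z} : Set G))) (b : Ω) :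
    F.act.rangeRestrict l • b = (l : G) • b := rfl

theorem act_eq_iff {x y : ↥(normalClosure ({z} : Set G))} :
    F.act.rangeRestrict x = F.act.rangeRestrict y ↔ ∀ b : Ω, (x : G) • b = (y : G) • b :=
  ⟨fun h b => by rw [← F.smul_eq, h, F.smul_eq], fun h => Subtype.ext (Equiv.ext h)⟩

theorem trivial_of_act {c : ↥(normalClosure ({z} : Set G))} (hc : F.act.rangeRestrict c = 1)
    (b : Ω) : (c : G) • b = b := by
  rw [← F.smul_eq, hc, one_smul]

theorem pretransitive_range : IsPretransitive F.act.range Ω := ⟨fun b c => by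
  obtain ⟨l, hl, hlb⟩ := F.trans b
  obtain ⟨m, hm, hmc⟩ := F.trans c
  refine ⟨F.act.rangeRestrict (⟨m, hm⟩ * ⟨l, hl⟩⁻¹), ?_⟩
  rw [F.smul_eq]
  show (m * l⁻¹) • b = c
  rw [mul_smul, inv_smul_eq_iff.2 hlb.symm, hmc]⟩

variable [Finite G]

/-- An involution of the permutation group lifting a conjugate of `z`. -/
theorem orderOf_image {x : ↥(normalClosure ({z} : Set G))} (hx : IsConj z (x : G)) :
    orderOf (F.act.rangeRestrict x) = 2 := by
  haveI : Fact (Nat.Prime 2) := ⟨Nat.prime_two⟩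
  refine orderOf_eq_prime ?_ fun h => ?_
  · obtain ⟨c, hc⟩ := isConj_iff.1 hx
    rw [sq, ← map_mul, show x * x = 1 from Subtype.ext (by
      rw [coe_mul, ← hc, coe_one]; exact conj_invol F.mul_self c), map_one]
  · obtain ⟨b, hb⟩ := F.moved
    exact hb (F.fix_unique hx (F.trivial_of_act h b) (F.trivial_of_act h a))

/-- Without commuting pairs in the permutation group `z` is isolated, so `w` lies in `Q`. -/
theorem mem_of_rank_one (hp : ¬ PairRank F.act.range) {w l q : G}
    (hl : l ∈ normalClosure ({z} : Set G)) (hq : q ∈ Q) (hla : l • a = a) (hw : w * w = 1)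
    (hwlq : w = l * q) : w ∈ Q := by
  have hiso : Cfsg.IsIsolatedInvolution z := by
    refine ⟨F.ord, fun g hg => by_contra fun hne => hp ?_⟩
    have hzL : z ∈ normalClosure ({z} : Set G) := subset_normalClosure rfl
    have hgc : IsConj z (g * z * g⁻¹) := isConj_iff.2 ⟨g, rfl⟩
    refine ⟨F.act.rangeRestrict ⟨z, hzL⟩, F.act.rangeRestrict
      ⟨g * z * g⁻¹, normalClosure_normal.conj_mem z hzL g⟩, F.orderOf_image (IsConj.refl z),
      F.orderOf_image hgc, fun h => hne (F.eq_of_act hgc (IsConj.refl z) fun b => ?_), ?_⟩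
    · exact ((F.act_eq_iff).1 h b).symm
    · show _ * _ = _ * _
      rw [← map_mul, ← map_mul]
      exact congrArg _ (Subtype.ext hg.eq)
  obtain ⟨N, hN, hodd, hcomm⟩ := ZStar.zstar hiso
  haveI := hN
  set π := QuotientGroup.mk' N
  have hc : ∀ x : G ⧸ N, x * π z = π z * x := fun x => by
    obtain ⟨g, rfl⟩ := QuotientGroup.mk'_surjective N x
    have h : π (z * g * z⁻¹ * g⁻¹) = 1 := (QuotientGroup.eq_one_iff _).2 (hcomm g)
    rw [map_mul, map_mul, map_mul, map_inv, map_inv, mul_inv_eq_one, mul_inv_eq_iff_eq_mul] at h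
    exact h.symm
  haveI : (zpowers (π z)).Normal := ⟨fun x hx g => by
    obtain ⟨m, rfl⟩ := hx
    exact ⟨m, by
      have : Commute g (π z ^ m) := (show Commute g (π z) from hc g).zpow_right m
      show π z ^ m = g * π z ^ m * g⁻¹
      rw [this.eq, mul_inv_cancel_right]⟩⟩
  have hle : normalClosure ({z} : Set G) ≤ (zpowers (π z)).comap π :=
    normalClosure_le_normal (Set.singleton_subset_iff.2 (mem_zpowers (π z)))
  -- an element of `L` fixing `a` modulo `N` gives an element of `N`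
  have key : ∀ m p : G, m • a = a → p ∈ Q → w = m * p → m ∈ N → w ∈ Q := by
    intro m p hma hp hwm hmN
    have hm2 : m * m ∈ Q := by
      have h1 : m * p * m⁻¹ ∈ Q := F.norm m hma p hp
      have h2 : m * m = (m * p * m⁻¹)⁻¹ * (w * w) * p⁻¹ := by rw [hwm]; group
      rw [h2, hw, mul_one]
      exact mul_mem (inv_mem h1) (inv_mem hp)
    obtain ⟨j, hj⟩ := hodd.of_dvd_nat (Subgroup.orderOf_dvd_natCard _ hmN)
    have hmQ : m ∈ Q := by
      have e : m = (m * m) ^ (j + 1) := by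
        rw [← sq, ← pow_mul, show 2 * (j + 1) = orderOf m + 1 by omega, pow_succ,
          pow_orderOf_eq_one, one_mul]
      exact e ▸ pow_mem hm2 _
    exact hwm ▸ mul_mem hmQ hp
  obtain ⟨j, hj⟩ := mem_zpowers_iff.1 (mem_comap.1 (hle hl))
  rcases Int.even_or_odd j with ⟨i, rfl⟩ | ⟨i, rfl⟩
  · refine key l q hla hq hwlq ((QuotientGroup.eq_one_iff l).1 ?_)
    show π l = 1
    rw [← hj, ← two_mul, zpow_mul, zpow_two, ← map_mul, F.mul_self, map_one, one_zpow]
  · refine key (l * z) (z * q) (by rw [mul_smul, F.fix z F.mem, hla]) (mul_mem F.mem hq) ?_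
      ((QuotientGroup.eq_one_iff _).1 ?_)
    · rw [hwlq]
      calc l * q = l * (z * z) * q := by rw [F.mul_self, mul_one]
        _ = l * z * (z * q) := by group
    · show π (l * z) = 1
      rw [map_mul, ← hj, zpow_add, zpow_mul, zpow_two, ← map_mul π z z, F.mul_self, map_one,
        one_zpow, one_mul, zpow_one, ← map_mul, F.mul_self, map_one]

variable [Finite Ω]

/-- The permutation group has a strongly embedded point stabilizer. -/
theorem stronglyEmbedded : Cfsg.IsStronglyEmbedded (stabilizer F.act.range a) := by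
  haveI := F.pretransitive_range
  haveI : Fact (Nat.Prime 2) := ⟨Nat.prime_two⟩
  obtain ⟨b, hb⟩ := F.moved
  refine ⟨fun e => ?_, even_iff_two_dvd.2 ?_, fun g hg => Nat.not_even_iff_odd.1 fun he => ?_⟩
  · obtain ⟨k, hk⟩ := exists_smul_eq F.act.range a b
    exact hb (hk.symm.trans (mem_stabilizer_iff.1 (e ▸ mem_top k)))
  · have hz := F.orderOf_image (x := ⟨z, subset_normalClosure rfl⟩) (IsConj.refl z)
    rw [← hz]
    refine Subgroup.orderOf_dvd_natCard _ (mem_stabilizer_iff.2 ?_)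
    rw [F.smul_eq]
    exact F.fix z F.mem
  · obtain ⟨⟨w, hwa, y, hy, hwy⟩, hw⟩ := exists_prime_orderOf_dvd_card' 2 (even_iff_two_dvd.1 he)
    rw [← Subgroup.orderOf_coe] at hw
    change orderOf w = 2 at hw
    have hwy' : g * y * g⁻¹ = w := hwy
    have hwga : w • g • a = g • a := by
      rw [← hwy', mul_smul, mul_smul, inv_smul_smul, mem_stabilizer_iff.1 hy]
    obtain ⟨x, rfl⟩ := MonoidHom.rangeRestrict_surjective F.act w
    rw [F.smul_eq] at hwga
    refine hg (mem_stabilizer_iff.2 (F.concl x x.2 (fun c => ?_) ?_ a (g • a) ?_ hwga).symm)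
    · have h1 : F.act.rangeRestrict (x * x) = 1 := by rw [map_mul, Invol.mul_self_eq_one hw]
      exact F.trivial_of_act h1 c
    · by_contra hcon
      push Not at hcon
      exact Invol.ne_one hw (Subtype.ext (Equiv.ext hcon))
    · exact mem_stabilizer_iff.1 hwa

/-- The permutation group has no odd core. -/
theorem oddCore_eq_bot (hp : PairRank F.act.range) : Cfsg.oddCore F.act.range = ⊥ := by
  haveI := F.pretransitive_range
  have hle := Core.normal_odd_le F.stronglyEmbedded hp inferInstance IsoApps.odd_oddCore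
  refine (eq_bot_iff_forall _).2 fun x hx => eq_of_smul_eq_smul (α := Ω) fun b => ?_
  obtain ⟨g, rfl⟩ := exists_smul_eq F.act.range a b
  have h1 := mem_stabilizer_iff.1
    (hle ((inferInstance : (Cfsg.oddCore F.act.range).Normal).conj_mem x hx g⁻¹))
  rw [mul_smul, mul_smul, inv_inv, inv_smul_eq_iff] at h1
  rw [h1, one_smul]

/-- The permutation group is one of the three. -/
theorem three (hp : PairRank F.act.range) : Consumers.Three F.act.range := by
  have hO := F.oddCore_eq_bot hp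
  have h := Consumers.closure_three Consumers.structure_all F.stronglyEmbedded hp
  set π := QuotientGroup.mk' (Cfsg.oddCore F.act.range)
  have hπ : Function.Bijective π := by
    refine ⟨(MonoidHom.ker_eq_bot_iff π).1 ?_, QuotientGroup.mk'_surjective _⟩
    rw [QuotientGroup.ker_mk', hO]
  have htop : Cfsg.pElementClosure 2 (⊤ : Subgroup (F.act.range ⧸ Cfsg.oddCore F.act.range)) = ⊤ := by
    set P := Cfsg.pElementClosure 2 (⊤ : Subgroup (F.act.range ⧸ Cfsg.oddCore F.act.range))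
    have hgen : (⊤ : Subgroup ↥(normalClosure ({z} : Set G))) ≤
        P.comap (π.comp F.act.rangeRestrict) := by
      refine (closure_closure_coe_preimage
        (k := Group.conjugatesOfSet ({z} : Set G))).ge.trans ((closure_le _).2 fun x hx => ?_)
      obtain ⟨_, rfl, hc⟩ := Group.mem_conjugatesOfSet_iff.1 hx
      refine subset_closure ⟨mem_top _, 1, ?_⟩
      rw [pow_one]
      exact (orderOf_injective π hπ.1 _).trans (F.orderOf_image hc)
    refine eq_top_iff.2 fun y _ => ?_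
    obtain ⟨y, rfl⟩ := hπ.2 y
    obtain ⟨x, rfl⟩ := MonoidHom.rangeRestrict_surjective F.act y
    exact hgen (mem_top x)
  exact h.congr (((MulEquiv.ofBijective π hπ).trans Subgroup.topEquiv.symm).trans
    (MulEquiv.subgroupCongr htop.symm))

/-- The conjugates of `z` in `L` lift the involutions of the permutation group as a class. -/
theorem liftData (hp : PairRank F.act.range) :
    LiftData F.act.rangeRestrict {x : ↥(normalClosure ({z} : Set G)) | IsConj z (x : G)} := by
  haveI : Fact (Nat.Prime 2) := ⟨Nat.prime_two⟩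
  have hse := F.stronglyEmbedded
  set L := normalClosure ({z} : Set G)
  set Zs := {x : L | IsConj z (x : G)}
  have hsurj := MonoidHom.rangeRestrict_surjective F.act
  have hzL : z ∈ L := subset_normalClosure rfl
  have hz : (⟨z, hzL⟩ : L) ∈ Zs := IsConj.refl z
  have hconjL : ∀ g q : L, q ∈ Zs → g * q * g⁻¹ ∈ Zs := fun g q hq =>
    IsConj.trans hq (isConj_iff.2 ⟨(g : G), rfl⟩)
  have hinv : ∀ q ∈ Zs, q * q = 1 := fun q hq => by
    obtain ⟨c, hc⟩ := isConj_iff.1 (show IsConj z (q : G) from hq)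
    exact Subtype.ext (by rw [coe_mul, ← hc, coe_one]; exact conj_invol F.mul_self c)
  have hlift : ∀ x : F.act.range, orderOf x = 2 →
      ∃ q ∈ Zs, F.act.rangeRestrict q = x := fun x hx => by
    obtain ⟨g, hg⟩ := isConj_iff.1 (StrongEmbed.isConj_of_invols hse (F.orderOf_image hz) hx)
    obtain ⟨g, rfl⟩ := hsurj g
    exact ⟨_, hconjL g _ hz, by rw [map_mul, map_mul, map_inv, hg]⟩
  -- the lifts are conjugate in `L`
  have hclass : ∀ q ∈ Zs, ∀ r ∈ Zs, ∃ g : L, g * q * g⁻¹ = r := fun q hq r hr => by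
    obtain ⟨g, hg⟩ := isConj_iff.1
      (StrongEmbed.isConj_of_invols hse (F.orderOf_image hq) (F.orderOf_image hr))
    obtain ⟨g, rfl⟩ := hsurj g
    refine ⟨g, Subtype.ext (F.eq_of_act (hconjL g q hq) hr ((F.act_eq_iff).1 ?_))⟩
    rw [map_mul, map_mul, map_inv, hg]
  have hclosed : ∀ q ∈ Zs, ∀ r ∈ Zs, q * r = r * q →
      F.act.rangeRestrict q ≠ F.act.rangeRestrict r → q * r ∈ Zs := by
    intro q hq r hr hc hne
    have h2 : orderOf (F.act.rangeRestrict (q * r)) = 2 := by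
      refine orderOf_eq_prime ?_ fun h => hne ?_
      · rw [sq, ← map_mul, invol_mul (hinv q hq) (hinv r hr) hc, map_one]
      · rw [map_mul, mul_eq_one_iff_eq_inv, ← map_inv,
          inv_eq_of_mul_eq_one_right (hinv r hr)] at h
        exact h
    obtain ⟨s, hs, hse'⟩ := hlift _ h2
    obtain ⟨g, hg⟩ := F.exists_fix (show IsConj z (q : G) from hq)
    have hmem := F.mul_mem_at hq hr (congrArg Subtype.val hc) hg
    have hact := (F.act_eq_iff).1 hse'
    have hfix : ((q : G) * r) • g • a = g • a := by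
      have h := F.fix _ hmem
      rwa [mul_smul, mul_smul, inv_smul_eq_iff] at h
    have hsg : (s : G) • g • a = g • a := (hact _).trans hfix
    have e : s = q * r := Subtype.ext (F.eq_of_act_at (F.mem_at hs hsg) hmem hact)
    exact e ▸ hs
  refine ⟨hsurj, fun y hy => mem_center_iff.2 fun l => Subtype.ext ?_, ?_, hinv,
    fun q hq h => Invol.ne_one (F.orderOf_image hq) h, hconjL,
    fun x hx hx1 => hlift x (orderOf_eq_prime (by rw [sq, hx]) hx1), hclosed,
    fun q hq r hr _ he => Subtype.ext (F.eq_of_act hq hr ((F.act_eq_iff).1 he)), fun q hq => ?_⟩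
  · exact (F.commute_trivial' (F.trivial_of_act (MonoidHom.mem_ker.1 hy)) l.2).eq.symm
  · -- perfect
    obtain ⟨u, v, hu, hv, hne, hc⟩ := hp
    obtain ⟨q, hq, rfl⟩ := hlift u hu
    obtain ⟨r, hr, rfl⟩ := hlift v hv
    have hqr : q * r = r * q := Subtype.ext (F.commute_of_act hr ((F.act_eq_iff (x := q * r) (y := r * q)).1 (by
      rw [map_mul, map_mul]; exact hc.eq))).eq
    have hab : ∀ x ∈ Zs, Abelianization.of x = Abelianization.of (⟨z, hzL⟩ : L) := fun x hx => by
      obtain ⟨g, hg⟩ := hclass _ hz x hx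
      rw [← hg, map_mul, map_mul, map_inv, mul_comm (Abelianization.of g), mul_inv_cancel_right]
    have h1 : Abelianization.of (⟨z, hzL⟩ : L) = 1 := by
      have h := hab _ (hclosed q hq r hr hqr hne)
      rw [map_mul, hab q hq, hab r hr] at h
      exact mul_eq_left.1 h
    have h2 : L ≤ (commutator L).map L.subtype := normalClosure_le_normal
      (Set.singleton_subset_iff.2 ⟨⟨z, hzL⟩, (QuotientGroup.eq_one_iff _).1 h1, rfl⟩)
    refine eq_top_iff.2 fun x _ => ?_
    obtain ⟨y, hy, hyx⟩ := h2 x.2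
    exact (Subtype.ext hyx : y = x) ▸ hy
  · -- central in a Sylow subgroup
    obtain ⟨S, hS⟩ := F.central
    obtain ⟨T₀⟩ : Nonempty (Sylow 2 L) := inferInstance
    obtain ⟨S₁, hS₁⟩ := (T₀.2.map L.subtype).exists_le_sylow
    obtain ⟨g, hg⟩ := MulAction.exists_smul_eq G S S₁
    have hxL : g * z * g⁻¹ ∈ L := normalClosure_normal.conj_mem z hzL g
    obtain ⟨l, hl⟩ := hclass ⟨g * z * g⁻¹, hxL⟩ (isConj_iff.2 ⟨g, rfl⟩) q hq
    refine ⟨l • T₀, ?_⟩
    rintro _ ⟨s, hs, rfl⟩
    obtain ⟨s', hs', hse'⟩ : (s : G) ∈ ((g • S : Sylow 2 G) : Subgroup G) :=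
      hg.symm ▸ hS₁ ⟨s, hs, rfl⟩
    have hse'' : g * s' * g⁻¹ = (s : G) := hse'
    have hcs : s * (⟨g * z * g⁻¹, hxL⟩ : L) = ⟨g * z * g⁻¹, hxL⟩ * s := Subtype.ext (by
      show (s : G) * (g * z * g⁻¹) = g * z * g⁻¹ * (s : G)
      rw [← hse'']
      calc g * s' * g⁻¹ * (g * z * g⁻¹) = g * (s' * z) * g⁻¹ := by group
        _ = g * (z * s') * g⁻¹ := by rw [hS s' hs']
        _ = _ := by group)
    show l * s * l⁻¹ * q = q * (l * s * l⁻¹)
    rw [← hl]
    calc l * s * l⁻¹ * (l * ⟨g * z * g⁻¹, hxL⟩ * l⁻¹)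
        = l * (s * ⟨g * z * g⁻¹, hxL⟩) * l⁻¹ := by group
      _ = l * (⟨g * z * g⁻¹, hxL⟩ * s) * l⁻¹ := by rw [hcs]
      _ = _ := by group

/-- The kernel of the action of `L` has odd order. -/
theorem odd_ker (hp : PairRank F.act.range) : Odd (Nat.card F.act.rangeRestrict.ker) := by
  have hd := F.liftData hp
  rcases F.three hp with ⟨K, i1, i2, ⟨n, hn, hc⟩, ⟨f⟩⟩ | ⟨K, i1, i2, m, hm, hc, ⟨f⟩⟩ |
    ⟨K, i1, i2, n, hn, hc, ⟨f⟩⟩
  · refine hd.odd_ker_of_exponent fun x ⟨i, hi⟩ => f.injective ?_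
    rw [map_mul, map_one]
    have h1 : f x ^ 2 ^ i = 1 := by rw [← map_pow, hi, map_one]
    have h2 : 2 ∣ 2 ^ n := dvd_pow_self 2 (by omega)
    have : 0 < 2 ^ n := by positivity
    rcases CITGraph.spectrum_psl (by omega) hc (f x) with h | h | h
    · rw [← sq]; exact orderOf_dvd_iff_pow_eq_one.1 h
    · rw [Consumers.eq_one_of_two_of_odd ((Nat.odd_iff.2 (by omega)).of_dvd_nat h) h1, mul_one]
    · rw [Consumers.eq_one_of_two_of_odd ((Nat.odd_iff.2 (by omega)).of_dvd_nat h) h1, mul_one]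
  · have h := Suzuki.isSzField_of_card hm hc
    exact hd.odd_ker_of_suzuki h (f.trans (Suzuki.lieEquiv h).symm)
  · let e := Shrink.mulEquiv.{0} (α := ↥(normalClosure ({z} : Set G)))
    haveI : Finite (Shrink.{0} ↥(normalClosure ({z} : Set G))) := Finite.of_equiv _ e.symm.toEquiv
    set τ := (f.toMonoidHom.comp F.act.rangeRestrict).comp e.toMonoidHom
    have hker : ∀ x, x ∈ τ.ker ↔ e x ∈ F.act.rangeRestrict.ker := fun x => f.map_eq_one_iff
    have h := LiftData.odd_ker_of_psu hn hc (τ := τ)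
      ((f.surjective.comp hd.surj).comp e.surjective)
      (fun x hx => mem_center_iff.2 fun y => e.injective (by
        rw [map_mul, map_mul]; exact mem_center_iff.1 (hd.central ((hker x).1 hx)) (e y)))
      (eq_top_iff.2 fun x _ => by
        have h2 : (commutator ↥(normalClosure ({z} : Set G))) ≤
            (commutator (Shrink.{0} ↥(normalClosure ({z} : Set G)))).comap e.symm.toMonoidHom := by
          rw [_root_.commutator_def, Subgroup.commutator_le]
          intro g _ g' _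
          rw [Subgroup.mem_comap, map_commutatorElement]
          exact commutator_mem_commutator (mem_top _) (mem_top _)
        have h4 : e x ∈ commutator ↥(normalClosure ({z} : Set G)) := hd.perfect.symm ▸ mem_top (e x)
        have h3 := h2 h4
        simpa using h3)
    rwa [Nat.card_congr (e.toEquiv.subtypeEquiv hker)] at h

/-- With commuting pairs in the permutation group an involution of `L Q` fixing two points lies in
`Q`. -/
theorem mem_of_pair (hp : PairRank F.act.range) {w l q : G}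
    (hl : l ∈ normalClosure ({z} : Set G)) (hq : q ∈ Q) (hla : l • a = a) (hw : w * w = 1)
    (hwlq : w = l * q) {b : Ω} (hb : b ≠ a) (hwb : w • b = b) : w ∈ Q := by
  haveI := F.pretransitive_range
  haveI : Fact (Nat.Prime 2) := ⟨Nat.prime_two⟩
  set L := normalClosure ({z} : Set G)
  set σ := F.act.rangeRestrict
  set H := stabilizer F.act.range a
  have hse : Cfsg.IsStronglyEmbedded H := F.stronglyEmbedded
  have hO := F.oddCore_eq_bot hp
  obtain ⟨T, hTH, hn, hT2, htr⟩ := Consumers.structure_all _ H hse hO hp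
  have hnT : ∀ h ∈ H, ∀ x ∈ T, h * x * h⁻¹ ∈ T := fun h hh x hx =>
    (mem_normalizer_iff.1 (hn hh) x).1 hx
  -- the image of `Q ∩ L`
  set R := (Q.subgroupOf L).map σ with hR
  have hRH : R ≤ H := by
    rintro _ ⟨r, hr, rfl⟩
    exact F.fix _ hr
  have hnR : ∀ h ∈ H, ∀ x ∈ R, h * x * h⁻¹ ∈ R := by
    intro h hh _ ⟨r, hr, hrx⟩
    subst hrx
    obtain ⟨g, rfl⟩ := MonoidHom.rangeRestrict_surjective F.act h
    exact ⟨g * r * g⁻¹, F.norm (g : G) (mem_stabilizer_iff.1 hh) _ hr, by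
      rw [map_mul, map_mul, map_inv]⟩
  haveI : (R.subgroupOf H).Normal := ⟨fun x hx h => hnR h h.2 x hx⟩
  -- replace `l` by its 2-part
  obtain ⟨l, q, hl, hq, hla, hwlq, hlT⟩ : ∃ l q : G, ∃ hl : l ∈ L, q ∈ Q ∧ l • a = a ∧
      w = l * q ∧ σ ⟨l, hl⟩ ∈ T := by
    have hl2 : l * l ∈ Q := by
      rw [show l * l = (l * q * l⁻¹)⁻¹ * (w * w) * q⁻¹ by rw [hwlq]; group, hw, mul_one]
      exact mul_mem (inv_mem (F.norm l hla q hq)) (inv_mem hq)
    obtain ⟨i, m, hm, hlm⟩ := Nat.exists_eq_two_pow_mul_odd (orderOf_pos l).ne'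
    obtain ⟨j, rfl⟩ := hm
    have hla' : l ^ (2 * j + 1) • a = a := pow_mem (show l ∈ stabilizer G a from hla) _
    refine ⟨l ^ (2 * j + 1), ((l * l) ^ j)⁻¹ * q, pow_mem hl _,
      mul_mem (inv_mem (pow_mem hl2 j)) hq, hla', ?_, ?_⟩
    · rw [hwlq, ← sq, ← pow_mul, pow_succ', mul_assoc, mul_inv_cancel_left]
    · refine Consumers.two_mem_of_shape hse hTH hn htr (mem_stabilizer_iff.2 hla') (i := i) ?_
      rw [← map_pow, ← map_one σ]
      refine congrArg σ (Subtype.ext ?_)
      show (l ^ (2 * j + 1)) ^ 2 ^ i = 1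
      rw [← pow_mul, mul_comm, ← hlm, pow_orderOf_eq_one]
  set t₀ := σ ⟨l, hl⟩
  -- a rank one set-up at `a` and `b`
  obtain ⟨g, hg⟩ := exists_smul_eq F.act.range a b
  have hgH : g ∉ H := fun h => hb (hg.symm.trans h)
  obtain ⟨t, ht, htg⟩ := StrongEmbed.exists_swap hse (x := (QuotientGroup.mk 1 : F.act.range ⧸ H))
    (y := g • QuotientGroup.mk 1) fun h => hgH (StrongEmbed.smul_mk_one_iff.1 h.symm)
  have htH : t ∉ H := fun h => hgH (StrongEmbed.smul_mk_one_iff.1 (by
    rw [← htg, StrongEmbed.smul_mk_one_iff.2 h]))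
  have hsetup := Recog.RankOneSuzuki.Coroll.setup_cosets H T t (Invol.mul_self_eq_one ht) htH hTH
    hnT (fun x hx => htr t x htH hx) (fun x hx h => Consumers.shape_free hse hTH hT2 htH hx h)
    (hse.2.2 t htH) hse.2.1
  haveI := faithful_cosets hse hO
  obtain ⟨u, v, hu, hv, hne, hc⟩ := id hp
  have h2 : ∃ x y : F.act.range, x ≠ 1 ∧ y ≠ 1 ∧ x ≠ y ∧ x * x = 1 ∧ y * y = 1 ∧ x * y = y * x :=
    ⟨u, v, Invol.ne_one hu, Invol.ne_one hv, hne, Invol.mul_self_eq_one hu,
      Invol.mul_self_eq_one hv, hc.eq⟩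
  obtain ⟨k, hk, hk1⟩ := Recog.RankOne.exists_inverted_ne_one hsetup h2
  -- a power of prime order
  obtain ⟨p, hpp, hpk⟩ := (Nat.exists_prime_and_dvd fun h => hk1 (orderOf_eq_one_iff.1 h) :
    ∃ p, p.Prime ∧ p ∣ orderOf k)
  set c := k ^ (orderOf k / p) with hcdef
  have hcord : orderOf c = p := orderOf_pow_orderOf_div (orderOf_pos k).ne' hpk
  have hcinv := Recog.RankOne.pow_mem_inverted hk (orderOf k / p)
  rw [← hcdef] at hcinv
  have hcD := hcinv.1
  have hcH : c ∈ H := by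
    have h := (mem_inf.1 hcD).1
    rwa [stabilizer_quotient] at h
  have hcb : c • b = b := by
    have h : c • t • (QuotientGroup.mk 1 : F.act.range ⧸ H) = t • QuotientGroup.mk 1 :=
      mem_stabilizer_iff.1 (mem_inf.1 hcD).2
    rw [htg] at h
    have h' : (c * (g * 1)) • a = (g * 1) • a := congrArg (ofQuotientStabilizer F.act.range a) h
    rwa [mul_smul, mul_one, hg] at h'
  -- an element of the stabilizer fixing `b` has odd order
  have hodd : ∀ x ∈ H, x • b = b → Odd (orderOf x) := by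
    intro x hx hxb
    refine (hse.2.2 g hgH).of_dvd_nat (Subgroup.orderOf_dvd_natCard _ ⟨hx, g⁻¹ * x * g, ?_, ?_⟩)
    · show (g⁻¹ * x * g) • a = a
      rw [mul_smul, mul_smul, hg, hxb, ← hg, inv_smul_smul]
    · simp [mul_assoc]
  obtain ⟨⟨c₀, hc₀L⟩, hc₀⟩ := MonoidHom.rangeRestrict_surjective F.act c
  have hc₀a : c₀ • a = a := by
    have h := mem_stabilizer_iff.1 hcH
    rwa [← hc₀, F.smul_eq] at h
  have hc₀b : c₀ • b = b := by rwa [← hc₀, F.smul_eq] at hcb
  -- the commutator of `w` and the lift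
  have hr₁Q : q * c₀ * q⁻¹ * c₀⁻¹ ∈ Q := by
    rw [show q * c₀ * q⁻¹ * c₀⁻¹ = q * (c₀ * q⁻¹ * c₀⁻¹) by group]
    exact mul_mem hq (F.norm c₀ hc₀a _ (inv_mem hq))
  have hr₁L : q * c₀ * q⁻¹ * c₀⁻¹ ∈ L :=
    mul_mem (normalClosure_normal.conj_mem c₀ hc₀L q) (inv_mem hc₀L)
  have hwi : w⁻¹ = w := inv_eq_of_mul_eq_one_right hw
  set r₁ := σ ⟨_, hr₁L⟩
  have hr₁R : r₁ ∈ R := ⟨⟨_, hr₁L⟩, hr₁Q, rfl⟩
  set t₁ := c * t₀⁻¹ * c⁻¹
  have ht₁T : t₁ ∈ T := hnT c hcH _ (inv_mem hlT)
  set e := t₀ * r₁ * t₁ with hedef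
  have heL : w * c₀ * w⁻¹ * c₀⁻¹ ∈ L :=
    mul_mem (normalClosure_normal.conj_mem c₀ hc₀L w) (inv_mem hc₀L)
  have hee : σ ⟨_, heL⟩ = e := by
    rw [hedef]
    simp only [t₁]
    rw [← hc₀]
    show σ ⟨_, heL⟩ = σ ⟨l, hl⟩ * σ ⟨_, hr₁L⟩ *
      (σ ⟨c₀, hc₀L⟩ * (σ ⟨l, hl⟩)⁻¹ * (σ ⟨c₀, hc₀L⟩)⁻¹)
    rw [← map_inv, ← map_inv, ← map_mul, ← map_mul, ← map_mul, ← map_mul]
    refine congrArg σ (Subtype.ext ?_)
    show w * c₀ * w⁻¹ * c₀⁻¹ = l * (q * c₀ * q⁻¹ * c₀⁻¹) * (c₀ * l⁻¹ * c₀⁻¹)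
    rw [hwlq]; group
  have hfix : ∀ d : Ω, w • d = d → c₀ • d = d → e • d = d := fun d hwd hcd => by
    rw [← hee, F.smul_eq]
    show (w * c₀ * w⁻¹ * c₀⁻¹) • d = d
    rw [hwi, mul_smul, mul_smul, mul_smul, inv_smul_eq_iff.2 hcd.symm, hwd, hcd, hwd]
  have heH : e ∈ H := mul_mem (mul_mem (hTH hlT) (hRH hr₁R)) (hTH ht₁T)
  have heR : e ∈ R := by
    obtain ⟨i, hi⟩ := hT2 ⟨t₀ * t₁, mul_mem hlT ht₁T⟩
    have h := mem_of_odd_coset (R := R.subgroupOf H) (e := ⟨e, heH⟩)
      (t := ⟨t₀ * t₁, hTH (mul_mem hlT ht₁T)⟩) (i := i)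
      (by rw [Subgroup.orderOf_mk]; exact hodd e heH (hfix b hwb hc₀b))
      (Subtype.ext (congrArg Subtype.val hi :)) (by
        show (t₀ * t₁)⁻¹ * e ∈ R
        rw [show (t₀ * t₁)⁻¹ * e = t₁⁻¹ * r₁ * t₁⁻¹⁻¹ by rw [hedef]; group]
        exact hnR _ (inv_mem (hTH ht₁T)) _ hr₁R)
    exact h
  -- a fixed member of the coset
  have hx : c * t₀⁻¹ * c⁻¹ * t₀⁻¹⁻¹ ∈ T ⊓ R := by
    refine mem_inf.2 ⟨mul_mem ht₁T (inv_mem (inv_mem hlT)), ?_⟩
    rw [show c * t₀⁻¹ * c⁻¹ * t₀⁻¹⁻¹ = r₁⁻¹ * (t₀⁻¹ * e * t₀⁻¹⁻¹) by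
      rw [hedef]; simp only [t₁]; group]
    exact mul_mem (inv_mem hr₁R) (hnR _ (inv_mem (hTH hlT)) _ heR)
  obtain ⟨r, hr, hrc⟩ := exists_fixed_coset (k := c) hpp
    (by rw [← hcord, pow_orderOf_eq_one]) (fun hd => by
      obtain ⟨n, hn'⟩ := IsPGroup.iff_card.1 (hT2.to_le (inf_le_left : T ⊓ R ≤ T))
      rw [hn'] at hd
      have h2p := (Nat.prime_dvd_prime_iff_eq hpp Nat.prime_two).1 (hpp.dvd_of_dvd_pow hd)
      exact absurd (hcord.trans h2p ▸ hodd c hcH hcb) (by decide))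
    (fun r hr => mem_inf.2 ⟨hnT c hcH r (mem_inf.1 hr).1, hnR c hcH r (mem_inf.1 hr).2⟩) hx
  have hrt : r * t₀⁻¹ = 1 := by
    refine Recog.RankOne.inverted_fpf hsetup hcinv (fun h => ?_) (mul_mem (mem_inf.1 hr).1 (inv_mem hlT))
      hrc.symm
    rw [h, orderOf_one] at hcord
    exact hpp.ne_one hcord.symm
  obtain ⟨r₂, hr₂Q, hr₂⟩ : t₀ ∈ R := by rw [← mul_inv_eq_one.1 hrt]; exact (mem_inf.1 hr).2
  -- the kernel part
  set d : L := ⟨l, hl⟩ * r₂⁻¹
  have hd : σ d = 1 := by rw [map_mul, map_inv, hr₂, mul_inv_cancel]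
  have hdq : Commute (d : G) ((r₂ : G) * q) :=
    F.commute_trivial (F.trivial_of_act hd) (mul_mem hr₂Q hq)
  have hwd : w = (d : G) * ((r₂ : G) * q) := by
    rw [hwlq]
    show l * q = l * (r₂ : G)⁻¹ * ((r₂ : G) * q)
    group
  have hd2 : (d : G) * d = 1 := by
    have h1 : (d : G) * d * ((r₂ : G) * q * ((r₂ : G) * q)) = 1 := by
      rw [← hw, hwd]
      calc (d : G) * d * ((r₂ : G) * q * ((r₂ : G) * q))
          = (d : G) * ((d : G) * ((r₂ : G) * q)) * ((r₂ : G) * q) := by group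
        _ = (d : G) * ((r₂ : G) * q * d) * ((r₂ : G) * q) := by rw [hdq.eq]
        _ = _ := by group
    refine F.free _ ?_ fun c => by
      rw [mul_smul, F.trivial_of_act hd, F.trivial_of_act hd]
    rw [mul_eq_one_iff_eq_inv.1 h1]
    exact inv_mem (mul_mem (mul_mem hr₂Q hq) (mul_mem hr₂Q hq))
  have hd1 : d = 1 := Consumers.eq_one_of_two_of_odd
    ((F.odd_ker hp).of_dvd_nat (Subgroup.orderOf_dvd_natCard _ (MonoidHom.mem_ker.2 hd))) (i := 1)
    (by rw [pow_one, sq]; exact Subtype.ext hd2)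
  rw [hwd, hd1, coe_one, one_mul]
  exact mul_mem hr₂Q hq

/-- No involution of `L Q` fixes `a` and another point. -/
theorem eq_of_fix {w l q : G} (hl : l ∈ normalClosure ({z} : Set G)) (hq : q ∈ Q)
    (hwlq : w = l * q) (hw : orderOf w = 2) (hwa : w • a = a) {b : Ω} (hwb : w • b = b) :
    b = a := by
  by_contra hb
  have hla : l • a = a := by
    rwa [hwlq, mul_smul, F.fix q hq] at hwa
  refine hb (F.one w ?_ hw b hwb)
  by_cases hp : PairRank F.act.range
  · exact F.mem_of_pair hp hl hq hla (Invol.mul_self_eq_one hw) hwlq hb hwb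
  · exact F.mem_of_rank_one hp hl hq hla (Invol.mul_self_eq_one hw) hwlq

end Frame

/-! ### The statement -/

variable {G : Type u} [Group G] [Finite G]

/-- The image of an involution modulo an odd normal subgroup is an involution. -/
theorem orderOf_mk_eq_two {M : Subgroup G} [M.Normal] (hM : Odd (Nat.card M)) {x : G}
    (hx : orderOf x = 2) : orderOf (QuotientGroup.mk' M x) = 2 := by
  refine Invol.orderOf_eq_two (by rw [← map_mul, Invol.mul_self_eq_one hx, map_one]) fun h => ?_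
  have h1 := hM.of_dvd_nat (Subgroup.orderOf_dvd_natCard M ((QuotientGroup.eq_one_iff x).1 h))
  rw [hx] at h1
  exact absurd h1 (by decide)

/-- An involution modulo an odd normal subgroup lifts to a power of each preimage. -/
theorem exists_invol_pow {M : Subgroup G} [M.Normal] (hM : Odd (Nat.card M)) {x : G}
    (hx : orderOf (QuotientGroup.mk' M x) = 2) :
    ∃ n : ℕ, orderOf (x ^ n) = 2 ∧ QuotientGroup.mk' M (x ^ n) = QuotientGroup.mk' M x := by
  set π := QuotientGroup.mk' M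
  have hπ2 : π x * π x = 1 := Invol.mul_self_eq_one hx
  have hmem : x * x ∈ M := (QuotientGroup.eq_one_iff _).1 (by
    show π (x * x) = 1
    rw [map_mul, hπ2])
  obtain ⟨j, hj⟩ := hM.of_dvd_nat (Subgroup.orderOf_dvd_natCard M hmem)
  have e : π (x ^ (2 * j + 1)) = π x := by
    rw [map_pow, pow_succ, pow_mul, sq, hπ2, one_pow, one_mul]
  refine ⟨2 * j + 1, Invol.orderOf_eq_two ?_ fun h => ?_, e⟩
  · rw [← pow_add, ← two_mul, pow_mul, sq, ← hj, pow_orderOf_eq_one]
  · rw [h, map_one] at e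
    rw [← e, orderOf_one] at hx
    exact absurd hx (by decide)

/-- A tightly embedded subgroup meeting other normalizers oddly is normal or gives a strongly
embedded subgroup of its normal closure. -/
theorem tightNormalClosure_row (hcore : Core.{u}) (Q : Subgroup G) (hQ : Cfsg.IsTightlyEmbedded Q)
    (hodd : ∀ g : G, g ∉ normalizer (Q : Set G) →
      Odd (Nat.card ↥(Q.map (MulAut.conj g).toMonoidHom ⊓ normalizer (Q : Set G)))) :
    Q.Normal ∨ Cfsg.IsStronglyEmbedded
      ((normalizer (Q : Set G)).subgroupOf (normalClosure (Q : Set G))) := by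
  haveI : Fact (Nat.Prime 2) := ⟨Nat.prime_two⟩
  by_cases hn : Q.Normal
  · exact Or.inl hn
  right
  set N := normalizer (Q : Set G) with hNdef
  have hNne : N ≠ ⊤ := fun e => hn (normalizer_eq_top_iff.1 e)
  have hQN : Q ≤ N := le_normalizer
  have hmeet : ∀ (g x : G), orderOf x = 2 → x ∈ Q.map (MulAut.conj g).toMonoidHom → x ∈ N → g ∈ N :=
    fun g x hx hxQ hxN => by_contra fun hg => Nat.not_even_iff_odd.2 (hodd g hg) (even_iff_two_dvd.2
      (hx ▸ Subgroup.orderOf_dvd_natCard _ ⟨hxQ, hxN⟩))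
  obtain ⟨z, hzQ, hS⟩ := exists_tight_setting hQ.1 hNne hmeet
  have hC : Concl G (G ⧸ N) z :=
    concl_of_core hcore (Nat.card G + 1) G (G ⧸ N) (Nat.lt_succ_self _) _ _ hS
  haveI : IsPretransitive (normalClosure ({z} : Set G)) (G ⧸ N) := hS.pretransitive_normalClosure
  set a : G ⧸ N := QuotientGroup.mk 1
  have hone : ∀ q ∈ Q, orderOf q = 2 → ∀ b : G ⧸ N, q • b = b → b = a := by
    intro q hq hq2 b hb
    obtain ⟨g, rfl⟩ := QuotientGroup.mk_surjective b
    rw [StrongEmbed.smul_mk_iff] at hb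
    refine QuotientGroup.eq.2 ?_
    rw [mul_one]
    refine hmeet _ (g⁻¹ * q * g) ?_ ⟨q, hq, by simp [mul_assoc]⟩ hb
    rw [← hq2]
    simpa using orderOf_injective (MulAut.conj g⁻¹).toMonoidHom (MulAut.conj g⁻¹).injective q
  -- factor out the odd core of the kernel
  set Y := (MulAction.toPermHom G (G ⧸ N)).ker with hY
  have hYN : Y ≤ N := fun y hy =>
    StrongEmbed.smul_mk_one_iff.1 (Equiv.congr_fun (MonoidHom.mem_ker.1 hy) a)
  haveI : (Cfsg.oddCore Y).Characteristic := characteristic_iff_map_le.2 fun φ =>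
    Core.le_oddCore (Normal.map inferInstance φ.toMonoidHom φ.surjective)
      (by rw [card_map_of_injective φ.injective]; exact IsoApps.odd_oddCore)
  set M := (Cfsg.oddCore Y).map Y.subtype with hMdef
  haveI : M.Normal := inferInstance
  have hModd : Odd (Nat.card M) := by
    rw [card_map_of_injective Y.subtype_injective]; exact IsoApps.odd_oddCore
  have hMY : M ≤ Y := map_subtype_le _
  have hQY : ∀ q ∈ Q, q ∈ Y → q ∈ M := by
    haveI : (Q.subgroupOf Y).Normal :=
      normal_subgroupOf_of_le_normalizer (hYN.trans le_rfl)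
    have hodd' : Odd (Nat.card (Q.subgroupOf Y)) := by
      refine Nat.not_even_iff_odd.1 fun he => ?_
      obtain ⟨x, hx⟩ := exists_prime_orderOf_dvd_card' 2 (even_iff_two_dvd.1 he)
      obtain ⟨b, hb⟩ := hS.moved
      refine hb (hone _ x.2 ?_ b (Equiv.congr_fun (MonoidHom.mem_ker.1 x.1.2) b))
      rw [← Subgroup.orderOf_coe, ← Subgroup.orderOf_coe] at hx
      exact hx
    exact fun q hq hqY => ⟨⟨q, hqY⟩, Core.le_oddCore inferInstance hodd' hq, rfl⟩
  let π := QuotientGroup.mk' M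
  have hπs : Function.Surjective π := QuotientGroup.mk'_surjective M
  letI : MulAction (G ⧸ M) (G ⧸ N) :=
    MulAction.compHom _ (QuotientGroup.lift M (MulAction.toPermHom G (G ⧸ N)) hMY)
  have hact : ∀ (g : G) (b : G ⧸ N), π g • b = g • b := fun _ _ => rfl
  have hnc : normalClosure ({π z} : Set (G ⧸ M)) = (normalClosure ({z} : Set G)).map π := by
    rw [map_normalClosure _ _ hπs, Set.image_singleton]
  have F : Frame (G ⧸ M) (G ⧸ N) a (Q.map π) (π z) := by
    refine ⟨?_, ?_, ?_, ?_, mem_map_of_mem π hzQ, orderOf_mk_eq_two hModd hS.ord, ?_, hS.moved,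
      fun b => ?_, ?_⟩
    · rintro _ ⟨q, hq, rfl⟩
      rw [hact]
      exact StrongEmbed.smul_mk_one_iff.2 (hQN hq)
    · rintro g hg _ ⟨q, hq, rfl⟩
      obtain ⟨g, rfl⟩ := hπs g
      rw [hact] at hg
      exact ⟨g * q * g⁻¹, (mem_normalizer_iff.1 (StrongEmbed.smul_mk_one_iff.1 hg) q).1 hq,
        by rw [map_mul, map_mul, map_inv]⟩
    · rintro _ ⟨q, hq, rfl⟩ hq2 b hb
      obtain ⟨n, hn2, hne⟩ := exists_invol_pow hModd hq2
      refine hone (q ^ n) (pow_mem hq n) hn2 b ?_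
      rw [← hne, hact] at hb
      exact hb
    · rintro _ ⟨q, hq, rfl⟩ h
      exact (QuotientGroup.eq_one_iff q).2 (hQY q hq (MonoidHom.mem_ker.2 (Equiv.ext h)))
    · obtain ⟨S, -, hSc⟩ := hS.central
      refine ⟨S.mapSurjective hπs, ?_⟩
      rintro _ ⟨s, hs, rfl⟩
      rw [← map_mul, ← map_mul, hSc s hs]
    · obtain ⟨⟨l, hl⟩, hlb⟩ := MulAction.exists_smul_eq (normalClosure ({z} : Set G)) a b
      exact ⟨π l, hnc ▸ mem_map_of_mem π hl, hlb⟩
    · intro x hx hsq hmv
      rw [hnc] at hx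
      obtain ⟨x, hx, rfl⟩ := hx
      exact hC x hx hsq hmv
  -- `K = L Q`
  have hKLQ : normalClosure (Q : Set G) ≤ normalClosure ({z} : Set G) ⊔ Q := by
    refine (closure_le _).2 fun x hx => ?_
    obtain ⟨q, hq, hc⟩ := Group.mem_conjugatesOfSet_iff.1 hx
    obtain ⟨g, rfl⟩ := isConj_iff.1 hc
    obtain ⟨⟨l, hl⟩, hlg⟩ := MulAction.exists_smul_eq (normalClosure ({z} : Set G)) a (g • a)
    have hn' : l⁻¹ * g ∈ N := StrongEmbed.smul_mk_one_iff.1 (by
      rw [mul_smul, ← hlg]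
      exact inv_smul_smul l a)
    rw [show g * q * g⁻¹ = l * (l⁻¹ * g * q * (l⁻¹ * g)⁻¹) * l⁻¹ by group]
    exact mul_mem (mul_mem (mem_sup_left hl) (mem_sup_right ((mem_normalizer_iff.1 hn' q).1 hq)))
      (inv_mem (mem_sup_left hl))
  have hzK : z ∈ normalClosure (Q : Set G) := subset_normalClosure hzQ
  refine ⟨fun e => ?_, even_iff_two_dvd.2 ?_, fun g hg => Nat.not_even_iff_odd.1 fun he => ?_⟩
  · obtain ⟨b, hb⟩ := hS.moved
    obtain ⟨⟨l, hl⟩, rfl⟩ := MulAction.exists_smul_eq (normalClosure ({z} : Set G)) a b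
    exact hb (StrongEmbed.smul_mk_one_iff.2 (subgroupOf_eq_top.1 e
      (normalClosure_le_normal (Set.singleton_subset_iff.2 hzK) hl)))
  · have h := Subgroup.orderOf_dvd_natCard (N.subgroupOf (normalClosure (Q : Set G)))
      (show (⟨z, hzK⟩ : normalClosure (Q : Set G)) ∈ _ from hQN hzQ)
    rwa [Subgroup.orderOf_mk, hS.ord] at h
  · obtain ⟨⟨w, hwN, y, hy, hwy⟩, hw⟩ := exists_prime_orderOf_dvd_card' 2 (even_iff_two_dvd.1 he)
    rw [← Subgroup.orderOf_coe, ← Subgroup.orderOf_coe] at hw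
    change orderOf (w : G) = 2 at hw
    have hwy' : (g : G) * y * (g : G)⁻¹ = (w : G) := congrArg Subtype.val hwy
    obtain ⟨l, hl, q, hq, hlq⟩ := mem_sup_of_normal_left.1 (hKLQ w.2)
    have hwga : (w : G) • (g : G) • a = (g : G) • a := by
      rw [← hwy', mul_smul, mul_smul, inv_smul_smul, show (y : G) • a = a from StrongEmbed.smul_mk_one_iff.2 hy]
    have h := F.eq_of_fix (l := π l) (q := π q) (hnc ▸ mem_map_of_mem π hl) (mem_map_of_mem π hq)
      (by rw [← map_mul]; exact congrArg π hlq.symm) (orderOf_mk_eq_two hModd hw)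
      (by rw [hact]; exact StrongEmbed.smul_mk_one_iff.2 hwN) (b := (g : G) • a)
      (by rw [hact]; exact hwga)
    exact hg (show (g : G) ∈ N from StrongEmbed.smul_mk_one_iff.1
      (show (g : G) • (QuotientGroup.mk 1 : G ⧸ N) = _ from h))

end CfsgLib.Criterion.Act.Tight
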